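import Cfsg.Agent.KFacts.TwESix.Dat
import Cfsg.Agent.KFacts.RgdTor

/-!
# `²E₆(q)`, `q` even: transport of `Dat`, and the torus of a root

* `Dat.map` : `Dat` along an injective homomorphism;
* `T_comm` : the torus of `RGDTwE6.rgd` is abelian;
* `tor_self` : `T ⊓ ⟨X r, X (-r)⟩` is transitive on the nontrivial elements of `X r`, every root `r`;
* `exists_hne` : if `X r` has more than two elements, some `t ∈ T ⊓ ⟨X r, X (-r)⟩` fixes no nontrivial element of `X r`;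
* `tor_orth` : elements of `T ⊓ ⟨X r, X (-r)⟩` commute with `X b`, `b ⟂ r`, `r` long.
-/

set_option autoImplicit false
set_option linter.unusedSectionVars false
set_option maxHeartbeats 400000

namespace Cfsg.Agent.KFacts.TwESix.Tor

open CoxeterSystem Cfsg.Agent.ChevalleyStructure.CoxeterGeom Cfsg.Agent.Tits.Roots Cfsg.Agent.Tits.Core
  Cfsg.Agent.Tits.RootComb Cfsg.Agent.Tits.Exchange Cfsg.Agent.Nodes.Reps Cfsg.Agent.Nodes.BNOf
  Cfsg.Agent.Nodes.Coroot Cfsg.Agent.KFacts.RgdSL Cfsg.Agent.KFacts.RgdTI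
  Cfsg.Agent.Nodes.RGDTwE6 Cfsg.Agent.KFacts.TwESix.Comb Cfsg.Agent.KFacts.TwESix.CombRho
  Cfsg.Agent.KFacts.TwESix.Facts Cfsg.Agent.KFacts.RgdField
  Cfsg.Agent.Nodes.RGDTwGen Cfsg.Agent.Nodes.RGDFold Cfsg.Agent.Nodes.RGDFoldSL Cfsg.Agent.Nodes.RGDLib
open Cfsg.Agent.Nodes.RGDTwNode.E6
open Cfsg.Lie
open scoped commutatorElement

section Map

variable {W Y Y' : Type*} [Group W] [Group Y] [Group Y'] {cs : CoxeterSystem CoxeterMatrix.F₄ W} {T : Subgroup Y}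
  {n : Fin 4 → Y} {X : (Fin 4 → ℤ) → Subgroup Y}

theorem lr_map (R : RGD cs isCartan 2 T n X) (f : Y →* Y') (R' : RGD cs isCartan 2 (T.map f) (fun i => f (n i))
    (fun x => (X x).map f)) {a : Fin 4 → ℤ} (h : LR R a) : LR R' a where
  root := h.root
  comm := by
    rintro x hx h0 _ ⟨u, hu, rfl⟩ _ ⟨v, hv, rfl⟩
    rw [← map_mul, ← map_mul, h.comm x hx h0 u hu v hv]

/-- **`Dat` along an injective homomorphism.** -/
theorem map {R : RGD cs isCartan 2 T n X} (D : Dat R) (f : Y →* Y') (hf : Function.Injective f) :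
    Dat (rgd_map_of_injective R f hf) where
  lr a ha hl := lr_map R f _ (D.lr a ha hl)
  nc := by
    obtain ⟨x, y, hx, hy, hxx, hyy, hxy, u, hu, v, hv, hne⟩ := D.nc
    refine ⟨x, y, hx, hy, hxx, hyy, hxy, f u, Subgroup.mem_map_of_mem f hu, f v, Subgroup.mem_map_of_mem f hv, ?_⟩
    intro he
    rw [← map_mul, ← map_mul] at he
    exact hne (hf he)

end Map

section Self

variable {W Y : Type*} [Group W] [Group Y] {cs : CoxeterSystem CoxeterMatrix.F₄ W} {T : Subgroup Y}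
  {n : Fin 4 → Y} {X : (Fin 4 → ℤ) → Subgroup Y}

theorem neg_root {b : Fin 4 → ℤ} (hb : b ∈ rts) : -b ∈ rts := by
  revert b
  decide +kernel

/-- **`T ⊓ ⟨X r, X (-r)⟩` is transitive on the nontrivial elements of `X r`.** -/
theorem tor_self [Finite T] (R : RGD cs isCartan 2 T n X) (hab : ∀ s ∈ T, ∀ t ∈ T, s * t = t * s) {r : Fin 4 → ℤ}
    (hr : IsRoot cs isCartan r) {u v : Y} (hu : u ∈ X r) (hu1 : u ≠ 1) (hv : v ∈ X r) (hv1 : v ≠ 1) :
    ∃ t ∈ T ⊓ (X r ⊔ X (-r)), t * u * t⁻¹ = v := by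
  have : Finite W := finiteW cs
  obtain ⟨x, hx, h1, h2⟩ := nbr r ((mem_rts cs).1 hr)
  have hA := a2 cs hr ((mem_rts cs).2 hx) h1.symm (by rw [bf_comm, ← h1]; exact h2)
  exact RgdTor.tor_self hA R hab hu hu1 hv hv1

/-- **Some `t ∈ T ⊓ ⟨X r, X (-r)⟩` fixes no nontrivial element of `X r`.** -/
theorem exists_hne [Finite T] (R : RGD cs isCartan 2 T n X) (hab : ∀ s ∈ T, ∀ t ∈ T, s * t = t * s) {r : Fin 4 → ℤ}
    (hr : IsRoot cs isCartan r) {u v : Y} (hu : u ∈ X r) (hu1 : u ≠ 1) (hv : v ∈ X r) (hv1 : v ≠ 1) (huv : u ≠ v) :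
    ∃ t ∈ T ⊓ (X r ⊔ X (-r)), ∀ w ∈ X r, w ≠ 1 → t * w * t⁻¹ ≠ w := by
  obtain ⟨t, ht, e⟩ := tor_self R hab hr hu hu1 hv hv1
  refine ⟨t, ht, fun w hw hw1 he => ?_⟩
  obtain ⟨k, hk, e2⟩ := tor_self R hab hr hw hw1 hu hu1
  have h1 := hab t ht.1 k hk.1
  apply huv
  rw [← e, ← e2]
  symm
  calc t * (k * w * k⁻¹) * t⁻¹ = (t * k) * w * (t * k)⁻¹ := by group
    _ = k * (t * w * t⁻¹) * k⁻¹ := by rw [h1]; group
    _ = k * w * k⁻¹ := by rw [he]

/-- If `r` is long, `⟨X r, X (-r)⟩` commutes with `X b` for `b ⟂ r`. -/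
theorem orth_comm (R : RGD cs isCartan 2 T n X) (lr : ∀ a, IsRoot cs isCartan a → bf a a = 4 → LR R a)
    {r : Fin 4 → ℤ} (hr : IsRoot cs isCartan r) (hl : bf r r = 4) {b : Fin 4 → ℤ} (hb : IsRoot cs isCartan b)
    (hbr : bf b r = 0) {t x : Y} (ht : t ∈ X r ⊔ X (-r)) (hx : x ∈ X b) : t * x = x * t := by
  have : Finite W := finiteW cs
  have hr' : IsRoot cs isCartan (-r) := (mem_rts cs).2 (neg_root ((mem_rts cs).1 hr))
  have hc : ∀ s, IsRoot cs isCartan s → bf s s = 4 → bf b s = 0 → 0 ≤ cpr cs isCartan b s := by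
    intro s hs hs4 hbs
    have h1 := two_bf cs b hs
    rw [hbs, hs4] at h1
    omega
  have h1 : X r ⊔ X (-r) ≤ Subgroup.centralizer {x} := by
    refine sup_le (fun y hy => ?_) fun y hy => ?_
    · rw [Subgroup.mem_centralizer_singleton_iff]
      exact ((lr r hr hl).comm b hb (hc r hr hl hbr) x hx y hy).symm
    · rw [Subgroup.mem_centralizer_singleton_iff]
      have hl' : bf (-r) (-r) = 4 := by rw [bf_neg_left, bf_neg_right, neg_neg, hl]
      exact ((lr (-r) hr' hl').comm b hb (hc (-r) hr' hl' (by rw [bf_neg_right, hbr, neg_zero])) x hx y hy).symm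
  exact Subgroup.mem_centralizer_singleton_iff.1 (h1 ht)

end Self

section Model

universe u

variable {K : Type u} [Field K] [Fintype K] {q : ℕ} {φ : K →+* K}
variable {W : Type*} [Group W] (cs : CoxeterSystem CoxeterMatrix.F₄ W)

omit [Fintype K] in
/-- the torus is abelian -/
theorem T_comm : ∀ s ∈ T K q, ∀ t ∈ T K q, s * t = t * s := by
  intro s hs t ht
  have hs' : (s : GL chevE6.Idx K) ∈ chevE6.diagonalSubgroup K := (Subgroup.mem_subgroupOf.1 hs).1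
  have ht' : (t : GL chevE6.Idx K) ∈ chevE6.diagonalSubgroup K := (Subgroup.mem_subgroupOf.1 ht).1
  obtain ⟨χ, hχ⟩ := ChevalleyStructure.HMatDiagAll.mem_torus.1
    (ChevalleyStructure.HMatDiagAll.diagonalSubgroup_le_torus hp.inList hs')
  obtain ⟨ψ, hψ⟩ := ChevalleyStructure.HMatDiagAll.mem_torus.1
    (ChevalleyStructure.HMatDiagAll.diagonalSubgroup_le_torus hp.inList ht')
  apply Subtype.ext
  apply Units.ext
  rw [Subgroup.coe_mul, Subgroup.coe_mul, Units.val_mul, Units.val_mul, hχ, hψ, Matrix.diagonal_mul_diagonal,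
    Matrix.diagonal_mul_diagonal]
  congr 1
  funext i
  exact mul_comm _ _

/-- a long root group has `q` elements -/
theorem card_long [CharP K 2] (hφ : ∀ x, φ x = x ^ q) (hqq : ∀ t : K, (t ^ q) ^ q = t)
    (hK : Fintype.card K = q ^ 2) (hq1 : 1 < q) {r : Fin 4 → ℤ} (hr : IsRoot cs isCartan r) (hl : bf r r = 4) :
    Nat.card ↥(X φ q r) = q := by
  have : Finite W := finiteW cs
  obtain ⟨w, rfl⟩ := exists_rep_long cs hr hl
  rw [NonComm.card_rep (rgd cs hφ hqq 2) w (isRoot_sr cs isCartan 0), OutTwo.card_of_coord (Out.coordE hφ hqq 0),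
    ← ChevalleyStructure.FixedCard.card_fixed hq1 hK]
  refine Nat.card_congr (Equiv.subtypeEquivRight fun x => ?_)
  show x ∈ Fx φ 1 ↔ _
  rw [mem_Fx, Function.iterate_one, hφ]

/-- a short root group has `q²` elements -/
theorem card_short [CharP K 2] (hφ : ∀ x, φ x = x ^ q) (hqq : ∀ t : K, (t ^ q) ^ q = t)
    (hK : Fintype.card K = q ^ 2) {r : Fin 4 → ℤ} (hr : IsRoot cs isCartan r) (hl : bf r r = 2) :
    Nat.card ↥(X φ q r) = q ^ 2 := by
  have : Finite W := finiteW cs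
  obtain ⟨w, rfl⟩ := exists_rep_short cs hr hl
  rw [NonComm.card_rep (rgd cs hφ hqq 2) w (isRoot_sr cs isCartan 3), OutTwo.card_of_coord (Out.coordE hφ hqq 3)]
  have h1 : (Fx φ 2 : Subfield K) = ⊤ := Out.F2_eq_top hφ hqq
  show Nat.card ↥(Fx φ 2) = _
  rw [h1, Nat.card_congr Subfield.topEquiv.toEquiv, Nat.card_eq_fintype_card, hK]

/-- **`q > 2`: some element of `T ⊓ ⟨X r, X (-r)⟩` fixes no nontrivial element of `X r`.** -/
theorem hne [CharP K 2] (hφ : ∀ x, φ x = x ^ q) (hqq : ∀ t : K, (t ^ q) ^ q = t)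
    (hK : Fintype.card K = q ^ 2) (hq2 : 2 < q) {r : Fin 4 → ℤ} (hr : IsRoot cs isCartan r) (hl : bf r r = 4) :
    ∃ t ∈ T K q ⊓ (X φ q r ⊔ X φ q (-r)), ∀ w ∈ X φ q r, w ≠ 1 → t * w * t⁻¹ ≠ w := by
  classical
  have h1 := card_long cs hφ hqq hK (by omega) hr hl
  have : Fintype ↥(X φ q r) := Fintype.ofFinite _
  have h2 : 2 < Fintype.card ↥(X φ q r) := by rw [← Nat.card_eq_fintype_card, h1]; exact hq2
  obtain ⟨u, v, w, huv, huw, hvw⟩ := Fintype.two_lt_card_iff.1 h2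
  have key : ∃ a b : ↥(X φ q r), a ≠ 1 ∧ b ≠ 1 ∧ a ≠ b := by
    by_cases hu : u = 1
    · subst hu
      exact ⟨v, w, huv.symm, huw.symm, hvw⟩
    · by_cases hv : v = 1
      · subst hv
        exact ⟨u, w, hu, hvw.symm, huw⟩
      · exact ⟨u, v, hu, hv, huv⟩
  obtain ⟨a, b, ha, hb, hab⟩ := key
  exact exists_hne (rgd cs hφ hqq 2) T_comm hr a.2 (fun h => ha (Subtype.ext h)) b.2 (fun h => hb (Subtype.ext h))
    (fun h => hab (Subtype.ext h))

end Model

end Cfsg.Agent.KFacts.TwESix.Tor
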