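import Cfsg.Agent.KFacts.TwESix.Facts
import Cfsg.Agent.OddHalf.D7Tw.Loc

/-!
# `²E₆(q)`: the stabiliser of the highest root group (packet [B1])

`P = ⟨X b : b 0 ≥ 0⟩` (`= RGD.Sup X (Ge ρ)`), `Q = ⟨X b : b 0 ≥ 1⟩` (`= RGD.Sup X (Rad ρ)`), `Z = X ρ`.

* `loc` : the local structure `D7Tw.Loc` at `ρ`;
* `perfect` : `⁅P, P⁆ = P`;
* `QS_eq` : the group `Q` of `Loc` is `RGD.Sup X (Rad ρ)`.
-/

set_option autoImplicit false
set_option linter.unusedSectionVars false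

namespace Cfsg.Agent.KFacts.TwESix.QRho

open CoxeterSystem Cfsg.Agent.ChevalleyStructure.CoxeterGeom Cfsg.Agent.Tits.Roots Cfsg.Agent.Tits.Core
  Cfsg.Agent.Tits.RootComb Cfsg.Agent.Tits.Exchange Cfsg.Agent.Nodes.Reps Cfsg.Agent.Nodes.BNOf
  Cfsg.Agent.Nodes.StabComb Cfsg.Agent.Nodes.Bruhat Cfsg.Agent.Nodes.OppDec
  Cfsg.Agent.Nodes.Coroot Cfsg.Agent.KFacts.RgdSL Cfsg.Agent.KFacts.RgdTI Cfsg.Agent.KFacts.RgdOdd
  Cfsg.Agent.KFacts.RgdEx
  Cfsg.Agent.Nodes.RGDTwE6 Cfsg.Agent.KFacts.TwESix.Comb Cfsg.Agent.KFacts.TwESix.CombRho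
  Cfsg.Agent.KFacts.TwESix.Facts Cfsg.Agent.OddHalf.D7Tw
open scoped commutatorElement

/-- The roots `b` with `⟨b, ρ^∨⟩ = 1`. -/
abbrev Ix := {b : Fin 4 → ℤ // b ∈ rts ∧ b 0 = 1}

instance : Finite Ix := by
  have h1 : {b : Fin 4 → ℤ | b ∈ rts}.Finite := List.finite_toSet rts
  exact (h1.subset (fun b (hb : b ∈ rts ∧ b 0 = 1) => hb.1)).to_subtype

/-- `b ↦ ρ - b` -/
def op (b : Ix) : Ix := ⟨rho - b.1, (op_mem b.1 b.2.1 b.2.2).1, (op_mem b.1 b.2.1 b.2.2).2.1⟩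

/-- the long ones -/
def gd : Set Ix := {b | bf b.1 b.1 = 4}

theorem op_val (b : Ix) : (op b).1 = rho - b.1 := rfl

theorem add_op (b : Ix) : b.1 + (op b).1 = rho := by rw [op_val]; abel

variable {W Y : Type*} [Group W] [Group Y] {cs : CoxeterSystem CoxeterMatrix.F₄ W} {T : Subgroup Y} {n : Fin 4 → Y}
  {X : (Fin 4 → ℤ) → Subgroup Y}

theorem root (b : Ix) : IsRoot cs isCartan b.1 := (mem_rts cs).2 b.2.1

theorem Ge_eq : Ge cs isCartan rho = {b | IsRoot cs isCartan b ∧ 0 ≤ b 0} := by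
  ext b
  simp only [Ge, Set.mem_ofPred_eq, cpr_rho]

theorem Rad_eq : Rad cs isCartan rho = {b | IsRoot cs isCartan b ∧ 1 ≤ b 0} := by
  ext b
  simp only [Rad, Set.mem_ofPred_eq, cpr_rho]

/-- `P = ⟨X b : b 0 ≥ 0⟩` -/
abbrev PP (cs : CoxeterSystem CoxeterMatrix.F₄ W) (X : (Fin 4 → ℤ) → Subgroup Y) : Subgroup Y :=
  RGD.Sup X (Ge cs isCartan rho)

/-- `Q = ⟨X b : b 0 ≥ 1⟩` -/
abbrev QQ (cs : CoxeterSystem CoxeterMatrix.F₄ W) (X : (Fin 4 → ℤ) → Subgroup Y) : Subgroup Y :=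
  RGD.Sup X (Rad cs isCartan rho)

theorem le_PP {b : Fin 4 → ℤ} (hb : IsRoot cs isCartan b) (h0 : 0 ≤ b 0) : X b ≤ PP cs X :=
  RGD.le_Sup (by rw [Ge_eq]; exact ⟨hb, h0⟩)

theorem le_QQ {b : Fin 4 → ℤ} (hb : IsRoot cs isCartan b) (h0 : 1 ≤ b 0) : X b ≤ QQ cs X :=
  RGD.le_Sup (by rw [Rad_eq]; exact ⟨hb, h0⟩)

theorem PP_le {D : Subgroup Y} (h : ∀ b, IsRoot cs isCartan b → 0 ≤ b 0 → X b ≤ D) : PP cs X ≤ D :=
  RGD.Sup_le fun b hb => by
    rw [Ge_eq] at hb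
    exact h b hb.1 hb.2

theorem QQ_le {D : Subgroup Y} (h : ∀ b, IsRoot cs isCartan b → 1 ≤ b 0 → X b ≤ D) : QQ cs X ≤ D :=
  RGD.Sup_le fun b hb => by
    rw [Rad_eq] at hb
    exact h b hb.1 hb.2

theorem QS_eq : QS (fun b : Ix => X b.1) (X rho) Set.univ = QQ cs X := by
  apply le_antisymm
  · refine QS_le (le_QQ (rho_root cs) (by decide)) fun b _ => le_QQ (root b) (by rw [b.2.2])
  · refine QQ_le fun b hb h1 => ?_
    have h2 := zero_le b ((mem_rts cs).1 hb)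
    by_cases h3 : b 0 = 2
    · rw [eq_rho b ((mem_rts cs).1 hb) h3]
      exact Z_le_QS _ _ _
    · exact le_QS (fun b : Ix => X b.1) (X rho) (b := ⟨b, (mem_rts cs).1 hb, by omega⟩) (Set.mem_univ _)

theorem QQ_le_PP : QQ cs X ≤ PP cs X := QQ_le fun _ hb h1 => le_PP hb (by omega)

section RR

variable (R : RGD cs isCartan 2 T n X)

include R

/-- `P` normalises `Q`. -/
theorem PP_normalizer : PP cs X ≤ Subgroup.normalizer (QQ cs X : Set Y) := by
  have key : ∀ c, IsRoot cs isCartan c → 0 ≤ c 0 → ∀ v ∈ X c, ∀ q ∈ QQ cs X, v * q * v⁻¹ ∈ QQ cs X := by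
    intro c hc hc0 v hv
    have hle : QQ cs X ≤ (QQ cs X).comap (MulAut.conj v).toMonoidHom := by
      refine QQ_le fun a ha ha1 x hx => ?_
      show v * x * v⁻¹ ∈ QQ cs X
      by_cases hca : c = a
      · subst hca
        exact mul_mem (mul_mem (le_QQ ha ha1 hv) (le_QQ ha ha1 hx)) (inv_mem (le_QQ ha ha1 hv))
      have hne : c ≠ -a := by
        rintro rfl
        rw [Pi.neg_apply] at hc0
        omega
      have h1 := R.comm c a hc ha hca hne v hv x hx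
      have h2 : btw cs isCartan X c a ≤ QQ cs X := by
        refine iSup_le fun z => ?_
        obtain ⟨hz, m, s, t, hm, hs, ht, he⟩ := z.2
        refine le_QQ hz ?_
        have h3 := congrFun he 0
        simp only [Pi.add_apply, Pi.smul_apply, smul_eq_mul] at h3
        have h4 : 0 < m * z.1 0 := by rw [h3]; nlinarith
        exact (pos_iff_pos_of_mul_pos h4).1 hm
      have e : v * x * v⁻¹ = ⁅v, x⁆ * x := by rw [commutatorElement_def]; group
      rw [e]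
      exact mul_mem (h2 h1) (le_QQ ha ha1 hx)
    intro q hq
    exact hle hq
  refine PP_le fun c hc hc0 v hv => ?_
  rw [Subgroup.mem_normalizer_iff]
  intro q
  constructor
  · exact key c hc hc0 v hv q
  · intro hq
    have := key c hc hc0 v⁻¹ (inv_mem hv) _ hq
    have e : v⁻¹ * (v * q * v⁻¹) * v⁻¹⁻¹ = q := by group
    rwa [e] at this

variable {R}
variable (D : Dat R)

include D

theorem comm1' {a b : Ix} (hab : b ≠ op a) {x y : Y} (hx : x ∈ X a.1) (hy : y ∈ X b.1) : x * y = y * x := by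
  have hab' : b.1 ≠ rho - a.1 := fun h => hab (Subtype.ext h)
  rcases comm1 a.1 a.2.1 a.2.2 b.1 b.2.1 b.2.2 hab' with ⟨h1, h2⟩ | ⟨h1, h2⟩ | ⟨h1, h2, h3⟩
  · exact (comm_long D (root b) (root a) h1 h2 hy hx).symm
  · exact comm_long D (root a) (root b) h1 h2 hx hy
  · rcases h3 with h3 | h3
    · rw [← h3] at hy
      exact abel R (root a) hx hy
    · exact comm_60 R (root a) (root b) h1 h2 h3 hx hy

/-- `ρ` and `Φ₁`, `b` long -/
theorem a2_op {b : Ix} (hb : bf b.1 b.1 = 4) : A2 cs isCartan b.1 (op b).1 := by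
  obtain ⟨h1, h2, h3, h4⟩ := op_mem b.1 b.2.1 b.2.2
  rw [if_pos hb] at h4
  exact a2 cs (root b) (root (op b)) h3.symm (by rw [op_val, h4, hb])

theorem orth_op {b : Ix} (hb : bf b.1 b.1 ≠ 4) : bf b.1 b.1 = 2 ∧ bf (op b).1 (op b).1 = 2 ∧ bf b.1 (op b).1 = 0 := by
  obtain ⟨h1, h2, h3, h4⟩ := op_mem b.1 b.2.1 b.2.2
  rw [if_neg hb] at h4
  have h5 := (norm cs (root b)).resolve_left hb
  refine ⟨h5, by rw [op_val, h3, h5], by rw [op_val]; omega⟩

theorem cen_PP {z p : Y} (hz : z ∈ X rho) (hp : p ∈ PP cs X) : z * p = p * z := by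
  have : Finite W := finiteW cs
  exact ((D.lr rho (rho_root cs) rho_long).comm' hp hz).symm

/-- the commutators with a long root group orthogonal to `ρ` -/
theorem sep_mem {d : Fin 4 → ℤ} (hd : IsRoot cs isCartan d) (hd0 : d 0 = 0) (hdd : bf d d = 4) {p : Y} (hp : p ∈ X d)
    (c : Ix) {x : Y} (hx : x ∈ X c.1) :
    p * x * p⁻¹ * x⁻¹ ∈ QS (fun b : Ix => X b.1) (X rho) {b : Ix | bf b.1 d = 2} := by
  rw [← commutatorElement_def]
  rcases sep_comm d ((mem_rts cs).1 hd) hd0 hdd c.1 c.2.1 c.2.2 with h1 | ⟨h1, h2, h3, h4, h5⟩ |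
    ⟨h1, h2, h3, h4, h5, h6⟩
  · have h2 := comm_long D (root c) hd hdd h1 hx hp
    rw [commutatorElement_eq_one_iff_mul_comm.2 h2.symm]
    exact one_mem _
  · have hA : A2 cs isCartan d c.1 := a2 cs hd (root c) (by rw [hdd, h1]) (by rw [bf_comm, h2, hdd]; norm_num)
    have : Finite W := finiteW cs
    exact le_QS (fun b : Ix => X b.1) (X rho) (S := {b : Ix | bf b.1 d = 2}) (b := ⟨d + c.1, h4, h5⟩) h3
      (hA.comm_mem R hp hx)
  · have h7 := btw_135 R hd (root c) hdd h1 h2 hp hx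
    rw [h6] at h7
    refine (sup_le ?_ (Z_le_QS _ _ _)) h7
    exact le_QS (fun b : Ix => X b.1) (X rho) (S := {b : Ix | bf b.1 d = 2}) (b := ⟨d + c.1, h4, h5⟩) h3

/-- **The local structure at `X ρ`.** -/
theorem loc : Loc (fun b : Ix => X b.1) (X rho) (PP cs X) op gd := by
  have : Finite W := finiteW cs
  refine
    { Z2 := fun z hz => sq R (rho_root cs) hz
      opop := fun b => Subtype.ext (by rw [op_val, op_val]; abel)
      ZP := le_PP (rho_root cs) (by decide)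
      cen := fun z hz p hp => cen_PP D hz hp
      XP := fun b => le_PP (root b) (by rw [b.2.2]; norm_num)
      comm := fun a b hab x hx y hy => comm1' D hab hx hy
      brk := ?_
      nd := ?_
      onto := ?_
      norm := ?_
      ex := ?_
      sep := ?_
      tor := ?_
      sq := fun b _ x hx => sq R (root b) hx
      short := ?_ }
  · -- brk
    intro a x hx y hy
    rw [← commutatorElement_def, ← add_op a]
    by_cases ha : bf a.1 a.1 = 4
    · exact (a2_op D ha).comm_mem R hx hy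
    · obtain ⟨h1, h2, h3⟩ := orth_op D ha
      exact orth_mem R (root a) (root (op a)) h1 h2 h3 hx hy
  · -- nd
    intro a x hx hc
    by_contra hx1
    by_cases ha : bf a.1 a.1 = 4
    · obtain ⟨y, hy, hy1⟩ := exists_ne_one R (root (cs := cs) (op a))
      exact (a2_op D ha).comm_ne_one R hx hx1 hy hy1 (commutatorElement_eq_one_iff_mul_comm.2 (hc y hy))
    · obtain ⟨h1, h2, h3⟩ := orth_op D ha
      obtain ⟨y, hy, hne⟩ := orth_nd D (root a) (root (op a)) h1 h2 h3 hx hx1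
      exact hne (hc y hy)
  · -- onto
    have hb : (![1, 2, 2, 0] : Fin 4 → ℤ) ∈ rts ∧ (![1, 2, 2, 0] : Fin 4 → ℤ) 0 = 1 := by decide +kernel
    refine ⟨⟨![1, 2, 2, 0], hb⟩, fun z hz => ?_⟩
    have ha : bf (![1, 2, 2, 0] : Fin 4 → ℤ) ![1, 2, 2, 0] = 4 := by decide +kernel
    obtain ⟨x, hx, hx1⟩ := exists_ne_one R (root (cs := cs) ⟨![1, 2, 2, 0], hb⟩)
    rw [← add_op ⟨![1, 2, 2, 0], hb⟩] at hz
    obtain ⟨v, hv, e⟩ := (a2_op D (b := ⟨![1, 2, 2, 0], hb⟩) ha).comm_surj R hx hx1 hz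
    rw [← e]
    exact Subgroup.commutator_mem_commutator hx hv
  · -- norm
    intro p hp a x hx
    rw [QS_eq (cs := cs)]
    exact (Subgroup.mem_normalizer_iff.1 (PP_normalizer R hp) x).1 (le_QQ (root a) (by rw [a.2.2]) hx)
  · -- ex
    intro b
    obtain ⟨d, hd, hd0, ha, h1, h2, h3, h4, h5⟩ := ex b.1 b.2.1 b.2.2
    have hdr := (mem_rts cs).2 hd
    obtain ⟨p, hp, hp1⟩ := exists_ne_one R hdr
    have ha0 : (b.1 - d) 0 = 1 := by rw [Pi.sub_apply, b.2.2, hd0]; norm_num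
    refine ⟨p, le_PP hdr (by rw [hd0]) hp, ⟨b.1 - d, ha, ha0⟩, fun h => h5 (congrArg Subtype.val h), ?_, ?_⟩
    · intro u hu
      have hA : A2 cs isCartan d (b.1 - d) := a2 cs hdr ((mem_rts cs).2 ha) (by rw [h1, h2]) (by rw [h3, h1])
      obtain ⟨x, hx, e⟩ := hA.comm_surj R hp hp1 (w := u) (by rw [add_sub_cancel]; exact hu)
      exact ⟨x, hx, 1, one_mem _, by rw [mul_one, ← e, commutatorElement_def]⟩
    · intro y hy
      have hop := op_mem b.1 b.2.1 b.2.2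
      have hA : A2 cs isCartan d (rho - b.1) := a2 cs hdr ((mem_rts cs).2 hop.1) (by rw [h1, hop.2.2.1])
        (by rw [h4, h1])
      have e0 : rho - (b.1 - d) = d + (rho - b.1) := by abel
      have hy' : y ∈ X (d + (rho - b.1)) := by
        rw [← e0]; exact hy
      obtain ⟨c, hc, e⟩ := hA.comm_surj R hp hp1 hy'
      exact ⟨c, hc, 1, one_mem _, by rw [mul_one, ← e, commutatorElement_def]⟩
  · -- sep
    intro b hb b' hne
    obtain ⟨d, hd, hd0, hdd, h1, h2, h3⟩ := sep b.1 b.2.1 b.2.2 hb b'.1 b'.2.1 b'.2.2 fun h => hne (Subtype.ext h)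
    have hdr := (mem_rts cs).2 hd
    obtain ⟨p, hp, hp1⟩ := exists_ne_one R hdr
    have ha0 : (b.1 - d) 0 = 1 := by rw [Pi.sub_apply, b.2.2, hd0]; norm_num
    refine ⟨p, le_PP hdr (by rw [hd0]) hp, {b : Ix | bf b.1 d = 2}, h2, fun c x hx => sep_mem D hdr hd0 hdd hp c hx,
      fun u hu => ?_⟩
    have hb' : bf b.1 b.1 = 4 := hb
    have hA : A2 cs isCartan d (b.1 - d) := by
      refine a2 cs hdr ((mem_rts cs).2 h3) ?_ ?_
      · rw [bf_sub_left, bf_sub_right, bf_sub_right, bf_comm d b.1, h1, hdd, hb']; norm_num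
      · rw [bf_sub_right, bf_comm d b.1, h1, hdd]; norm_num
    obtain ⟨x, hx, e⟩ := hA.comm_surj R hp hp1 (w := u) (by rw [add_sub_cancel]; exact hu)
    exact ⟨x, le_QS (fun b : Ix => X b.1) (X rho) (b := ⟨b.1 - d, h3, ha0⟩) (Set.mem_univ _) hx, 1, one_mem _,
      by rw [mul_one, ← e, commutatorElement_def]⟩
  · -- tor
    intro b hb x hx y hy hx1 hy1
    have hb' : bf b.1 b.1 = 4 := hb
    obtain ⟨d, hd, hd0, hdd, h1⟩ := tor b.1 b.2.1 b.2.2 hb
    have hdr := (mem_rts cs).2 hd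
    have hA : A2 cs isCartan d b.1 := a2 cs hdr (root b) (by rw [hdd, hb']) (by rw [h1, hdd])
    obtain ⟨t, ht, e⟩ := hA.tor_trans R hx hx1 hy hy1
    refine ⟨t, ?_, e⟩
    refine (sup_le (le_PP hdr (by rw [hd0])) (le_PP hdr.neg ?_)) ht.2
    rw [Pi.neg_apply, hd0]; norm_num
  · -- short
    intro b hb u hu
    have hb' : bf b.1 b.1 = 2 := (norm cs (root b)).resolve_left hb
    obtain ⟨c, hc, hc0, hcc, d, hd, hd0, hdd, hcd, hs, hl, hll, hl0⟩ := short b.1 b.2.1 b.2.2 hb'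
    have hcr := (mem_rts cs).2 hc
    have hdr := (mem_rts cs).2 hd
    obtain ⟨x, hx, hx1⟩ := exists_ne_one R hcr
    obtain ⟨v, hv, z, hz, e⟩ := surj_135 D hcr hdr hcc hdd hcd (by rw [hs]; exact root b) ((mem_rts cs).2 hl) hx hx1
      (w := u) (by rw [hs]; exact hu)
    have hxg : x ∈ QS (fun b : Ix => X b.1) (X rho) gd :=
      le_QS (fun b : Ix => X b.1) (X rho) (b := ⟨c, hc, hc0⟩) hcc hx
    have hzg : z ∈ QS (fun b : Ix => X b.1) (X rho) gd :=
      le_QS (fun b : Ix => X b.1) (X rho) (b := ⟨c + (2 : ℤ) • d, hl, hl0⟩) hll hz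
    refine ⟨v, le_PP hdr (by rw [hd0]) hv, x, hxg, x⁻¹, inv_mem hxg, z⁻¹, inv_mem hzg, ?_⟩
    rw [eq_mul_inv_iff_mul_eq, ← e, commutatorElement_def]
    group

/-- **`P` is perfect.** -/
theorem perfect : ⁅PP cs X, PP cs X⁆ = PP cs X := by
  have : Finite W := finiteW cs
  refine le_antisymm (Subgroup.commutator_le_self _) (PP_le fun b hb hb0 w hw => ?_)
  rcases perf b ((mem_rts cs).1 hb) hb0 with ⟨c, hc, hc0, d, hd, hd0, h1, h2, h3⟩ | ⟨h0, c, hc, hc0, d, hd, hd0, h1, h2, h3, h4⟩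
  · have hcr := (mem_rts cs).2 hc
    have hdr := (mem_rts cs).2 hd
    have hA : A2 cs isCartan c d := a2 cs hcr hdr h1 h2
    obtain ⟨u, hu, hu1⟩ := exists_ne_one R hcr
    obtain ⟨v, hv, e⟩ := hA.comm_surj R hu hu1 (w := w) (by rw [h3]; exact hw)
    rw [← e]
    exact Subgroup.commutator_mem_commutator (le_PP hcr hc0 hu) (le_PP hdr hd0 hv)
  · have hcr := (mem_rts cs).2 hc
    have hdr := (mem_rts cs).2 hd
    obtain ⟨u, hu, v, hv, e⟩ := orth_surj D hcr hdr h1 h2 h3 (w := w) (by rw [h4]; exact hw)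
    rw [← e]
    exact Subgroup.commutator_mem_commutator (le_PP hcr hc0 hu) (le_PP hdr hd0 hv)

end RR

end Cfsg.Agent.KFacts.TwESix.QRho
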