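import Cfsg.Agent.KFacts.TwESix.Comb

/-!
# Intervals in the relative root system `F₄` of `²E₆(q)`

* `btwn_spec` : `Btwn x y z` in terms of the form (`bt x y z`, decidable);
* `long_neg` : `x + y` for long `x`, `y` at 120 degrees; `btwn_135*` : the intervals in a `C₂`; `btwn_90` : `x + y` for short
  orthogonal roots.
-/

set_option autoImplicit false
set_option linter.unusedSectionVars false

namespace Cfsg.Agent.KFacts.TwESix.Btw

open CoxeterSystem Cfsg.Agent.ChevalleyStructure.CoxeterGeom Cfsg.Agent.Tits.Roots Cfsg.Agent.Tits.Core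
  Cfsg.Agent.Tits.RootComb Cfsg.Agent.Nodes.Reps Cfsg.Agent.Nodes.BNOf Cfsg.Agent.Nodes.Coroot
  Cfsg.Agent.KFacts.RgdSL Cfsg.Agent.Nodes.RGDTwE6 Cfsg.Agent.KFacts.TwESix.Comb

variable {W : Type*} [Group W] (cs : CoxeterSystem CoxeterMatrix.F₄ W)

/-- the Gram determinant -/
def dd (x y : Fin 4 → ℤ) : ℤ := bf x x * bf y y - bf x y * bf x y

/-- the coefficient of `x` in `dd x y • z` -/
def ca (x y z : Fin 4 → ℤ) : ℤ := bf z x * bf y y - bf z y * bf x y

/-- `z` is between `x` and `y` -/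
def bt (x y z : Fin 4 → ℤ) : Prop :=
  0 < ca x y z ∧ 0 < ca y x z ∧ dd x y • z = ca x y z • x + ca y x z • y

instance (x y z : Fin 4 → ℤ) : Decidable (bt x y z) := by unfold bt; infer_instance

theorem dd_pos : ∀ x ∈ rts, ∀ y ∈ rts, x = y ∨ x = -y ∨ 0 < dd x y := by decide +kernel

theorem btwn_spec {x y z : Fin 4 → ℤ} (hx : IsRoot cs isCartan x) (hy : IsRoot cs isCartan y) (hxy : x ≠ y)
    (hxy' : x ≠ -y) (hz : Btwn cs isCartan x y z) : z ∈ rts ∧ bt x y z := by
  obtain ⟨hzr, m, a, b, hm, ha, hb, he⟩ := hz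
  refine ⟨(mem_rts cs).1 hzr, ?_⟩
  have hD : 0 < dd x y := by
    rcases dd_pos x ((mem_rts cs).1 hx) y ((mem_rts cs).1 hy) with h | h | h
    · exact absurd h hxy
    · exact absurd h hxy'
    · exact h
  have e1 : m * bf z x = a * bf x x + b * bf x y := by
    have := congrArg (fun v => bf v x) he
    simp only [bf_add_left, bf_smul_left] at this
    rw [this, bf_comm y x]
  have e2 : m * bf z y = a * bf x y + b * bf y y := by
    have := congrArg (fun v => bf v y) he
    simp only [bf_add_left, bf_smul_left] at this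
    rw [this]
  have f1 : m * ca x y z = a * dd x y := by
    unfold ca dd
    linear_combination (bf y y) * e1 - (bf x y) * e2
  have f2 : m * ca y x z = b * dd x y := by
    unfold ca dd
    rw [bf_comm y x]
    linear_combination (bf x x) * e2 - (bf x y) * e1
  have g1 : 0 < ca x y z := by
    have : 0 < m * ca x y z := by rw [f1]; exact mul_pos ha hD
    exact (mul_pos_iff_of_pos_left hm).1 this
  have g2 : 0 < ca y x z := by
    have : 0 < m * ca y x z := by rw [f2]; exact mul_pos hb hD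
    exact (mul_pos_iff_of_pos_left hm).1 this
  refine ⟨g1, g2, ?_⟩
  have h1 : m • (dd x y • z) = m • (ca x y z • x + ca y x z • y) := by
    rw [smul_comm, he, smul_add, smul_add, smul_smul, smul_smul, smul_smul, smul_smul, f1, f2,
      mul_comm (dd x y), mul_comm (dd x y)]
  exact smul_right_injective _ hm.ne' h1

/-! ### `s` long, `d` short, at 135 degrees -/

theorem sd_roots : ∀ s ∈ rts, bf s s = 4 → ∀ d ∈ rts, bf d d = 2 → bf s d = -2 → s + d ∈ rts ∧ s + d + d ∈ rts := by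
  decide +kernel

theorem sd1 : ∀ s ∈ rts, bf s s = 4 → ∀ d ∈ rts, bf d d = 2 → bf s d = -2 → ∀ z ∈ rts, bt s d z →
    z = s + d ∨ z = s + d + d := by
  decide +kernel

theorem sd2 : ∀ s ∈ rts, bf s s = 4 → ∀ d ∈ rts, bf d d = 2 → bf s d = -2 → ∀ z ∈ rts, bt (-s) (s + d) z →
    z = d ∨ z = s + d + d := by
  decide +kernel

theorem sd3 : ∀ s ∈ rts, bf s s = 4 → ∀ d ∈ rts, bf d d = 2 → bf s d = -2 → ∀ z ∈ rts, bt (s + d) d z →
    z = s + d + d := by
  decide +kernel

theorem sd4 : ∀ s ∈ rts, bf s s = 4 → ∀ d ∈ rts, bf d d = 2 → bf s d = -2 → ∀ z ∈ rts,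
    ¬ bt (s + d) (s + d + d) z := by
  decide +kernel

/-! ### short orthogonal roots -/

theorem orth_short : ∀ b ∈ rts, bf b b = 2 → ∀ d ∈ rts, bf d d = 2 → bf b d = 0 → ∀ z ∈ rts, bt b d z →
    z = b + d := by
  decide +kernel

/-! ### the roots with `x 0 = 1` -/

theorem ge_one : ∀ x ∈ rts, 1 ≤ x 0 → x = rho ∨ x 0 = 1 := by decide +kernel

theorem btw_one : ∀ x ∈ rts, x 0 = 1 → ∀ y ∈ rts, y 0 = 1 → ∀ z ∈ rts, bt x y z →
    z = rho ∨ (bf x x = 4 ∧ bf y y = 4 ∧ 0 ≤ bf x y) := by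
  decide +kernel

end Cfsg.Agent.KFacts.TwESix.Btw
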