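import Cfsg.Agent.KFacts.TwESix.Comb

/-!
# Finite checks for the centralisers in `²E₆(q)` (helper469; packet [C])

The Gram matrix of the 48 roots is coded by the number `big`.
-/

set_option autoImplicit false
set_option linter.unusedSectionVars false

namespace Cfsg.Agent.KFacts.TwESix.CentComb

open Cfsg.Agent.KFacts.TwESix.Comb

/-- The Gram matrix: `bf + 4` in base 16. -/
def big : ℕ := 77616203995983823759850403839124347236553028284061125729126000930652714509689404478159921555740355577183712156228470410102411494368912674318235857303135844566045430942489264596772950664174031834775754865901124316999021442321494506825151828423662044375934142656343696416564090048644803316577136005281397816491166233538375675960851866050510957926943843070454288777997155942197496722946808474588240136676276335805196931091876408171406419168515927350872521434201429582070807627357599569150402571490118807357671368257976419319079653248550111403767687267498601440058198870833120501532536386885793708002241665737910269327107355197410391628586012563480779423025723990042581959929983699479440675528084883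98897577242640212946760828966963199082962800641680060365225659015307561658737400102242577339733610223910124330065481592497273403881371380764738677312724692572844953537653523586833185164466316226990192980225241443903842362353811814625457642979842912501792001037050673991559176869213920264002734074700352688229609420287253326759921657096792739324984163390953964802246924862818305421324325450610681838517163458488780293450718152371441906722271715999616094725565622119906434333977545598779151538331941961384842410588706641739721592620782691294432826941644767979911121388170141699977848151655108739355076078913756220010826962568060872597522468854871381564046307095926334224589729146182637196566482824828833890085791350378736275666145193587138364587444991939055072649831393304664770405256443647578648999951329121430925265990482454576945814640119487462707894551596516288312073311535250557668367336531246846744334716218066020611576085232480256753980057409995985866981724528550740467171209946032206169664966388306779544613397743347772276858739772886609791138456517964002841152600244554053338753809022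0804787783000118529460628941280193707408881514192651531259010491917339927957620724660711901996371265316222580336256576830266446194572632637675647385235818545704806311122303280372289083534109136133781250120818555432467444009990062092905045475851074257473353042968239892634890180060153176694202720629484641456493770782201086944181979336184539458784408394618455237844991572902298184608494737229222355997970816892555467507072581490922427825782443118325417704836954425665126059001848241377952963290663318763837249011665892069111508556275096421007432940400058489509949187093155975753328535188471412282565172764654207423367953526891365189971410467675789030419348304916862490015621500506325900102192002850926344540714429013169511433279670887542580042108960550195041997330970164680275251562538081109227124854382256810838052174289208611249538829545878592552589513576022453908194284793551779251504038149308657488289935347259980971584488837300170791572036797173915912489764438728110089279420963636776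

/-- `bf + 4` -/
def gg (i j : ℕ) : ℕ := big / 16 ^ (48 * i + j) % 16

set_option maxRecDepth 20000 in
theorem gg_spec : ∀ i < 48, ∀ j < 48, bf (rts.getD i 0) (rts.getD j 0) = (gg i j : ℤ) - 4 := by decide +kernel

theorem exists_idx {x : Fin 4 → ℤ} (hx : x ∈ rts) : ∃ i < 48, rts.getD i 0 = x := by
  obtain ⟨i, hi, e⟩ := List.mem_iff_getElem.1 hx
  refine ⟨i, hi, ?_⟩
  rw [List.getD_eq_getElem _ _ hi]
  exact e

theorem idx_mem {i : ℕ} (hi : i < 48) : rts.getD i 0 ∈ rts := by
  rw [List.getD_eq_getElem _ _ (show i < rts.length from hi)]
  exact List.getElem_mem _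

theorem all_spec {P : ℕ → Bool} (h : (List.range 48).all P = true) {i : ℕ} (hi : i < 48) : P i = true :=
  List.all_eq_true.1 h i (List.mem_range.2 hi)

theorem any_spec {P : ℕ → Bool} (h : (List.range 48).any P = true) : ∃ i < 48, P i = true := by
  obtain ⟨i, hi, h1⟩ := List.any_eq_true.1 h
  exact ⟨i, List.mem_range.1 hi, h1⟩

/-! ### one long root -/

def c1 : Bool := (List.range 48).all fun r => (gg r r != 8) || (List.range 48).all fun b =>
  ((List.range 48).any fun a => (gg a a == 8) && Nat.blt 4 (gg a r) && Nat.blt (gg b a) 4) ||
    (b == r) || ((gg b b == 6) && (gg b r == 6))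

theorem c1_true : c1 = true := by decide +kernel

/-- roots in the closed half spaces of the long roots `a` with `(a, r) > 0` -/
theorem f1 : ∀ r ∈ rts, bf r r = 4 → ∀ b ∈ rts, (∀ a ∈ rts, bf a a = 4 → 0 < bf a r → 0 ≤ bf b a) →
    b = r ∨ (bf b b = 2 ∧ bf b r = 2) := by
  intro r hr hl b hb hc
  obtain ⟨i, hi, rfl⟩ := exists_idx hr
  obtain ⟨j, hj, rfl⟩ := exists_idx hb
  have h1 := all_spec c1_true hi
  rw [gg_spec i hi i hi] at hl
  have e1 : gg i i = 8 := by omega
  simp only [e1, bne_self_eq_false, Bool.false_or] at h1
  have h2 := all_spec h1 hj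
  simp only [Bool.or_eq_true] at h2
  rcases h2 with (h2 | h2) | h2
  · exfalso
    obtain ⟨k, hk, h3⟩ := any_spec h2
    simp only [Bool.and_eq_true, beq_iff_eq, Nat.blt_eq] at h3
    have h4 := hc _ (idx_mem hk) (by rw [gg_spec k hk k hk, h3.1.1]; norm_num) (by
      rw [gg_spec k hk i hi]; omega)
    rw [gg_spec j hj k hk] at h4
    omega
  · left
    rw [beq_iff_eq] at h2
    rw [h2]
  · right
    simp only [Bool.and_eq_true, beq_iff_eq] at h2
    rw [gg_spec j hj j hj, gg_spec j hj i hi, h2.1, h2.2]
    norm_num

def c3 : Bool := (List.range 48).all fun r => (gg r r != 8) || (List.range 48).all fun b => (gg b r != 4) ||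
  (List.range 48).any fun a => Nat.blt 4 (gg a r) && (gg b a != 4)

theorem c3_true : c3 = true := by decide +kernel

/-- a root orthogonal to `r` is not orthogonal to all roots of the radical -/
theorem f3 : ∀ r ∈ rts, bf r r = 4 → ∀ b ∈ rts, bf b r = 0 → ∃ a ∈ rts, 0 < bf a r ∧ bf b a ≠ 0 := by
  intro r hr hl b hb hbr
  obtain ⟨i, hi, rfl⟩ := exists_idx hr
  obtain ⟨j, hj, rfl⟩ := exists_idx hb
  have h1 := all_spec c3_true hi
  rw [gg_spec i hi i hi] at hl
  have e1 : gg i i = 8 := by omega
  simp only [e1, bne_self_eq_false, Bool.false_or] at h1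
  have h2 := all_spec h1 hj
  rw [gg_spec j hj i hi] at hbr
  have e2 : gg j i = 4 := by omega
  simp only [e2, bne_self_eq_false, Bool.false_or] at h2
  obtain ⟨k, hk, h3⟩ := any_spec h2
  simp only [Bool.and_eq_true, Nat.blt_eq, bne_iff_ne, ne_eq] at h3
  refine ⟨_, idx_mem hk, ?_, ?_⟩
  · rw [gg_spec k hk i hi]; omega
  · rw [gg_spec j hj k hk]; omega

/-! ### two long roots at 60 degrees -/

def d1 : Bool := (List.range 48).all fun r => (gg r r != 8) || (List.range 48).all fun s => (gg s s != 8) ||
  (gg r s != 6) || (List.range 48).all fun b =>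
  ((List.range 48).any fun a => (gg a a == 8) && Nat.blt 8 (gg a r + gg a s) && Nat.blt (gg b a) 4) ||
    (b == r) || (b == s) || ((gg b b == 6) && (gg b r == 6) && (gg b s == 6))

theorem d1_true : d1 = true := by decide +kernel

theorem g1 : ∀ r ∈ rts, bf r r = 4 → ∀ s ∈ rts, bf s s = 4 → bf r s = 2 → ∀ b ∈ rts,
    (∀ a ∈ rts, bf a a = 4 → 0 < bf a r + bf a s → 0 ≤ bf b a) →
    b = r ∨ b = s ∨ (bf b b = 2 ∧ bf b r = 2 ∧ bf b s = 2) := by
  intro r hr hl s hs hls hrs b hb hc
  obtain ⟨i, hi, rfl⟩ := exists_idx hr
  obtain ⟨l, hl', rfl⟩ := exists_idx hs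
  obtain ⟨j, hj, rfl⟩ := exists_idx hb
  have h1 := all_spec d1_true hi
  rw [gg_spec i hi i hi] at hl
  rw [gg_spec l hl' l hl'] at hls
  rw [gg_spec i hi l hl'] at hrs
  have e1 : gg i i = 8 := by omega
  have e2 : gg l l = 8 := by omega
  have e3 : gg i l = 6 := by omega
  simp only [e1, bne_self_eq_false, Bool.false_or] at h1
  have h2 := all_spec h1 hl'
  simp only [e2, e3, bne_self_eq_false, Bool.false_or] at h2
  have h3 := all_spec h2 hj
  simp only [Bool.or_eq_true] at h3
  rcases h3 with ((h3 | h3) | h3) | h3
  · exfalso
    obtain ⟨k, hk, h4⟩ := any_spec h3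
    simp only [Bool.and_eq_true, beq_iff_eq, Nat.blt_eq] at h4
    have h5 := hc _ (idx_mem hk) (by rw [gg_spec k hk k hk, h4.1.1]; norm_num) (by
      rw [gg_spec k hk i hi, gg_spec k hk l hl']; omega)
    rw [gg_spec j hj k hk] at h5
    omega
  · left
    rw [beq_iff_eq] at h3
    rw [h3]
  · right; left
    rw [beq_iff_eq] at h3
    rw [h3]
  · right; right
    simp only [Bool.and_eq_true, beq_iff_eq] at h3
    rw [gg_spec j hj j hj, gg_spec j hj i hi, gg_spec j hj l hl', h3.1.1, h3.1.2, h3.2]
    norm_num

def d2 : Bool := (List.range 48).all fun r => (gg r r != 8) || (List.range 48).all fun s => (gg s s != 8) ||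
  (gg r s != 6) || (List.range 48).all fun a => Nat.ble (gg a r + gg a s) 8 || (Nat.ble 4 (gg a r) && Nat.ble 4 (gg a s))

theorem d2_true : d2 = true := by decide +kernel

theorem g2 : ∀ r ∈ rts, bf r r = 4 → ∀ s ∈ rts, bf s s = 4 → bf r s = 2 → ∀ a ∈ rts, 0 < bf a r + bf a s →
    0 ≤ bf a r ∧ 0 ≤ bf a s := by
  intro r hr hl s hs hls hrs a ha hc
  obtain ⟨i, hi, rfl⟩ := exists_idx hr
  obtain ⟨l, hl', rfl⟩ := exists_idx hs
  obtain ⟨j, hj, rfl⟩ := exists_idx ha
  have h1 := all_spec d2_true hi
  rw [gg_spec i hi i hi] at hl
  rw [gg_spec l hl' l hl'] at hls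
  rw [gg_spec i hi l hl'] at hrs
  have e1 : gg i i = 8 := by omega
  have e2 : gg l l = 8 := by omega
  have e3 : gg i l = 6 := by omega
  simp only [e1, bne_self_eq_false, Bool.false_or] at h1
  have h2 := all_spec h1 hl'
  simp only [e2, e3, bne_self_eq_false, Bool.false_or] at h2
  have h3 := all_spec h2 hj
  simp only [Bool.or_eq_true, Bool.and_eq_true, Nat.ble_eq] at h3
  rw [gg_spec j hj i hi, gg_spec j hj l hl'] at *
  omega

def d3 : Bool := (List.range 48).all fun r => (gg r r != 8) || (List.range 48).all fun s => (gg s s != 8) ||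
  (gg r s != 6) || (List.range 48).all fun b => (gg b r + gg b s != 8) ||
  (List.range 48).any fun a => Nat.blt 8 (gg a r + gg a s) && (gg b a != 4)

theorem d3_true : d3 = true := by decide +kernel

theorem g3 : ∀ r ∈ rts, bf r r = 4 → ∀ s ∈ rts, bf s s = 4 → bf r s = 2 → ∀ b ∈ rts, bf b r + bf b s = 0 →
    ∃ a ∈ rts, 0 < bf a r + bf a s ∧ bf b a ≠ 0 := by
  intro r hr hl s hs hls hrs b hb hbr
  obtain ⟨i, hi, rfl⟩ := exists_idx hr
  obtain ⟨l, hl', rfl⟩ := exists_idx hs
  obtain ⟨j, hj, rfl⟩ := exists_idx hb
  have h1 := all_spec d3_true hi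
  rw [gg_spec i hi i hi] at hl
  rw [gg_spec l hl' l hl'] at hls
  rw [gg_spec i hi l hl'] at hrs
  have e1 : gg i i = 8 := by omega
  have e2 : gg l l = 8 := by omega
  have e3 : gg i l = 6 := by omega
  simp only [e1, bne_self_eq_false, Bool.false_or] at h1
  have h2 := all_spec h1 hl'
  simp only [e2, e3, bne_self_eq_false, Bool.false_or] at h2
  have h3 := all_spec h2 hj
  rw [gg_spec j hj i hi, gg_spec j hj l hl'] at hbr
  have e4 : gg j i + gg j l = 8 := by omega
  simp only [e4, bne_self_eq_false, Bool.false_or] at h3
  obtain ⟨k, hk, h4⟩ := any_spec h3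
  simp only [Bool.and_eq_true, Nat.blt_eq, bne_iff_ne, ne_eq] at h4
  refine ⟨_, idx_mem hk, ?_, ?_⟩
  · rw [gg_spec k hk i hi, gg_spec k hk l hl']; omega
  · rw [gg_spec j hj k hk]; omega

def d4 : Bool := (List.range 48).all fun r => (gg r r != 8) || (List.range 48).all fun s => (gg s s != 8) ||
  (Nat.blt (gg r s) 6) || (List.range 48).any fun a => (gg a a == 6) && (gg a r == 6) && (gg a s == 6)

theorem d4_true : d4 = true := by decide +kernel

/-- a short root at 45 degrees to `r` and `s` -/
theorem g4 : ∀ r ∈ rts, bf r r = 4 → ∀ s ∈ rts, bf s s = 4 → 2 ≤ bf r s → ∃ a ∈ rts, bf a a = 2 ∧ bf a r = 2 ∧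
    bf a s = 2 := by
  intro r hr hl s hs hls hrs
  obtain ⟨i, hi, rfl⟩ := exists_idx hr
  obtain ⟨l, hl', rfl⟩ := exists_idx hs
  have h1 := all_spec d4_true hi
  rw [gg_spec i hi i hi] at hl
  rw [gg_spec l hl' l hl'] at hls
  rw [gg_spec i hi l hl'] at hrs
  have e1 : gg i i = 8 := by omega
  have e2 : gg l l = 8 := by omega
  simp only [e1, bne_self_eq_false, Bool.false_or] at h1
  have h2 := all_spec h1 hl'
  simp only [e2, bne_self_eq_false, Bool.false_or, Bool.or_eq_true, Nat.blt_eq] at h2
  rcases h2 with h2 | h2
  · omega
  obtain ⟨k, hk, h4⟩ := any_spec h2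
  simp only [Bool.and_eq_true, beq_iff_eq] at h4
  refine ⟨_, idx_mem hk, ?_, ?_, ?_⟩
  · rw [gg_spec k hk k hk, h4.1.1]; norm_num
  · rw [gg_spec k hk i hi, h4.1.2]; norm_num
  · rw [gg_spec k hk l hl', h4.2]; norm_num

/-! ### two short roots -/

def e1 : Bool := (List.range 48).all fun b => (gg b b != 6) || (List.range 48).all fun c => (gg c c != 6) ||
  Nat.blt (gg b c) 6 || (b == c)

theorem e1_true : e1 = true := by decide +kernel

theorem short_eq : ∀ b ∈ rts, bf b b = 2 → ∀ c ∈ rts, bf c c = 2 → b = c ∨ bf b c ≤ 1 := by
  intro b hb hbb c hc hcc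
  obtain ⟨i, hi, rfl⟩ := exists_idx hb
  obtain ⟨j, hj, rfl⟩ := exists_idx hc
  have h1 := all_spec e1_true hi
  rw [gg_spec i hi i hi] at hbb
  rw [gg_spec j hj j hj] at hcc
  have e1 : gg i i = 6 := by omega
  have e2 : gg j j = 6 := by omega
  simp only [e1, bne_self_eq_false, Bool.false_or] at h1
  have h2 := all_spec h1 hj
  simp only [e2, bne_self_eq_false, Bool.false_or, Bool.or_eq_true, Nat.blt_eq, beq_iff_eq] at h2
  rcases h2 with h2 | h2
  · right
    rw [gg_spec i hi j hj]; omega
  · left
    rw [h2]

end Cfsg.Agent.KFacts.TwESix.CentComb
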