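import Cfsg.Agent.KFacts.TwESix.Facts
import Cfsg.Agent.KFacts.TwESix.CentComb
import Cfsg.Agent.KFacts.RgdCentW

/-!
# Centralisers in `²E₆(q)`, all `q` (helper469; packet [C])

`R` a root group datum of type `F₄` with `Facts.Dat R`, `NoCent`.

* `k1` : `C(Q_r) = X r` for `r` long, `k2` : `C(N_rs) = X r X s` for `r`, `s` long at 60 degrees,
  `N_rs = ⟨X a : ⟨a, r^∨⟩ + ⟨a, s^∨⟩ > 0⟩`;
* `aut_k1`, `aut_k2` : the same for automorphisms; `cent_k1`, `cent_k2` : for elements of an overgroup.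
-/

set_option autoImplicit false
set_option linter.unusedSectionVars false

namespace Cfsg.Agent.KFacts.TwESix.Cent

open CoxeterSystem Cfsg.Agent.ChevalleyStructure.CoxeterGeom Cfsg.Agent.Tits.Roots Cfsg.Agent.Tits.Core
  Cfsg.Agent.Tits.RootComb Cfsg.Agent.Tits.Exchange Cfsg.Agent.Nodes.Reps Cfsg.Agent.Nodes.BNOf
  Cfsg.Agent.Nodes.StabComb Cfsg.Agent.Nodes.Bruhat Cfsg.Agent.Nodes.OppDec Cfsg.Agent.Nodes.LeviDec
  Cfsg.Agent.Nodes.Coroot Cfsg.Agent.KFacts.RgdSL Cfsg.Agent.KFacts.RgdTI Cfsg.Agent.KFacts.RgdCent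
  Cfsg.Agent.KFacts.RgdCentW Cfsg.Agent.Nodes.RGDTwE6 Cfsg.Agent.KFacts.TwESix.Comb
  Cfsg.Agent.KFacts.TwESix.CombRho Cfsg.Agent.KFacts.TwESix.Facts
open scoped commutatorElement

variable {W Y : Type*} [Group W] [Group Y] {cs : CoxeterSystem CoxeterMatrix.F₄ W} {T : Subgroup Y} {n : Fin 4 → Y}
  {X : (Fin 4 → ℤ) → Subgroup Y} {R : RGD cs isCartan 2 T n X}

theorem gt_iff {x a : Fin 4 → ℤ} (ha : IsRoot cs isCartan a) (hl : bf a a = 4) :
    0 < cpr cs isCartan x a ↔ 0 < bf x a := by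
  have := cpr_long cs x ha hl
  omega

theorem cpr_ne_zero_iff {x a : Fin 4 → ℤ} (ha : IsRoot cs isCartan a) : cpr cs isCartan x a ≠ 0 ↔ bf x a ≠ 0 := by
  have h1 := two_bf cs x ha
  rcases norm cs ha with h2 | h2 <;> rw [h2] at h1 <;> omega

theorem not_btwn_45 {x y z : Fin 4 → ℤ} (hy : IsRoot cs isCartan y) (hxx : bf x x = 2)
    (hyy : bf y y = 4) (hxy : bf x y = 2) : ¬ Btwn cs isCartan x y z := by
  rintro ⟨hzr, m, a, b, hm, ha, hb, he⟩
  have e1 : m * bf z x = 2 * a + 2 * b := by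
    have := congrArg (fun v => bf v x) he
    simp only [bf_add_left, bf_smul_left] at this
    rw [this, bf_comm y x, hxx, hxy]; ring
  have e2 : m * bf z y = 2 * a + 4 * b := by
    have := congrArg (fun v => bf v y) he
    simp only [bf_add_left, bf_smul_left] at this
    rw [this, hyy, hxy]; ring
  have e3 : m * bf z z = a * bf z x + b * bf z y := by
    have h2 := congrArg (fun v => bf v z) he
    simp only [bf_add_left, bf_smul_left] at h2
    rw [h2, bf_comm x z, bf_comm y z]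
  have e4 := cpr_long cs z hy hyy
  generalize bf z x = P at *
  generalize bf z y = Q at *
  have hQP : 0 < Q - P := by
    have : 0 < m * (Q - P) := by rw [mul_sub, e1, e2]; linarith
    exact (mul_pos_iff_of_pos_left hm).1 this
  have hPQ : 0 < 2 * P - Q := by
    have : 0 < m * (2 * P - Q) := by
      have h1 : m * (2 * P - Q) = 2 * a := by linear_combination 2 * e1 - e2
      rw [h1]; linarith
    exact (mul_pos_iff_of_pos_left hm).1 this
  have e5 : 2 * bf z z = P * P + (Q - P) * (Q - P) := by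
    have h1 : m * (2 * bf z z) = m * (P * P + (Q - P) * (Q - P)) := by
      have h2 : 2 * a = m * (2 * P - Q) := by linear_combination -2 * e1 + e2
      have h3 : 2 * b = m * (Q - P) := by linear_combination e1 - e2
      calc m * (2 * bf z z) = 2 * (m * bf z z) := by ring
        _ = (2 * a) * P + (2 * b) * Q := by rw [e3]; ring
        _ = _ := by rw [h2, h3]; ring
    exact mul_left_cancel₀ hm.ne' h1
  obtain ⟨u, hu⟩ : ∃ u, u = Q - P := ⟨_, rfl⟩
  have hQ : Q = P + u := by omega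
  rw [← hu] at e5 hQP
  have hPu : u < P := by omega
  have hP3 : P ≤ 2 := by
    by_contra hc
    have : 3 ≤ P := by omega
    rcases norm cs hzr with h | h <;> nlinarith
  have hu1 : u = 1 := by omega
  have hP2 : P = 2 := by omega
  rw [hu1, hP2] at e5
  omega

section Main

variable (D : Dat R)

include D

section K1

variable {r : Fin 4 → ℤ} (hr : IsRoot cs isCartan r) (hl : bf r r = 4)

/-- the short roots of the radical -/
def Bs (cs : CoxeterSystem CoxeterMatrix.F₄ W) (r : Fin 4 → ℤ) : Set (Fin 4 → ℤ) :=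
  {b | IsRoot cs isCartan b ∧ bf b b = 2 ∧ bf b r = 2}

omit D in
include hr hl in
theorem partner {b : Fin 4 → ℤ} (hb : b ∈ Bs cs r) : IsRoot cs isCartan (r - b) ∧ bf (r - b) (r - b) = 2 ∧
    bf b (r - b) = 0 ∧ bf (r - b) r = 2 := by
  have : Finite W := finiteW cs
  obtain ⟨h1, h2, h3⟩ := hb
  refine ⟨?_, ?_, ?_, ?_⟩
  · have h4 : cpr cs isCartan b r = 1 := by
      have := cpr_long cs b hr hl
      omega
    have h5 := isRoot_refl cs isCartan h1 hr
    rw [h4, one_smul] at h5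
    have h6 := h5.neg
    rwa [neg_sub] at h6
  · rw [bf_sub_left, bf_sub_right, bf_sub_right, hl, h2, h3, bf_comm r b, h3]; norm_num
  · rw [bf_sub_right, h2, h3]; norm_num
  · rw [bf_sub_left, hl, h3]; norm_num

omit D in
include hr hl in
theorem mem_Bs_pair {b y : Fin 4 → ℤ} (hb : b ∈ Bs cs r) (hy : y ∈ Bs cs r) (hyb : y ≠ b) :
    bf b y = 1 ∨ (bf b y = 0 ∧ b + y = r) := by
  obtain ⟨p1, p2, p3, p4⟩ := partner hr hl hb
  have h1 : bf b y ≤ 1 := (CentComb.short_eq b ((mem_rts cs).1 hb.1) hb.2.1 y ((mem_rts cs).1 hy.1)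
    hy.2.1).resolve_left (fun h => hyb h.symm)
  have h2 : bf (r - b) y = 2 - bf b y := by
    rw [bf_sub_left, bf_comm r y, hy.2.2]
  rcases CentComb.short_eq (r - b) ((mem_rts cs).1 p1) p2 y ((mem_rts cs).1 hy.1) hy.2.1 with h3 | h3
  · right
    refine ⟨?_, by rw [← h3]; abel⟩
    rw [← h3, p3]
  · left
    omega

omit D in
include hr hl in
/-- closedness of the auxiliary roots -/
theorem closed_Bs {b y : Fin 4 → ℤ} (hb : b ∈ Bs cs r) (hy : y ∈ Bs cs r) (hyb : y ≠ b) :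
    b ≠ -y ∧ ∀ z, Btwn cs isCartan b y z → z = r ∧ b + y = r := by
  refine ⟨?_, fun z hz => ?_⟩
  · rintro rfl
    have h1 := hb.2.2
    rw [bf_neg_left, hy.2.2] at h1
    omega
  · rcases mem_Bs_pair hr hl hb hy hyb with h1 | ⟨h1, h2⟩
    · exact absurd hz (not_btwn_60 cs hb.1 hy.1 (by rw [hb.2.1, hy.2.1]) (by rw [h1, hb.2.1]; norm_num))
    · exact ⟨by rw [btwn_orth cs hb.2.1 hy.2.1 h1 hz, h2], h2⟩

omit D in
include hr hl in
theorem closed_r {b : Fin 4 → ℤ} (hb : b ∈ Bs cs r) {y : Fin 4 → ℤ} (hy : IsRoot cs isCartan y) (hyy : bf y y = 4)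
    (hby : bf b y = 2) : b ≠ -y ∧ ∀ z, ¬ Btwn cs isCartan b y z := by
  refine ⟨?_, fun z => not_btwn_45 hy hb.2.1 hyy hby⟩
  rintro rfl
  have h1 := hb.2.1
  rw [bf_neg_left, bf_neg_right] at h1
  omega

include hr hl in
/-- the partner of `b` commutes with the other groups -/
theorem comm_partner {b c : Fin 4 → ℤ} (hb : b ∈ Bs cs r) (hc : c ∈ Bs cs r) (hcb : c ≠ b) {u v : Y}
    (hu : u ∈ X c) (hv : v ∈ X (r - b)) : u * v = v * u := by
  obtain ⟨p1, p2, p3, p4⟩ := partner hr hl hb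
  have hp : r - b ∈ Bs cs r := ⟨p1, p2, p4⟩
  by_cases h1 : c = r - b
  · rw [← h1] at hv
    exact abel R hc.1 hu hv
  · rcases mem_Bs_pair hr hl hp hc h1 with h2 | ⟨-, h3⟩
    · exact comm_60 R hc.1 p1 hc.2.1 p2 (by rw [bf_comm, h2]) hu hv
    · exfalso
      apply hcb
      calc c = (r - b + c) - r + b := by abel
        _ = b := by rw [h3]; abel

include hr hl in
theorem br_partner {b : Fin 4 → ℤ} (hb : b ∈ Bs cs r) {u v : Y} (hu : u ∈ X b) (hv : v ∈ X (r - b)) :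
    ⁅u, v⁆ ∈ X r := by
  obtain ⟨p1, p2, p3, p4⟩ := partner hr hl hb
  have h1 := orth_mem R hb.1 p1 hb.2.1 p2 p3 hu hv
  rwa [add_sub_cancel] at h1

include hr hl in
theorem nd_partner {b : Fin 4 → ℤ} (hb : b ∈ Bs cs r) {u : Y} (hu : u ∈ X b)
    (hc : ∀ v ∈ X (r - b), u * v = v * u) : u = 1 := by
  obtain ⟨p1, p2, p3, p4⟩ := partner hr hl hb
  by_contra h1
  obtain ⟨v, hv, h2⟩ := orth_nd D hb.1 p1 hb.2.1 p2 p3 hu h1
  exact h2 (hc v hv)

include hr hl in
theorem cfg1 [Finite W] : Cfg R (ell cs isCartan hr) {a | IsRoot cs isCartan a ∧ bf a a = 4 ∧ 0 < bf a r} {r}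
    (Bs cs r) where
  lr a ha := D.lr a ha.1 ha.2.1
  pos a ha := (gt_iff hr hl).2 ha.2.2
  star := by
    intro b hb
    rcases CentComb.f1 r ((mem_rts cs).1 hr) hl b ((mem_rts cs).1 hb.1) (fun a ha haa har =>
      (ge_iff cs ((mem_rts cs).2 ha) haa).1 (hb.2 a ⟨(mem_rts cs).2 ha, haa, har⟩)) with h1 | h1
    · exact Or.inl h1
    · exact Or.inr ⟨hb.1, h1⟩
  zroot z hz := by rw [Set.mem_singleton_iff] at hz; rw [hz]; exact hr
  broot b hb := hb.1
  disj b hb h1 := by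
    rw [Set.mem_singleton_iff] at h1
    rw [h1, Bs, Set.mem_ofPred_eq] at hb
    omega
  zcomm z hz a ha hfa u hu v hv := by
    rw [Set.mem_singleton_iff] at hz
    rw [hz] at hu
    exact (comm_long D ha hr hl ((gt_iff hr hl).1 hfa).le hv hu).symm
  closed b hb y hy hyb := by
    rcases hy with h1 | h1
    · rw [Set.mem_singleton_iff] at h1
      subst h1
      obtain ⟨h2, h3⟩ := closed_r hr hl hb hr hl hb.2.2
      exact ⟨h2, fun z hz => absurd hz (h3 z)⟩
    · obtain ⟨h2, h3⟩ := closed_Bs hr hl hb h1 hyb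
      exact ⟨h2, fun z hz => (h3 z hz).1⟩
  part b hb := by
    obtain ⟨p1, p2, p3, p4⟩ := partner hr hl hb
    refine ⟨r - b, p1, (gt_iff hr hl).2 (by rw [p4]; norm_num), fun c hc hcb u hu v hv =>
      comm_partner D hr hl hb hc hcb hu hv, ⟨r, rfl, ?_, fun u hu v hv => br_partner D hr hl hb hu hv⟩,
      fun u hu hc => nd_partner D hr hl hb hu hc⟩
    intro h1
    rw [← h1, hl] at p2
    omega
  zero b hb h0 := by
    have h1 : bf b r = 0 := by
      have := cpr_long cs b hr hl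
      rw [show cpr cs isCartan b r = 0 from h0] at this
      omega
    obtain ⟨a, ha, h2, h3⟩ := CentComb.f3 r ((mem_rts cs).1 hr) hl b ((mem_rts cs).1 hb) h1
    exact ⟨a, (mem_rts cs).2 ha, (gt_iff hr hl).2 h2, (cpr_ne_zero_iff ((mem_rts cs).2 ha)).2 h3⟩

omit D in
theorem sup_singleton {r : Fin 4 → ℤ} : RGD.Sup X {r} ≤ X r := RGD.Sup_le fun z hz => by
  rw [Set.mem_singleton_iff] at hz
  rw [hz]

include hr hl in
/-- **(K1)** `C_GG(Q_r) ≤ X r`. -/
theorem k1 (hN : NoCent cs isCartan T X) {g : Y} (hg : g ∈ GG cs isCartan T X)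
    (hc : ∀ a, IsRoot cs isCartan a → 0 < cpr cs isCartan a r → ∀ v ∈ X a, g * v = v * g) : g ∈ X r := by
  have : Finite W := finiteW cs
  exact sup_singleton (cent R (cfg1 D hr hl) hN hg hc)

include hr hl in
/-- **(K1)** for automorphisms. -/
theorem aut_k1 (hN : NoCent cs isCartan T X) (hG1 : RGD.Sup X {x | IsRoot cs isCartan x} = ⊤) {α : MulAut Y}
    (hα : ∀ a, IsRoot cs isCartan a → 0 < cpr cs isCartan a r → ∀ v ∈ X a, α v = v) :
    ∃ z ∈ X r, α = MulAut.conj z := by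
  have : Finite W := finiteW cs
  obtain ⟨z, hz, e⟩ := aut R (cfg1 D hr hl) hN hG1 (fun i a ha b hb => abel R (isRoot_sr cs isCartan i) ha hb)
    (fun c hc => by
      rw [Set.mem_singleton_iff] at hc
      rw [hc]
      obtain ⟨a, ha, h1, h2, -⟩ := CentComb.g4 r ((mem_rts cs).1 hr) hl r ((mem_rts cs).1 hr) hl (by rw [hl]; norm_num)
      obtain ⟨p1, p2, p3, p4⟩ := partner hr hl (b := a) ⟨(mem_rts cs).2 ha, h1, h2⟩
      exact ⟨a, r - a, (mem_rts cs).2 ha, p1, (gt_iff hr hl).2 (by rw [h2]; norm_num),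
        (gt_iff hr hl).2 (by rw [p4]; norm_num), by abel⟩) hα
  exact ⟨z, sup_singleton hz, e⟩

end K1

section K2

variable {r s : Fin 4 → ℤ} (hr : IsRoot cs isCartan r) (hl : bf r r = 4) (hs : IsRoot cs isCartan s)
  (hls : bf s s = 4) (hrs : bf r s = 2)

omit D in
include hl hls in
theorem gt_iff2 [Finite W] {x : Fin 4 → ℤ} : 0 < (ell cs isCartan hr + ell cs isCartan hs) x ↔ 0 < bf x r + bf x s := by
  have h1 := cpr_long cs x hr hl
  have h2 := cpr_long cs x hs hls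
  show 0 < cpr cs isCartan x r + cpr cs isCartan x s ↔ _
  omega

include hr hl hs hls hrs in
theorem cfg2 [Finite W] : Cfg R (ell cs isCartan hr + ell cs isCartan hs)
    {a | IsRoot cs isCartan a ∧ bf a a = 4 ∧ 0 < bf a r + bf a s} {r, s}
    {b | b ∈ Bs cs r ∧ bf b s = 2} where
  lr a ha := D.lr a ha.1 ha.2.1
  pos a ha := (gt_iff2 hr hl hs hls).2 ha.2.2
  star := by
    intro b hb
    rcases CentComb.g1 r ((mem_rts cs).1 hr) hl s ((mem_rts cs).1 hs) hls hrs b ((mem_rts cs).1 hb.1)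
      (fun a ha haa har => (ge_iff cs ((mem_rts cs).2 ha) haa).1 (hb.2 a ⟨(mem_rts cs).2 ha, haa, har⟩))
      with h1 | h1 | ⟨h1, h2, h3⟩
    · exact Or.inl (Or.inl h1)
    · exact Or.inl (Or.inr h1)
    · exact Or.inr ⟨⟨hb.1, h1, h2⟩, h3⟩
  zroot z hz := by
    rcases hz with h1 | h1
    · rw [h1]; exact hr
    · rw [Set.mem_singleton_iff] at h1; rw [h1]; exact hs
  broot b hb := hb.1.1
  disj b hb h1 := by
    have h2 := hb.1.2.1
    rcases h1 with h1 | h1
    · rw [h1] at h2; omega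
    · rw [Set.mem_singleton_iff] at h1
      rw [h1] at h2; omega
  zcomm z hz a ha hfa u hu v hv := by
    obtain ⟨h2, h3⟩ := CentComb.g2 r ((mem_rts cs).1 hr) hl s ((mem_rts cs).1 hs) hls hrs a ((mem_rts cs).1 ha)
      ((gt_iff2 hr hl hs hls).1 hfa)
    rcases hz with h1 | h1
    · rw [h1] at hu
      exact (comm_long D ha hr hl h2 hv hu).symm
    · rw [Set.mem_singleton_iff] at h1
      rw [h1] at hu
      exact (comm_long D ha hs hls h3 hv hu).symm
  closed b hb y hy hyb := by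
    rcases hy with h1 | h1
    · have h4 : IsRoot cs isCartan y ∧ bf y y = 4 ∧ bf b y = 2 := by
        rcases h1 with h1 | h1
        · rw [h1]; exact ⟨hr, hl, hb.1.2.2⟩
        · rw [Set.mem_singleton_iff] at h1
          rw [h1]; exact ⟨hs, hls, hb.2⟩
      obtain ⟨h2, h3⟩ := closed_r hr hl hb.1 h4.1 h4.2.1 h4.2.2
      exact ⟨h2, fun z hz => absurd hz (h3 z)⟩
    · obtain ⟨h2, h3⟩ := closed_Bs hr hl hb.1 h1.1 hyb
      refine ⟨h2, fun z hz => ?_⟩
      have h5 := (h3 z hz).2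
      exfalso
      have h6 := congrArg (fun v => bf v s) h5
      simp only [bf_add_left] at h6
      rw [hb.2, h1.2, hrs] at h6
      omega
  part b hb := by
    obtain ⟨p1, p2, p3, p4⟩ := partner hr hl hb.1
    refine ⟨r - b, p1, (gt_iff2 hr hl hs hls).2 ?_, fun c hc hcb u hu v hv =>
      comm_partner D hr hl hb.1 hc.1 hcb hu hv, ⟨r, Or.inl rfl, ?_, fun u hu v hv => br_partner D hr hl hb.1 hu hv⟩,
      fun u hu hc => nd_partner D hr hl hb.1 hu hc⟩
    · rw [p4, bf_sub_left, hrs, hb.2]; norm_num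
    · intro h1
      rw [← h1, hl] at p2
      omega
  zero b hb h0 := by
    have h1 : bf b r + bf b s = 0 := by
      have h2 := cpr_long cs b hr hl
      have h3 := cpr_long cs b hs hls
      have h4 : cpr cs isCartan b r + cpr cs isCartan b s = 0 := h0
      omega
    obtain ⟨a, ha, h2, h3⟩ := CentComb.g3 r ((mem_rts cs).1 hr) hl s ((mem_rts cs).1 hs) hls hrs b
      ((mem_rts cs).1 hb) h1
    exact ⟨a, (mem_rts cs).2 ha, (gt_iff2 hr hl hs hls).2 h2, (cpr_ne_zero_iff ((mem_rts cs).2 ha)).2 h3⟩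

include hr hl hs hls hrs in
theorem exists_mul {g : Y} (hg : g ∈ RGD.Sup X {r, s}) : ∃ x ∈ X r, ∃ y ∈ X s, g = x * y := by
  have hcomm : ∀ x ∈ X r, ∀ y ∈ X s, x * y = y * x := fun x hx y hy =>
    comm_long D hr hs hls (by rw [hrs]; norm_num) hx hy
  have hle : X r ≤ Subgroup.normalizer (X s : Set Y) := by
    intro x hx
    rw [Subgroup.mem_normalizer_iff]
    intro y
    constructor
    · intro hy
      rw [hcomm x hx y hy, mul_inv_cancel_right]; exact hy
    · intro hy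
      have h2 := hcomm x hx _ hy
      have e : y = x⁻¹ * (x * y * x⁻¹ * x) := by group
      rw [← h2] at e
      rw [e, inv_mul_cancel_left]; exact hy
  have h1 : RGD.Sup X {r, s} ≤ X r ⊔ X s := RGD.Sup_le fun z hz => by
    rcases hz with h1 | h1
    · rw [h1]; exact le_sup_left
    · rw [Set.mem_singleton_iff] at h1; rw [h1]; exact le_sup_right
  have h2 : g ∈ ((X r ⊔ X s : Subgroup Y) : Set Y) := h1 hg
  rw [Subgroup.coe_mul_of_left_le_normalizer_right _ _ hle] at h2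
  obtain ⟨x, hx, y, hy, e⟩ := h2
  exact ⟨x, hx, y, hy, e.symm⟩

include hr hl hs hls hrs in
/-- **(K2)** `C_GG(N_rs) ≤ X r X s`. -/
theorem k2 (hN : NoCent cs isCartan T X) {g : Y} (hg : g ∈ GG cs isCartan T X)
    (hc : ∀ a, IsRoot cs isCartan a → 0 < cpr cs isCartan a r + cpr cs isCartan a s → ∀ v ∈ X a, g * v = v * g) :
    ∃ x ∈ X r, ∃ y ∈ X s, g = x * y := by
  have : Finite W := finiteW cs
  exact exists_mul D hr hl hs hls hrs (cent R (cfg2 D hr hl hs hls hrs) hN hg hc)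

include hr hl hs hls hrs in
/-- **(K2)** for automorphisms. -/
theorem aut_k2 (hN : NoCent cs isCartan T X) (hG1 : RGD.Sup X {x | IsRoot cs isCartan x} = ⊤) {α : MulAut Y}
    (hα : ∀ a, IsRoot cs isCartan a → 0 < cpr cs isCartan a r + cpr cs isCartan a s → ∀ v ∈ X a, α v = v) :
    ∃ x ∈ X r, ∃ y ∈ X s, α = MulAut.conj (x * y) := by
  have : Finite W := finiteW cs
  have key : ∀ {r s : Fin 4 → ℤ} (hr : IsRoot cs isCartan r) (_ : bf r r = 4) (hs : IsRoot cs isCartan s)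
      (_ : bf s s = 4) (_ : bf r s = 2), ∃ a b, IsRoot cs isCartan a ∧ IsRoot cs isCartan b ∧
      0 < (ell cs isCartan hr + ell cs isCartan hs) a ∧ 0 < (ell cs isCartan hr + ell cs isCartan hs) b ∧
      r = a + b := by
    intro r s hr hl hs hls hrs
    obtain ⟨a, ha, h1, h2, h3⟩ := CentComb.g4 r ((mem_rts cs).1 hr) hl s ((mem_rts cs).1 hs) hls (by rw [hrs])
    obtain ⟨p1, p2, p3, p4⟩ := partner hr hl (b := a) ⟨(mem_rts cs).2 ha, h1, h2⟩
    exact ⟨a, r - a, (mem_rts cs).2 ha, p1, (gt_iff2 hr hl hs hls).2 (by rw [h2, h3]; norm_num),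
      (gt_iff2 hr hl hs hls).2 (by rw [p4, bf_sub_left, hrs, h3]; norm_num), by abel⟩
  obtain ⟨z, hz, e⟩ := aut R (cfg2 D hr hl hs hls hrs) hN hG1
    (fun i a ha b hb => abel R (isRoot_sr cs isCartan i) ha hb)
    (fun c hc => by
      rcases hc with h1 | h1
      · rw [h1]
        exact key hr hl hs hls hrs
      · rw [Set.mem_singleton_iff] at h1
        rw [h1, add_comm (ell cs isCartan hr)]
        exact key hs hls hr hl (by rw [bf_comm, hrs])) hα
  obtain ⟨x, hx, y, hy, rfl⟩ := exists_mul D hr hl hs hls hrs hz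
  exact ⟨x, hx, y, hy, e⟩

end K2

end Main

/-! ### Elements of an overgroup -/

section Over

/-- an element inducing an inner automorphism on `K` -/
theorem eq_or_of_conj {G : Type*} [Group G] {K : Subgroup G} {t c : G} (hc : c ∈ Subgroup.normalizer (K : Set G))
    (hct : c * t = t * c) (hKt : ∀ k ∈ K, t * k = k * t)
    (hcK : ∀ x : G, x * t = t * x → (∀ k ∈ K, x * k = k * x) → x = 1 ∨ x = t) {z : ↥K}
    (hz : Subgroup.normalizerMonoidHom K ⟨c, hc⟩ = MulAut.conj z) : c = z ∨ c = t * z := by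
  have h1 : ∀ k : ↥K, c * (k : G) * c⁻¹ = (z : G) * k * (z : G)⁻¹ := by
    intro k
    have h2 := congrArg (fun α : MulAut ↥K => ((α k : ↥K) : G)) hz
    exact h2
  have hzt := hKt z z.2
  rcases hcK ((z : G)⁻¹ * c) (by
    have e1 : (z : G)⁻¹ * t = t * (z : G)⁻¹ := by
      rw [inv_mul_eq_iff_eq_mul, ← mul_assoc, ← hzt, mul_inv_cancel_right]
    calc (z : G)⁻¹ * c * t = (z : G)⁻¹ * (c * t) := by group
      _ = (z : G)⁻¹ * t * c := by rw [hct]; group
      _ = t * ((z : G)⁻¹ * c) := by rw [e1]; group) (by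
    intro k hk
    have h2 := h1 ⟨k, hk⟩
    calc (z : G)⁻¹ * c * k = (z : G)⁻¹ * (c * k * c⁻¹) * c := by group
      _ = (z : G)⁻¹ * (z * k * (z : G)⁻¹) * c := by rw [show c * k * c⁻¹ = z * k * (z : G)⁻¹ from h2]
      _ = k * ((z : G)⁻¹ * c) := by group) with h3 | h3
  · left
    exact (inv_mul_eq_one.1 h3).symm
  · right
    rw [hzt, ← h3, mul_inv_cancel_left]

variable {G : Type*} [Group G] {K : Subgroup G} {T : Subgroup ↥K} {n : Fin 4 → ↥K}
  {X : (Fin 4 → ℤ) → Subgroup ↥K} {R : RGD cs isCartan 2 T n X} (D : Dat R) (hN : NoCent cs isCartan T X)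
  (hG1 : RGD.Sup X {x | IsRoot cs isCartan x} = ⊤) {t c : G} (hc : c ∈ Subgroup.normalizer (K : Set G))
  (hct : c * t = t * c) (hKt : ∀ k ∈ K, t * k = k * t)
  (hcK : ∀ x : G, x * t = t * x → (∀ k ∈ K, x * k = k * x) → x = 1 ∨ x = t)

include D hN hG1 hc hct hKt hcK

/-- **(K1)** `C_{C(t)}(Q_r) ≤ ⟨t⟩ X r`. -/
theorem cent_k1 {r : Fin 4 → ℤ} (hr : IsRoot cs isCartan r) (hl : bf r r = 4)
    (hcr : ∀ a, IsRoot cs isCartan a → 0 < cpr cs isCartan a r → ∀ v ∈ X a, c * (v : G) = v * c) :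
    ∃ z ∈ X r, c = (z : G) ∨ c = t * (z : G) := by
  obtain ⟨z, hz, e⟩ := aut_k1 D hr hl hN hG1 (α := Subgroup.normalizerMonoidHom K ⟨c, hc⟩)
    (fun a ha har v hv => Subtype.ext (by
      show c * (v : G) * c⁻¹ = v
      rw [hcr a ha har v hv, mul_inv_cancel_right]))
  exact ⟨z, hz, eq_or_of_conj hc hct hKt hcK e⟩

/-- **(K2)** `C_{C(t)}(N_rs) ≤ ⟨t⟩ X r X s`. -/
theorem cent_k2 {r s : Fin 4 → ℤ} (hr : IsRoot cs isCartan r) (hl : bf r r = 4) (hs : IsRoot cs isCartan s)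
    (hls : bf s s = 4) (hrs : bf r s = 2)
    (hcr : ∀ a, IsRoot cs isCartan a → 0 < cpr cs isCartan a r + cpr cs isCartan a s → ∀ v ∈ X a,
      c * (v : G) = v * c) :
    ∃ x ∈ X r, ∃ y ∈ X s, c = (x : G) * y ∨ c = t * ((x : G) * y) := by
  obtain ⟨x, hx, y, hy, e⟩ := aut_k2 D hr hl hs hls hrs hN hG1 (α := Subgroup.normalizerMonoidHom K ⟨c, hc⟩)
    (fun a ha har v hv => Subtype.ext (by
      show c * (v : G) * c⁻¹ = v
      rw [hcr a ha har v hv, mul_inv_cancel_right]))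
  exact ⟨x, hx, y, hy, eq_or_of_conj hc hct hKt hcK e⟩

/-- **(T1s)** `C_{C(t)}(U) ≤ ⟨t⟩ X ρ`. -/
theorem t1s (hcr : ∀ a, IsRoot cs isCartan a → 0 ≤ a → ∀ v ∈ X a, c * (v : G) = v * c) :
    ∃ z ∈ X rho, c = (z : G) ∨ c = t * (z : G) := by
  refine cent_k1 D hN hG1 hc hct hKt hcK (rho_root cs) rho_long fun a ha har v hv => ?_
  rw [cpr_rho] at har
  refine hcr a ha ?_ v hv
  rcases ha.pos_or_neg with h1 | h1
  · exact h1
  · have := h1 0
    simp only [Pi.zero_apply] at this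
    omega

end Over

end Cfsg.Agent.KFacts.TwESix.Cent
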