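import Cfsg.Agent.KFacts.TwESix.Facts
import Cfsg.Agent.KFacts.RgdCentW

/-!
# Centralisers in `²E₆(q)`: two orthogonal long roots (helper622)

`R` a root group datum of type `F₄` with `Facts.Dat R`, `NoCent`; `r ⟂ s` long roots.

* `k0_fix` : `C(N_rs) ≤ ⟨X z : (z, b0) = 2⟩` for `r = ρ`, `s = s0`, `r + s = 2 b0`, `N_rs = ⟨X a : ⟨a, r^∨⟩ + ⟨a, s^∨⟩ > 0⟩`;
* **`aut_k0`** : an automorphism which centralises `N_rs` and all `X a`, `a ⟂ r, s`, is conjugation by an element of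
  `X r X s`.
-/

set_option autoImplicit false
set_option linter.unusedSectionVars false

namespace Cfsg.Agent.KFacts.TwESix.CentOrth

open CoxeterSystem Cfsg.Agent.ChevalleyStructure.CoxeterGeom Cfsg.Agent.Tits.Roots Cfsg.Agent.Tits.Core
  Cfsg.Agent.Tits.RootComb Cfsg.Agent.Tits.Exchange Cfsg.Agent.Nodes.Reps Cfsg.Agent.Nodes.BNOf
  Cfsg.Agent.Nodes.StabComb Cfsg.Agent.Nodes.Bruhat Cfsg.Agent.Nodes.OppDec Cfsg.Agent.Nodes.LeviDec
  Cfsg.Agent.Nodes.Coroot Cfsg.Agent.KFacts.RgdSL Cfsg.Agent.KFacts.RgdTI Cfsg.Agent.KFacts.RgdCent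
  Cfsg.Agent.KFacts.RgdEx
  Cfsg.Agent.KFacts.RgdCentW Cfsg.Agent.Nodes.RGDTwE6 Cfsg.Agent.KFacts.TwESix.Comb
  Cfsg.Agent.KFacts.TwESix.CombRho Cfsg.Agent.KFacts.TwESix.Facts
open scoped commutatorElement

/-! ### Combinatorics -/

/-- the long root orthogonal to `ρ` -/
def s0 : Fin 4 → ℤ := ![0, 1, 2, 2]

/-- `(ρ + s0) / 2` -/
def b0 : Fin 4 → ℤ := ![1, 2, 3, 2]

set_option maxRecDepth 20000

theorem mem0 : s0 ∈ rts ∧ bf s0 s0 = 4 ∧ b0 ∈ rts ∧ bf b0 b0 = 2 ∧ bf rho s0 = 0 := by decide +kernel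

theorem add0 : rho + s0 = (2 : ℤ) • b0 := by decide +kernel

theorem c1 : ∀ b ∈ rts, (∀ a ∈ rts, bf a a = 4 → bf a b0 = 2 → 0 ≤ bf b a) → 0 < bf b b0 := by decide +kernel

theorem c2 : ∀ z ∈ rts, bf z b0 = 2 → ∀ a ∈ rts, 0 < bf a b0 → (bf z z = 4 ∧ 0 ≤ bf a z) ∨
    (bf z z = 2 ∧ ((bf a a = 4 ∧ 0 ≤ bf z a) ∨ (bf a a = 2 ∧ (a = z ∨ bf z a = 1)))) := by decide +kernel

theorem c3 : ∀ b ∈ rts, 0 < bf b b0 → bf b b0 = 2 ∨ (bf b b0 = 1 ∧ bf b b = 2) := by decide +kernel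

theorem c4 : ∀ b ∈ rts, bf b b0 = 1 → ∀ y ∈ rts, bf y b0 = 1 → y = b ∨ bf b y = 1 ∨ bf b y = 0 ∨ bf b y = -1 := by
  decide +kernel

theorem c5 : ∀ b ∈ rts, bf b b0 = 1 → ∃ b' ∈ rts, bf b' b0 = 1 ∧ bf b' b' = 2 ∧ bf b b' = 0 := by decide +kernel

theorem c6 : ∀ z ∈ rts, bf z b0 = 2 → ∃ a ∈ rts, bf a b0 = 1 ∧ z - a ∈ rts ∧ bf (z - a) b0 = 1 := by decide +kernel

theorem c7 : ∀ b ∈ rts, bf b b0 = 0 → ∃ a ∈ rts, 0 < bf a b0 ∧ bf b a ≠ 0 := by decide +kernel

theorem c8 : ∀ m ∈ rts, bf m b0 = 2 → bf m m = 4 → m = rho ∨ m = s0 ∨ ∃ a ∈ rts, bf a a = 4 ∧ bf a rho = 0 ∧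
    bf a s0 = 0 ∧ bf a m = -2 ∧ ∀ c ∈ rts, bf c b0 = 2 → c = m ∨ 0 ≤ bf c a ∨ (bf c c = 4 ∧ bf c a = -2) := by
  decide +kernel

theorem c9 : ∃ a ∈ rts, bf a a = 2 ∧ bf a rho = 0 ∧ bf a s0 = 0 ∧ bf a b0 = 0 := by decide +kernel

theorem c10 : ∀ z ∈ rts, bf z b0 = 2 → ∀ w ∈ rts, 0 < bf w b0 → (w = z ∨ bf z w ≤ 2) := by decide +kernel

theorem c11 : ∀ z ∈ rts, bf z b0 = 2 → bf z z = 2 → z = b0 := by decide +kernel

theorem le_two : ∀ a ∈ rts, ∀ b ∈ rts, bf b b = 4 → bf a b ≤ 2 ∨ a = b := by decide +kernel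

/-- `x ↦ (x, b0)` -/
def f0 : (Fin 4 → ℤ) →+ ℤ where
  toFun x := bf x b0
  map_zero' := by decide +kernel
  map_add' x y := bf_add_left x y b0

theorem f0_apply (x : Fin 4 → ℤ) : f0 x = bf x b0 := rfl

variable {W Y : Type*} [Group W] [Group Y] {cs : CoxeterSystem CoxeterMatrix.F₄ W} {T : Subgroup Y} {n : Fin 4 → Y}
  {X : (Fin 4 → ℤ) → Subgroup Y} {R : RGD cs isCartan 2 T n X}

/-- level 2 -/
def S2 (cs : CoxeterSystem CoxeterMatrix.F₄ W) : Set (Fin 4 → ℤ) := {z | IsRoot cs isCartan z ∧ bf z b0 = 2}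

/-- level 1 -/
def S1 (cs : CoxeterSystem CoxeterMatrix.F₄ W) : Set (Fin 4 → ℤ) := {z | IsRoot cs isCartan z ∧ bf z b0 = 1}

theorem S1_short {b : Fin 4 → ℤ} (hb : b ∈ S1 cs) : bf b b = 2 := by
  have hb' : bf b b0 = 1 := hb.2
  rcases c3 b ((mem_rts cs).1 hb.1) (by omega) with h | h
  · omega
  · exact h.2

theorem pos_cases {b : Fin 4 → ℤ} (hb : IsRoot cs isCartan b) (h : 0 < bf b b0) : b ∈ S2 cs ∨ b ∈ S1 cs := by
  rcases c3 b ((mem_rts cs).1 hb) h with h1 | h1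
  · exact Or.inl ⟨hb, h1⟩
  · exact Or.inr ⟨hb, h1.1⟩

/-- `S2` without one long root is closed -/
theorem closed_sdiff {z : Fin 4 → ℤ} (hz : z ∈ S2 cs) (hzl : bf z z = 4) :
    Nodes.Unique.Closed cs isCartan (S2 cs \ {z}) := by
  rintro x ⟨hx, hxz⟩ y ⟨hy, hyz⟩ w hw
  have hw' := hw
  obtain ⟨hwr, m, a, b, hm, ha, hb, he⟩ := hw
  have e1 : m * bf w b0 = 2 * a + 2 * b := by
    have := congrArg (fun v => bf v b0) he
    simp only [bf_add_left, bf_smul_left] at this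
    rw [this, hx.2, hy.2]; ring
  have hwpos : 0 < bf w b0 := by
    have : 0 < m * bf w b0 := by rw [e1]; linarith
    exact (mul_pos_iff_of_pos_left hm).1 this
  have e2 : m * bf w w = a * bf x w + b * bf y w := by
    have h2 := congrArg (fun v => bf v w) he
    simpa only [bf_add_left, bf_smul_left] using h2
  rw [Set.mem_singleton_iff] at hxz hyz
  refine ⟨?_, ?_⟩
  · -- level 2
    rcases pos_cases hwr hwpos with h | h
    · exact h
    exfalso
    have hws := S1_short h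
    have h1 : bf w b0 = 1 := h.2
    rw [h1, mul_one] at e1
    have hxw : bf x w ≤ 2 := by
      rcases c10 x ((mem_rts cs).1 hx.1) hx.2 w ((mem_rts cs).1 hwr) hwpos with h2 | h2
      · rw [h2, hx.2] at h1; omega
      · exact h2
    have hyw : bf y w ≤ 2 := by
      rcases c10 y ((mem_rts cs).1 hy.1) hy.2 w ((mem_rts cs).1 hwr) hwpos with h2 | h2
      · rw [h2, hy.2] at h1; omega
      · exact h2
    rw [hws] at e2
    nlinarith
  · rw [Set.mem_singleton_iff]
    rintro rfl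
    rw [hz.2] at e1
    rw [hzl] at e2
    have hxw : bf x w ≤ 2 := by
      rcases c10 x ((mem_rts cs).1 hx.1) hx.2 w ((mem_rts cs).1 hwr) hwpos with h2 | h2
      · exact absurd h2.symm hxz
      · exact h2
    have hyw : bf y w ≤ 2 := by
      rcases c10 y ((mem_rts cs).1 hy.1) hy.2 w ((mem_rts cs).1 hwr) hwpos with h2 | h2
      · exact absurd h2.symm hyz
      · exact h2
    nlinarith

theorem closed_S2 : Nodes.Unique.Closed cs isCartan (S2 cs) := by
  intro x hx y hy w hw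
  obtain ⟨hwr, m, a, b, hm, ha, hb, he⟩ := hw
  have e1 : m * bf w b0 = 2 * a + 2 * b := by
    have := congrArg (fun v => bf v b0) he
    simp only [bf_add_left, bf_smul_left] at this
    rw [this, hx.2, hy.2]; ring
  have hwpos : 0 < bf w b0 := by
    have : 0 < m * bf w b0 := by rw [e1]; linarith
    exact (mul_pos_iff_of_pos_left hm).1 this
  have e2 : m * bf w w = a * bf x w + b * bf y w := by
    have h2 := congrArg (fun v => bf v w) he
    simpa only [bf_add_left, bf_smul_left] using h2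
  rcases pos_cases hwr hwpos with h | h
  · exact h
  exfalso
  have hws := S1_short h
  have h1 : bf w b0 = 1 := h.2
  rw [h1, mul_one] at e1
  have hxw : bf x w ≤ 2 := by
    rcases c10 x ((mem_rts cs).1 hx.1) hx.2 w ((mem_rts cs).1 hwr) hwpos with h2 | h2
    · rw [h2, hx.2] at h1; omega
    · exact h2
  have hyw : bf y w ≤ 2 := by
    rcases c10 y ((mem_rts cs).1 hy.1) hy.2 w ((mem_rts cs).1 hwr) hwpos with h2 | h2
    · rw [h2, hy.2] at h1; omega
    · exact h2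
  rw [hws] at e2
  nlinarith

theorem closed_singleton {b : Fin 4 → ℤ} (hb : IsRoot cs isCartan b) :
    Nodes.Unique.Closed cs isCartan ({b} : Set (Fin 4 → ℤ)) := by
  have : Finite W := finiteW cs
  intro x hx y hy z hz
  rw [Set.mem_singleton_iff] at hx hy
  rw [hx, hy] at hz
  rw [Nodes.Unique.btwn_self hb hz]
  rfl

/-! ### Peeling off one factor -/

theorem mem_of_peel {Xb A M V : Subgroup Y} (hn : ∀ g ∈ Xb, ∀ a ∈ A, g * a * g⁻¹ ∈ A)
    (hA : ∀ a ∈ A, ∀ v ∈ V, ⁅a, v⁆ ∈ M) (hM : ∀ x ∈ Xb, ∀ m ∈ M, x * m = m * x)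
    (hz : ∀ x ∈ Xb, ∀ v ∈ V, ⁅x, v⁆ ∈ M → ⁅x, v⁆ = 1) (hnd : ∀ x ∈ Xb, (∀ v ∈ V, x * v = v * x) → x = 1) {q : Y}
    (hq : q ∈ Xb ⊔ A) (hc : ∀ v ∈ V, q * v = v * q) : q ∈ A := by
  have hle : Xb ≤ Subgroup.normalizer (A : Set Y) := by
    intro g hg
    rw [Subgroup.mem_normalizer_iff]
    intro a
    refine ⟨hn g hg a, fun h => ?_⟩
    have := hn g⁻¹ (inv_mem hg) _ h
    have e : g⁻¹ * (g * a * g⁻¹) * g⁻¹⁻¹ = a := by group
    rwa [e] at this
  rw [← SetLike.mem_coe, Subgroup.coe_mul_of_left_le_normalizer_right _ _ hle, Set.mem_mul] at hq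
  obtain ⟨x, hx, a, ha, rfl⟩ := hq
  have hx1 : x = 1 := by
    refine hnd x hx fun v hv => ?_
    have h1 : ⁅x, v⁆ ∈ M := by
      have h2 := hA a ha v hv
      have h3 := hc v hv
      have e : ⁅x, v⁆ = (x * ⁅a, v⁆ * x⁻¹)⁻¹ := by
        have e1 : x * ⁅a, v⁆ * x⁻¹ * ⁅x, v⁆ = 1 := by
          rw [commutatorElement_def, commutatorElement_def]
          calc x * (a * v * a⁻¹ * v⁻¹) * x⁻¹ * (x * v * x⁻¹ * v⁻¹) = (x * a * v) * (x * a)⁻¹ * v⁻¹ := by group
            _ = 1 := by rw [h3]; group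
        exact eq_inv_of_mul_eq_one_right e1
      rw [e, hM x hx _ h2, mul_inv_cancel_right]
      exact inv_mem h2
    exact commutatorElement_eq_one_iff_mul_comm.1 (hz x hx v hv h1)
  rw [hx1, one_mul]
  exact ha

/-- the commutators of the elements of a subgroup generated by root groups -/
theorem comm_mem_of_gen {B : Set (Fin 4 → ℤ)} {M : Subgroup Y} {v : Y}
    (hM : ∀ b ∈ B, ∀ u ∈ X b, ∀ m ∈ M, u * m = m * u) (h : ∀ b ∈ B, ∀ u ∈ X b, ⁅u, v⁆ ∈ M) :
    ∀ a ∈ RGD.Sup X B, ⁅a, v⁆ ∈ M := by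
  have hM' : ∀ a ∈ RGD.Sup X B, ∀ m ∈ M, a * m = m * a := by
    intro a ha m hm
    have h1 : RGD.Sup X B ≤ Subgroup.centralizer {m} := RGD.Sup_le fun b hb u hu => by
      rw [Subgroup.mem_centralizer_singleton_iff]
      exact hM b hb u hu m hm
    exact Subgroup.mem_centralizer_singleton_iff.1 (h1 ha)
  let N : Subgroup Y :=
    { carrier := {a | a ∈ RGD.Sup X B ∧ ⁅a, v⁆ ∈ M}
      one_mem' := ⟨one_mem _, by rw [commutatorElement_one_left]; exact one_mem _⟩
      mul_mem' := by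
        rintro a b ⟨ha, ha'⟩ ⟨hb, hb'⟩
        refine ⟨mul_mem ha hb, ?_⟩
        have e : ⁅a * b, v⁆ = (a * ⁅b, v⁆ * a⁻¹) * ⁅a, v⁆ := by
          rw [commutatorElement_def, commutatorElement_def, commutatorElement_def]; group
        rw [e, hM' a ha _ hb', mul_inv_cancel_right]
        exact mul_mem hb' ha'
      inv_mem' := by
        rintro a ⟨ha, ha'⟩
        refine ⟨inv_mem ha, ?_⟩
        have e : ⁅a⁻¹, v⁆ = a⁻¹ * ⁅a, v⁆⁻¹ * a⁻¹⁻¹ := by
          rw [commutatorElement_def, commutatorElement_def]; group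
        rw [e, hM' a⁻¹ (inv_mem ha) _ (inv_mem ha'), mul_inv_cancel_right]
        exact inv_mem ha' }
  have hle : RGD.Sup X B ≤ N := RGD.Sup_le fun b hb u hu => ⟨RGD.le_Sup hb hu, h b hb u hu⟩
  exact fun a ha => (hle ha).2

/-- a root group normalising a group generated by root groups -/
theorem conj_mem_of_comm {B : Set (Fin 4 → ℤ)} {g : Y} (h : ∀ b ∈ B, ∀ u ∈ X b, ⁅g, u⁆ ∈ RGD.Sup X B) :
    ∀ a ∈ RGD.Sup X B, g * a * g⁻¹ ∈ RGD.Sup X B := by
  have hle : RGD.Sup X B ≤ (RGD.Sup X B).comap (MulAut.conj g).toMonoidHom := RGD.Sup_le fun b hb u hu => by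
    show g * u * g⁻¹ ∈ RGD.Sup X B
    have e : g * u * g⁻¹ = ⁅g, u⁆ * u := by rw [commutatorElement_def]; group
    rw [e]
    exact mul_mem (h b hb u hu) (RGD.le_Sup hb hu)
  exact fun a ha => hle ha

section Main

variable (D : Dat R)

include D

/-- level 2 is central -/
theorem comm_S2 {z a : Fin 4 → ℤ} (hz : z ∈ S2 cs) (ha : IsRoot cs isCartan a) (ha0 : 0 < bf a b0) {u v : Y}
    (hu : u ∈ X z) (hv : v ∈ X a) : u * v = v * u := by
  rcases c2 z ((mem_rts cs).1 hz.1) hz.2 a ((mem_rts cs).1 ha) ha0 with ⟨h1, h2⟩ | ⟨h1, ⟨h2, h3⟩ | ⟨h2, h3⟩⟩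
  · exact (comm_long D ha hz.1 h1 h2 hv hu).symm
  · exact comm_long D hz.1 ha h2 h3 hu hv
  · rcases h3 with h3 | h3
    · rw [h3] at hv
      exact abel R hz.1 hu hv
    · exact comm_60 R hz.1 ha h1 h2 h3 hu hv

theorem comm_Sup_S2 {B : Set (Fin 4 → ℤ)} (hB : B ⊆ S2 cs) {a : Fin 4 → ℤ} (ha : IsRoot cs isCartan a)
    (ha0 : 0 < bf a b0) {u v : Y} (hu : u ∈ RGD.Sup X B) (hv : v ∈ X a) : u * v = v * u := by
  have h1 : RGD.Sup X B ≤ Subgroup.centralizer {v} := RGD.Sup_le fun b hb u hu => by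
    rw [Subgroup.mem_centralizer_singleton_iff]
    exact comm_S2 D (hB hb) ha ha0 hu hv
  exact Subgroup.mem_centralizer_singleton_iff.1 (h1 hu)

/-- the commutators of level 1 -/
theorem comm_S1 {b y : Fin 4 → ℤ} (hb : b ∈ S1 cs) (hy : y ∈ S1 cs) {u v : Y} (hu : u ∈ X b) (hv : v ∈ X y) :
    u * v = v * u ∨ (b + y ∈ S2 cs ∧ ⁅u, v⁆ ∈ X (b + y)) := by
  have : Finite W := finiteW cs
  have hbb := S1_short hb
  have hyy := S1_short hy
  have hlev : bf (b + y) b0 = 2 := by rw [bf_add_left, hb.2, hy.2]; norm_num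
  rcases c4 b ((mem_rts cs).1 hb.1) hb.2 y ((mem_rts cs).1 hy.1) hy.2 with h | h | h | h
  · left
    rw [h] at hv
    exact abel R hb.1 hu hv
  · left
    exact comm_60 R hb.1 hy.1 hbb hyy h hu hv
  · right
    refine ⟨⟨(mem_rts cs).2 (orth_add b ((mem_rts cs).1 hb.1) hbb y ((mem_rts cs).1 hy.1) hyy h).1, hlev⟩, ?_⟩
    exact orth_mem R hb.1 hy.1 hbb hyy h hu hv
  · right
    have hA : A2 cs isCartan b y := a2 cs hb.1 hy.1 (by rw [hbb, hyy]) (by rw [h, hbb]; norm_num)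
    exact ⟨⟨hA.rxy, hlev⟩, hA.comm_mem R hu hv⟩

/-- `X z ∩ ⟨X w : w ∈ S2, w ≠ z⟩ = 1`, `z` long of level 2 -/
theorem inf_S2 {z : Fin 4 → ℤ} (hz : z ∈ S2 cs) (hzl : bf z z = 4) {u : Y} (hu : u ∈ X z)
    (hu' : u ∈ RGD.Sup X (S2 cs \ {z})) : u = 1 := by
  have : Finite W := finiteW cs
  have h1 := inf_eq_half R f0 (S := {z}) (S' := S2 cs \ {z}) (by
    intro x hx
    rw [Set.mem_singleton_iff] at hx
    subst hx
    exact ⟨hz.1, by rw [f0_apply, hz.2]; norm_num⟩) (by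
    rintro x ⟨hx, -⟩
    exact ⟨hx.1, by rw [f0_apply, hx.2]; norm_num⟩) (closed_singleton hz.1) (closed_sdiff hz hzl)
  have h2 : u ∈ RGD.Sup X {z} ⊓ RGD.Sup X (S2 cs \ {z}) :=
    Subgroup.mem_inf.2 ⟨RGD.le_Sup (X := X) (Set.mem_singleton z) hu, hu'⟩
  rw [h1] at h2
  have h3 : RGD.Sup X ({z} ∩ (S2 cs \ {z})) = ⊥ := by
    rw [eq_bot_iff]
    exact RGD.Sup_le fun w hw => absurd hw.1 hw.2.2
  rwa [h3, Subgroup.mem_bot] at h2

/-- `X b ∩ ⟨X w : w ∈ S2⟩ = 1`, `b` of level 1 -/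
theorem inf_S1 {b : Fin 4 → ℤ} (hb : b ∈ S1 cs) {u : Y} (hu : u ∈ X b) (hu' : u ∈ RGD.Sup X (S2 cs)) : u = 1 := by
  have : Finite W := finiteW cs
  have h1 := inf_eq_half R f0 (S := {b}) (S' := S2 cs) (by
    intro x hx
    rw [Set.mem_singleton_iff] at hx
    subst hx
    exact ⟨hb.1, by rw [f0_apply, hb.2]; norm_num⟩) (by
    rintro x hx
    exact ⟨hx.1, by rw [f0_apply, hx.2]; norm_num⟩) (closed_singleton hb.1) closed_S2
  have h2 : u ∈ RGD.Sup X {b} ⊓ RGD.Sup X (S2 cs) :=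
    Subgroup.mem_inf.2 ⟨RGD.le_Sup (X := X) (Set.mem_singleton b) hu, hu'⟩
  rw [h1] at h2
  have h3 : RGD.Sup X ({b} ∩ S2 cs) = ⊥ := by
    rw [eq_bot_iff]
    refine RGD.Sup_le fun w hw => ?_
    exfalso
    have h4 := hw.1
    rw [Set.mem_singleton_iff] at h4
    have h5 := hw.2.2
    rw [h4, hb.2] at h5
    omega
  rwa [h3, Subgroup.mem_bot] at h2

/-- an element of `N` centralising the groups of level 1 is of level 2 -/
theorem peel_one {q : Y} (hq : q ∈ RGD.Sup X (S2 cs ∪ S1 cs))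
    (hc : ∀ b ∈ S1 cs, ∀ v ∈ X b, q * v = v * q) : q ∈ RGD.Sup X (S2 cs) := by
  have : Finite W := finiteW cs
  have hfin : (S1 cs).Finite := (RGD.finite_roots (cs := cs) (h := isCartan)).subset fun b hb => hb.1
  have key : ∀ F : Set (Fin 4 → ℤ), F.Finite → F ⊆ S1 cs → q ∈ RGD.Sup X (S2 cs ∪ (S1 cs \ F)) := by
    intro F hF
    induction F, hF using Set.Finite.induction_on with
    | empty => intro _; rw [Set.sdiff_empty]; exact hq
    | @insert b F hb _ ih =>
      intro hsub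
      have h1 := ih fun x hx => hsub (Set.mem_insert_of_mem b hx)
      have hbS := hsub (Set.mem_insert b F)
      obtain ⟨b', hb'r, hb'0, hb'b', hbb'⟩ := c5 b ((mem_rts cs).1 hbS.1) hbS.2
      have hb' : b' ∈ S1 cs := ⟨(mem_rts cs).2 hb'r, hb'0⟩
      have hbb := S1_short hbS
      obtain ⟨hzr, hzl⟩ := orth_add b ((mem_rts cs).1 hbS.1) hbb b' hb'r hb'b' hbb'
      have hz : b + b' ∈ S2 cs := ⟨(mem_rts cs).2 hzr, by rw [bf_add_left, hbS.2, hb'0]; norm_num⟩
      have hzl' : bf (b + b') (b + b') = 4 := by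
        rw [bf_add_left, bf_add_right, bf_add_right, bf_comm b' b, hbb, hb'b', hbb']; norm_num
      have h3 : S1 cs \ insert b F = (S1 cs \ F) \ {b} := by
        ext x
        simp only [Set.mem_sdiff, Set.mem_singleton_iff, Set.mem_insert_iff]
        tauto
      rw [h3]
      set A := RGD.Sup X (S2 cs ∪ ((S1 cs \ F) \ {b})) with hA
      have hS2A : RGD.Sup X (S2 cs) ≤ A := RGD.Sup_mono Set.subset_union_left
      have hcomS : ∀ c ∈ S1 cs, ∀ y ∈ S1 cs, ∀ u ∈ X c, ∀ v ∈ X y, ⁅u, v⁆ ∈ RGD.Sup X (S2 cs) := by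
        intro c hc y hy u hu v hv
        rcases comm_S1 D hc hy hu hv with h | ⟨h, h'⟩
        · rw [commutatorElement_eq_one_iff_mul_comm.2 h]; exact one_mem _
        · exact RGD.le_Sup h h'
      have hcomS' : ∀ c ∈ S2 cs, ∀ a, IsRoot cs isCartan a → 0 < bf a b0 → ∀ u ∈ X c, ∀ v ∈ X a, ⁅u, v⁆ = 1 := by
        intro c hc a ha ha0 u hu v hv
        exact commutatorElement_eq_one_iff_mul_comm.2 (comm_S2 D hc ha ha0 hu hv)
      refine mem_of_peel (Xb := X b) (A := A) (M := RGD.Sup X (S2 cs \ {b + b'})) (V := X b') ?_ ?_ ?_ ?_ ?_ ?_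
        (hc b' hb')
      · intro g hg
        refine conj_mem_of_comm fun c hc u hu => hS2A ?_
        rcases hc with hc | hc
        · have h4 := hcomS' c hc b hbS.1 (by rw [hbS.2]; norm_num) u hu g hg
          rw [← commutatorElement_inv, h4, inv_one]; exact one_mem _
        · exact hcomS b hbS c hc.1.1 g hg u hu
      · intro a ha v hv
        refine comm_mem_of_gen (B := S2 cs ∪ ((S1 cs \ F) \ {b})) ?_ ?_ a ha
        · intro c hc u hu m hm
          refine (comm_Sup_S2 D (B := S2 cs \ {b + b'}) Set.sdiff_subset ?_ ?_ hm hu).symm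
          · rcases hc with hc | hc
            · exact hc.1
            · exact hc.1.1.1
          · rcases hc with hc | hc
            · rw [hc.2]; norm_num
            · rw [hc.1.1.2]; norm_num
        · intro c hc u hu
          rcases hc with hc | hc
          · rw [hcomS' c hc b' hb'.1 (by rw [hb'0]; norm_num) u hu v hv]; exact one_mem _
          · rcases comm_S1 D hc.1.1 hb' hu hv with h | ⟨h, h'⟩
            · rw [commutatorElement_eq_one_iff_mul_comm.2 h]; exact one_mem _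
            · refine RGD.le_Sup (S := S2 cs \ {b + b'}) ⟨h, fun h4 => hc.2 ?_⟩ h'
              rw [Set.mem_singleton_iff] at h4 ⊢
              exact add_right_cancel h4
      · intro x hx m hm
        exact (comm_Sup_S2 D (B := S2 cs \ {b + b'}) Set.sdiff_subset hbS.1 (by rw [hbS.2]; norm_num) hm hx).symm
      · intro x hx v hv hM
        exact inf_S2 D hz hzl' (orth_mem R hbS.1 hb'.1 hbb hb'b' hbb' hx hv) hM
      · intro x hx hcx
        by_contra hx1
        obtain ⟨v, hv, hne⟩ := orth_nd D hbS.1 hb'.1 hbb hb'b' hbb' hx hx1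
        exact hne (hcx v hv)
      · refine (RGD.Sup_le fun y hy => ?_ : RGD.Sup X (S2 cs ∪ (S1 cs \ F)) ≤ X b ⊔ A) h1
        by_cases hyb : y = b
        · rw [hyb]; exact le_sup_left
        · refine le_trans (RGD.le_Sup (S := S2 cs ∪ ((S1 cs \ F) \ {b})) ?_) le_sup_right
          exact hy.imp id fun h1 => ⟨h1, hyb⟩
  have h1 := key _ hfin le_rfl
  rwa [Set.sdiff_self, Set.union_empty] at h1

/-- **`C(N) ≤ ⟨X z : z ∈ S2⟩`** -/
theorem k0_fix (hN : NoCent cs isCartan T X) {g : Y} (hg : g ∈ GG cs isCartan T X)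
    (hc : ∀ a, IsRoot cs isCartan a → 0 < f0 a → ∀ v ∈ X a, g * v = v * g) : g ∈ RGD.Sup X (S2 cs) := by
  have : Finite W := finiteW cs
  set Psi : Set (Fin 4 → ℤ) := {a | a ∈ S2 cs ∧ bf a a = 4} with hPsi
  have hLR : ∀ a ∈ Psi, LR R a := fun a ha => D.lr a ha.1.1 ha.2
  have hst : ∀ b ∈ Star cs isCartan Psi, ∀ a ∈ Psi, ∀ u ∈ X b, ∀ v ∈ X a, u * v = v * u :=
    fun b hb a ha u hu v hv => (hLR a ha).comm b hb.1 (hb.2 a ha) u hu v hv
  obtain ⟨τ, hτ, -, q, hq, rfl⟩ := cent_eq R hLR hst hg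
    (fun a ha v hv => hc a ha.1.1 (by rw [f0_apply, ha.1.2]; norm_num) v hv)
  have hsub : Star cs isCartan Psi ⊆ S2 cs ∪ S1 cs := by
    intro b hb
    refine pos_cases hb.1 (c1 b ((mem_rts cs).1 hb.1) fun a ha haa ha0 => ?_)
    have har := (mem_rts cs).2 ha
    exact (ge_iff cs har haa).1 (hb.2 a ⟨⟨har, ha0⟩, haa⟩)
  have hq0 : q ∈ RGD.Sup X (S2 cs ∪ S1 cs) := RGD.Sup_mono hsub hq
  -- `q` commutes with the groups of level 1
  have hq1 : ∀ b ∈ S1 cs, ∀ v ∈ X b, q * v = v * q := by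
    intro b hb v hv
    have h1 : q * v * q⁻¹ = τ⁻¹ * v * τ := by
      have h2 := hc b hb.1 (by rw [f0_apply, hb.2]; norm_num) v hv
      calc q * v * q⁻¹ = τ⁻¹ * (τ * q * v) * q⁻¹ := by group
        _ = τ⁻¹ * (v * (τ * q)) * q⁻¹ := by rw [h2]
        _ = _ := by group
    have h2 : ⁅q, v⁆ ∈ X b := by
      have h3 := tor_mem R hb.1 (inv_mem hτ) hv
      rw [inv_inv] at h3
      rw [commutatorElement_def, h1]
      exact mul_mem h3 (inv_mem hv)
    have h3 : ⁅q, v⁆ ∈ RGD.Sup X (S2 cs) := by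
      refine comm_mem_of_gen (B := S2 cs ∪ S1 cs) ?_ ?_ q hq0
      · intro c hc u hu m hm
        refine (comm_Sup_S2 D (B := S2 cs) subset_rfl ?_ ?_ hm hu).symm
        · rcases hc with hc | hc
          · exact hc.1
          · exact hc.1
        · rcases hc with hc | hc
          · rw [hc.2]; norm_num
          · rw [hc.2]; norm_num
      · intro c hc u hu
        rcases hc with hc | hc
        · rw [commutatorElement_eq_one_iff_mul_comm.2 (comm_S2 D hc hb.1 (by rw [hb.2]; norm_num) hu hv)]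
          exact one_mem _
        · rcases comm_S1 D hc hb hu hv with h | ⟨h, h'⟩
          · rw [commutatorElement_eq_one_iff_mul_comm.2 h]; exact one_mem _
          · exact RGD.le_Sup h h'
    exact commutatorElement_eq_one_iff_mul_comm.1 (inf_S1 D hb h2 h3)
  have hq2 := peel_one D hq0 hq1
  have h2 : ∀ a, IsRoot cs isCartan a → 0 < f0 a → a ∈ Cen cs isCartan X τ := by
    intro a ha hfa
    refine ⟨ha, fun v hv => ?_⟩
    have h3 : q * v = v * q := comm_Sup_S2 D subset_rfl ha hfa hq2 hv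
    have h5 := hc a ha hfa v hv
    have h6 : τ * v * q = v * τ * q := by
      rw [mul_assoc, ← h3, ← mul_assoc, h5, mul_assoc]
    exact mul_right_cancel h6
  have h3 : τ = 1 := hN τ hτ fun b hb => (cen_all R hτ f0 (fun b hb h0 => by
    obtain ⟨a, ha, h4, h5⟩ := c7 b ((mem_rts cs).1 hb) h0
    have har := (mem_rts cs).2 ha
    refine ⟨a, har, h4, fun h6 => h5 ?_⟩
    have h7 := two_bf cs b har
    rw [h6, zero_mul] at h7
    omega) h2 hb).2
  rw [h3, one_mul]
  exact hq2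

/-- elements of level 2 centralising the groups orthogonal to `ρ`, `s0` -/
theorem peel_two {q : Y} (hq : q ∈ RGD.Sup X (S2 cs))
    (hc : ∀ a, IsRoot cs isCartan a → bf a rho = 0 → bf a s0 = 0 → ∀ v ∈ X a, q * v = v * q) :
    ∃ x ∈ X rho, ∃ y ∈ X s0, q = x * y := by
  have : Finite W := finiteW cs
  set L : Set (Fin 4 → ℤ) := {m | m ∈ S2 cs ∧ bf m m = 4 ∧ m ≠ rho ∧ m ≠ s0} with hL
  have hLS : L ⊆ S2 cs := fun m hm => hm.1
  have hfin : L.Finite := (RGD.finite_roots (cs := cs) (h := isCartan)).subset fun b hb => hb.1.1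
  have hab : ∀ c ∈ S2 cs, ∀ c' ∈ S2 cs, ∀ u ∈ X c, ∀ v ∈ X c', u * v = v * u := fun c hc c' hc' u hu v hv =>
    comm_S2 D hc hc'.1 (by rw [hc'.2]; norm_num) hu hv
  have habS : ∀ {B : Set (Fin 4 → ℤ)}, B ⊆ S2 cs → ∀ c ∈ S2 cs, ∀ u ∈ X c, ∀ m ∈ RGD.Sup X B, u * m = m * u :=
    fun hB c hc u hu m hm => (comm_Sup_S2 D hB hc.1 (by rw [hc.2]; norm_num) hm hu).symm
  have key : ∀ F : Set (Fin 4 → ℤ), F.Finite → F ⊆ L → q ∈ RGD.Sup X (S2 cs \ F) := by
    intro F hF
    induction F, hF using Set.Finite.induction_on with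
    | empty => intro _; rw [Set.sdiff_empty]; exact hq
    | @insert m F hm _ ih =>
      intro hsub
      have h1 := ih fun x hx => hsub (Set.mem_insert_of_mem m hx)
      have hmL := hsub (Set.mem_insert m F)
      obtain ⟨hmS, hml, hmr, hms⟩ := hmL
      rcases c8 m ((mem_rts cs).1 hmS.1) hmS.2 hml with h | h | ⟨a, ha, haa, har, has, ham, hall⟩
      · exact absurd h hmr
      · exact absurd h hms
      have har' := (mem_rts cs).2 ha
      have ha0 : bf a b0 = 0 := by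
        have h4 := congrArg (fun v => bf a v) add0
        simp only [bf_add_right, bf_smul_right] at h4
        omega
      have hA : A2 cs isCartan m a := a2 cs hmS.1 har' (by rw [hml, haa]) (by rw [bf_comm, ham, hml]; norm_num)
      have hz : m + a ∈ S2 cs := ⟨hA.rxy, by rw [bf_add_left, hmS.2, ha0]; norm_num⟩
      have hzl : bf (m + a) (m + a) = 4 := by
        rw [bf_add_left, bf_add_right, bf_add_right, bf_comm m a, ham, hml, haa]; norm_num
      have h3 : S2 cs \ insert m F = (S2 cs \ F) \ {m} := by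
        ext x
        simp only [Set.mem_sdiff, Set.mem_singleton_iff, Set.mem_insert_iff]
        tauto
      rw [h3]
      refine mem_of_peel (Xb := X m) (A := RGD.Sup X ((S2 cs \ F) \ {m})) (M := RGD.Sup X (S2 cs \ {m + a}))
        (V := X a) ?_ ?_ ?_ ?_ ?_ ?_ (hc a har' har has)
      · intro g hg
        refine conj_mem_of_comm fun c hc u hu => ?_
        rw [commutatorElement_eq_one_iff_mul_comm.2 (hab m hmS c hc.1.1 g hg u hu)]
        exact one_mem _
      · intro a' ha' v hv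
        refine comm_mem_of_gen (B := (S2 cs \ F) \ {m}) (fun c hc u hu k hk =>
          habS Set.sdiff_subset c hc.1.1 u hu k hk) (fun c hc u hu => ?_) a' ha'
        rcases hall c ((mem_rts cs).1 hc.1.1.1) hc.1.1.2 with h | h | ⟨h, h'⟩
        · exact absurd h hc.2
        · rw [commutatorElement_eq_one_iff_mul_comm.2 (comm_long D hc.1.1.1 har' haa h hu hv)]
          exact one_mem _
        · have hA' : A2 cs isCartan c a := a2 cs hc.1.1.1 har' (by rw [h, haa]) (by rw [h', h]; norm_num)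
          refine RGD.le_Sup (S := S2 cs \ {m + a}) ⟨⟨hA'.rxy, ?_⟩, fun h5 => hc.2 ?_⟩ (hA'.comm_mem R hu hv)
          · rw [bf_add_left, hc.1.1.2, ha0]; norm_num
          · rw [Set.mem_singleton_iff] at h5 ⊢
            exact add_right_cancel h5
      · intro x hx k hk
        exact habS Set.sdiff_subset m hmS x hx k hk
      · intro x hx v hv hM
        exact inf_S2 D hz hzl (hA.comm_mem R hx hv) hM
      · intro x hx hcx
        by_contra hx1
        obtain ⟨v, hv, hv1⟩ := exists_ne_one R har'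
        exact hA.comm_ne_one R hx hx1 hv hv1 (commutatorElement_eq_one_iff_mul_comm.2 (hcx v hv))
      · refine (RGD.Sup_le fun y hy => ?_ : RGD.Sup X (S2 cs \ F) ≤ X m ⊔ RGD.Sup X ((S2 cs \ F) \ {m})) h1
        by_cases hyb : y = m
        · rw [hyb]; exact le_sup_left
        · exact le_trans (RGD.le_Sup (S := (S2 cs \ F) \ {m}) ⟨hy, hyb⟩) le_sup_right
  have h1 := key L hfin le_rfl
  -- the last group
  obtain ⟨a, ha, haa, har, has, ha0⟩ := c9
  have har' := (mem_rts cs).2 ha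
  obtain ⟨hs0, hs0l, hb0, hb0s, hrs⟩ := mem0
  have hb0r := (mem_rts cs).2 hb0
  have hs0r := (mem_rts cs).2 hs0
  have h2 : S2 cs \ L ⊆ {b0} ∪ {rho, s0} := by
    rintro x ⟨hx, hxL⟩
    by_cases hxl : bf x x = 4
    · right
      by_contra hcon
      apply hxL
      refine ⟨hx, hxl, fun h => hcon ?_, fun h => hcon ?_⟩
      · rw [h]; exact Set.mem_insert _ _
      · rw [h]; exact Set.mem_insert_of_mem _ rfl
    · left
      exact c11 x ((mem_rts cs).1 hx.1) hx.2 ((norm cs hx.1).resolve_left hxl)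
  have hrhoS : rho ∈ S2 cs := ⟨rho_root cs, by decide +kernel⟩
  have hs0S : s0 ∈ S2 cs := ⟨hs0r, by decide +kernel⟩
  have hb0S : b0 ∈ S2 cs := ⟨hb0r, hb0s⟩
  have h3 : q ∈ RGD.Sup X ({rho, s0} : Set (Fin 4 → ℤ)) := by
    have hcomm : ∀ c ∈ ({rho, s0} : Set (Fin 4 → ℤ)), ∀ u ∈ X c, ∀ v ∈ X a, u * v = v * u := by
      intro c hc u hu v hv
      rcases hc with hc | hc
      · rw [hc] at hu
        exact (comm_long D har' (rho_root cs) rho_long har.ge hv hu).symm
      · rw [Set.mem_singleton_iff] at hc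
        rw [hc] at hu
        exact (comm_long D har' hs0r hs0l has.ge hv hu).symm
    have hsub : ({rho, s0} : Set (Fin 4 → ℤ)) ⊆ S2 cs := by
      intro c hc
      rcases hc with hc | hc
      · rw [hc]; exact hrhoS
      · rw [Set.mem_singleton_iff] at hc
        rw [hc]; exact hs0S
    refine mem_of_peel (Xb := X b0) (A := RGD.Sup X ({rho, s0} : Set (Fin 4 → ℤ))) (M := ⊥) (V := X a)
      ?_ ?_ ?_ ?_ ?_ ?_ (hc a har' har has)
    · intro g hg
      refine conj_mem_of_comm fun c hc u hu => ?_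
      rw [commutatorElement_eq_one_iff_mul_comm.2 (hab b0 hb0S c (hsub hc) g hg u hu)]
      exact one_mem _
    · intro a' ha' v hv
      refine comm_mem_of_gen (B := ({rho, s0} : Set (Fin 4 → ℤ))) (fun c hc u hu k hk => ?_)
        (fun c hc u hu => ?_) a' ha'
      · rw [Subgroup.mem_bot] at hk
        rw [hk, mul_one, one_mul]
      · rw [commutatorElement_eq_one_iff_mul_comm.2 (hcomm c hc u hu v hv)]
        exact one_mem _
    · intro x hx k hk
      rw [Subgroup.mem_bot] at hk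
      rw [hk, mul_one, one_mul]
    · intro x hx v hv hM
      exact Subgroup.mem_bot.1 hM
    · intro x hx hcx
      by_contra hx1
      obtain ⟨v, hv, hne⟩ := orth_nd D hb0r har' hb0s haa (by rw [bf_comm]; exact ha0) hx hx1
      exact hne (hcx v hv)
    · refine (RGD.Sup_le fun y hy => ?_ : RGD.Sup X (S2 cs \ L) ≤ X b0 ⊔ RGD.Sup X ({rho, s0} : Set (Fin 4 → ℤ))) h1
      rcases h2 hy with h | h
      · rw [Set.mem_singleton_iff] at h
        rw [h]; exact le_sup_left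
      · exact le_trans (RGD.le_Sup h) le_sup_right
  have hle : X rho ≤ Subgroup.normalizer (X s0 : Set Y) := by
    intro x hx
    rw [Subgroup.mem_normalizer_iff]
    intro y
    constructor
    · intro hy
      rw [hab rho hrhoS s0 hs0S x hx y hy, mul_inv_cancel_right]; exact hy
    · intro hy
      have h4 := hab rho hrhoS s0 hs0S x hx _ hy
      have e : y = x⁻¹ * (x * y * x⁻¹ * x) := by group
      rw [← h4] at e
      rw [e, inv_mul_cancel_left]; exact hy
  have h4 : RGD.Sup X ({rho, s0} : Set (Fin 4 → ℤ)) ≤ X rho ⊔ X s0 := RGD.Sup_le fun z hz => by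
    rcases hz with h1 | h1
    · rw [h1]; exact le_sup_left
    · rw [Set.mem_singleton_iff] at h1; rw [h1]; exact le_sup_right
  have h5 : q ∈ ((X rho ⊔ X s0 : Subgroup Y) : Set Y) := h4 h3
  rw [Subgroup.coe_mul_of_left_le_normalizer_right _ _ hle] at h5
  obtain ⟨x, hx, y, hy, e⟩ := h5
  exact ⟨x, hx, y, hy, e.symm⟩

/-- the case `ρ`, `s0` -/
theorem aut_fix (hN : NoCent cs isCartan T X) (hG1 : RGD.Sup X {x | IsRoot cs isCartan x} = ⊤) {α : MulAut Y}
    (hα : ∀ a, IsRoot cs isCartan a → 0 < bf a rho + bf a s0 → ∀ v ∈ X a, α v = v)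
    (hα' : ∀ a, IsRoot cs isCartan a → bf a rho = 0 → bf a s0 = 0 → ∀ v ∈ X a, α v = v) :
    ∃ x ∈ X rho, ∃ y ∈ X s0, α = MulAut.conj (x * y) := by
  have : Finite W := finiteW cs
  have hb : ∀ a, bf a rho + bf a s0 = 2 * bf a b0 := by
    intro a
    rw [← bf_add_right, add0, bf_smul_right]
  obtain ⟨q, hq, e⟩ := Cfsg.Agent.KFacts.RgdAutN.autN R hG1
    (fun i a ha b hb => abel R (isRoot_sr cs isCartan i) ha hb) f0 (S := S2 cs) (by
      intro c hc
      obtain ⟨a, ha, ha0, hca, hca0⟩ := c6 c ((mem_rts cs).1 hc.1) hc.2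
      exact ⟨hc.1, a, c - a, (mem_rts cs).2 ha, (mem_rts cs).2 hca, by rw [f0_apply, ha0]; norm_num,
        by rw [f0_apply, hca0]; norm_num, by abel⟩) (by
      intro g hg
      exact k0_fix D hN (by rw [RgdRigid.GG_eq_top hG1]; exact Subgroup.mem_top g) hg) (α := α) (by
      intro a ha ha0 v hv
      refine hα a ha ?_ v hv
      rw [hb]
      rw [f0_apply] at ha0
      omega)
  obtain ⟨x, hx, y, hy, rfl⟩ := peel_two D hq (by
    intro a ha har has v hv
    have h1 := hα' a ha har has v hv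
    rw [e, MulAut.conj_apply] at h1
    calc q * v = q * v * q⁻¹ * q := by group
      _ = v * q := by rw [h1])
  exact ⟨x, hx, y, hy, e⟩

end Main

/-! ### Transitivity on pairs of orthogonal long roots -/

/-- the words -/
def words : List (List (Fin 4)) := [[], [3, 2, 1, 2], [3, 2, 1], [3, 2], [3], [3, 2, 1, 2, 3]]

theorem words_spec : ∀ s ∈ rts, bf s s = 4 → s 0 = 0 → ∃ ω ∈ words,
    ω.foldr (fun i v => Cfsg.Agent.Nodes.RGDFold.refl A i v) s = s0 := by
  decide +kernel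

theorem words_ne : ∀ ω ∈ words, ∀ i ∈ ω, i ≠ 0 := by decide +kernel

theorem refl_rho : ∀ i : Fin 4, i ≠ 0 → Cfsg.Agent.Nodes.RGDFold.refl A i rho = rho := by decide +kernel

theorem exists_word (cs : CoxeterSystem CoxeterMatrix.F₄ W) (ω : List (Fin 4)) : ∃ w : W, (∀ v, rep cs isCartan w v =
    ω.foldr (fun i v => Cfsg.Agent.Nodes.RGDFold.refl A i v) v) ∧ ((∀ i ∈ ω, i ≠ 0) → rep cs isCartan w rho = rho) := by
  induction ω with
  | nil => exact ⟨1, fun v => by rw [map_one, Module.End.one_apply]; rfl, fun _ => by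
      rw [map_one, Module.End.one_apply]⟩
  | cons i ω ih =>
    obtain ⟨w, h1, h2⟩ := ih
    refine ⟨cs.simple i * w, fun v => ?_, fun h => ?_⟩
    · rw [rep_mul_apply, h1, rep_simple_refl]
      rfl
    · rw [rep_mul_apply, h2 fun j hj => h j (List.mem_cons_of_mem i hj), rep_simple_refl]
      exact refl_rho i (h i List.mem_cons_self)

theorem exists_rep_orth {r s : Fin 4 → ℤ} (hr : IsRoot cs isCartan r) (hl : bf r r = 4) (hs : IsRoot cs isCartan s)
    (hls : bf s s = 4) (hrs : bf r s = 0) : ∃ w : W, rep cs isCartan w r = rho ∧ rep cs isCartan w s = s0 := by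
  obtain ⟨w1, h1⟩ := exists_rep_long cs hr hl
  obtain ⟨w2, h2⟩ := exists_rep_long cs (rho_root cs) rho_long
  set w := w2 * w1⁻¹ with hw
  have hwr : rep cs isCartan w r = rho := by
    rw [hw, rep_mul_apply, ← h1, rep_inv_apply, h2]
  have hws : IsRoot cs isCartan (rep cs isCartan w s) := hs.act w
  have hls' : bf (rep cs isCartan w s) (rep cs isCartan w s) = 4 := by rw [bf_rep]; exact hls
  have h0 : (rep cs isCartan w s) 0 = 0 := by
    have h3 : bf (rep cs isCartan w s) rho = 0 := by rw [← hwr, bf_rep, bf_comm]; exact hrs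
    rw [bf_rho] at h3
    omega
  obtain ⟨ω, hω, e⟩ := words_spec _ ((mem_rts cs).1 hws) hls' h0
  obtain ⟨w', h3, h4⟩ := exists_word cs ω
  refine ⟨w' * w, ?_, ?_⟩
  · rw [rep_mul_apply, hwr]
    exact h4 fun i hi => words_ne ω hω i hi
  · rw [rep_mul_apply, h3, e]

/-- **An automorphism centralising `N_rs` and all `X a`, `a ⟂ r, s`, is conjugation by an element of `X r X s`.** -/
theorem aut_k0 (D : Dat R) (hN : NoCent cs isCartan T X) (hG1 : RGD.Sup X {x | IsRoot cs isCartan x} = ⊤)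
    {r s : Fin 4 → ℤ} (hr : IsRoot cs isCartan r) (hl : bf r r = 4) (hs : IsRoot cs isCartan s) (hls : bf s s = 4)
    (hrs : bf r s = 0) {α : MulAut Y}
    (hα : ∀ a, IsRoot cs isCartan a → 0 < bf a r + bf a s → ∀ v ∈ X a, α v = v)
    (hα' : ∀ a, IsRoot cs isCartan a → bf a r = 0 → bf a s = 0 → ∀ v ∈ X a, α v = v) :
    ∃ x ∈ X r, ∃ y ∈ X s, α = MulAut.conj (x * y) := by
  have : Finite W := finiteW cs
  obtain ⟨w, hwr, hws⟩ := exists_rep_orth hr hl hs hls hrs
  obtain ⟨k, hk⟩ := exists_rp cs R.nsys w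
  have hr' : rep cs isCartan w⁻¹ rho = r := by rw [← hwr, rep_inv_apply]
  have hs' : rep cs isCartan w⁻¹ s0 = s := by rw [← hws, rep_inv_apply]
  have hbr : ∀ a, bf (rep cs isCartan w⁻¹ a) r = bf a rho := fun a => by rw [← hr', bf_rep]
  have hbs : ∀ a, bf (rep cs isCartan w⁻¹ a) s = bf a s0 := fun a => by rw [← hs', bf_rep]
  -- `α' = conj k α conj k⁻¹`
  have hact : ∀ a, IsRoot cs isCartan a → (∀ v ∈ X (rep cs isCartan w⁻¹ a), α v = v) → ∀ v ∈ X a,
      (MulAut.conj k * α * (MulAut.conj k)⁻¹) v = v := by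
    intro a ha h v hv
    have h1 := h _ (R.conj_mem' hk ha hv)
    show MulAut.conj k (α ((MulAut.conj k)⁻¹ v)) = v
    rw [← map_inv, MulAut.conj_apply, MulAut.conj_apply, inv_inv, h1]
    group
  obtain ⟨x, hx, y, hy, e⟩ := aut_fix D hN hG1 (α := MulAut.conj k * α * (MulAut.conj k)⁻¹)
    (fun a ha h0 v hv => hact a ha (hα _ (ha.act _) (by rw [hbr, hbs]; exact h0)) v hv)
    (fun a ha h0 h0' v hv => hact a ha (hα' _ (ha.act _) (by rw [hbr]; exact h0) (by rw [hbs]; exact h0')) v hv)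
  refine ⟨k⁻¹ * x * k, ?_, k⁻¹ * y * k, ?_, ?_⟩
  · have := R.conj_mem' hk (rho_root cs) hx
    rwa [hr'] at this
  · have := R.conj_mem' hk ((mem_rts cs).2 mem0.1) hy
    rwa [hs'] at this
  · have e2 : α = (MulAut.conj k)⁻¹ * (MulAut.conj k * α * (MulAut.conj k)⁻¹) * MulAut.conj k := by group
    rw [e2, e, ← map_inv, ← map_mul, ← map_mul]
    congr 1
    group

end Cfsg.Agent.KFacts.TwESix.CentOrth
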