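import Cfsg.Agent.KFacts.RgdTI
import Cfsg.Agent.Nodes.RGDTwE6

/-!
# The relative root system `F₄` of `²E₆(q)` (ODD, D7, `K = ²E₆(q)`; packet [A])

Coordinates = simple roots of `Nodes.RGDTwE6` (nodes `0, 1` long, `2, 3` short).

* `bf` : the invariant form (`bf x x = 4` for long, `= 2` for short roots), `bf_rep`, `two_bf`;
* `rts` : the 48 roots, `mem_rts`; `cpr_long`, `cpr_short` : the coroot pairings;
* `a2` : two roots of the same length at 120 degrees form an `A2`-pair;
* `rho = (2,3,4,2)`, `cpr_rho : ⟨x, ρ^∨⟩ = x 0`;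
* `exists_rep_long` : `W` is transitive on the long roots.
-/

set_option autoImplicit false
set_option linter.unusedSectionVars false

namespace Cfsg.Agent.KFacts.TwESix.Comb

open CoxeterSystem Cfsg.Agent.ChevalleyStructure.CoxeterGeom Cfsg.Agent.Tits.Roots Cfsg.Agent.Tits.Core
  Cfsg.Agent.Tits.RootComb Cfsg.Agent.Nodes.Reps Cfsg.Agent.Nodes.BNOf Cfsg.Agent.Nodes.Coroot
  Cfsg.Agent.KFacts.RgdSL Cfsg.Agent.Nodes.RGDTwE6 Cfsg.Agent.Nodes.RGDFold
open Cfsg.Lie (chevE6)

variable {W : Type*} [Group W] (cs : CoxeterSystem CoxeterMatrix.F₄ W)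

/-- The invariant form: `(long, long) = 4`, `(short, short) = 2`. -/
def bf (x y : Fin 4 → ℤ) : ℤ :=
  4 * (x 0 * y 0) - 2 * (x 0 * y 1) - 2 * (x 1 * y 0) + 4 * (x 1 * y 1) - 2 * (x 1 * y 2) - 2 * (x 2 * y 1)
    + 2 * (x 2 * y 2) - x 2 * y 3 - x 3 * y 2 + 2 * (x 3 * y 3)

/-- The roots. -/
def rts : List (Fin 4 → ℤ) :=
  [![0, 1, 0, 0], ![1, 0, 0, 0], ![1, 1, 0, 0], ![0, 1, 2, 0], ![1, 1, 2, 0], ![0, 1, 2, 2], ![1, 2, 2, 0],
   ![1, 1, 2, 2], ![1, 2, 2, 2], ![1, 2, 4, 2], ![1, 3, 4, 2], ![2, 3, 4, 2],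
   ![0, 0, 0, 1], ![0, 0, 1, 0], ![0, 0, 1, 1], ![0, 1, 1, 0], ![0, 1, 1, 1], ![1, 1, 1, 0], ![0, 1, 2, 1],
   ![1, 1, 1, 1], ![1, 1, 2, 1], ![1, 2, 2, 1], ![1, 2, 3, 1], ![1, 2, 3, 2],
   ![0, -1, 0, 0], ![-1, 0, 0, 0], ![-1, -1, 0, 0], ![0, -1, -2, 0], ![-1, -1, -2, 0], ![0, -1, -2, -2],
   ![-1, -2, -2, 0], ![-1, -1, -2, -2], ![-1, -2, -2, -2], ![-1, -2, -4, -2], ![-1, -3, -4, -2],
   ![-2, -3, -4, -2],
   ![0, 0, 0, -1], ![0, 0, -1, 0], ![0, 0, -1, -1], ![0, -1, -1, 0], ![0, -1, -1, -1], ![-1, -1, -1, 0],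
   ![0, -1, -2, -1], ![-1, -1, -1, -1], ![-1, -1, -2, -1], ![-1, -2, -2, -1], ![-1, -2, -3, -1],
   ![-1, -2, -3, -2]]

set_option maxRecDepth 20000 in
theorem V_mem_rts : ∀ r < chevE6.nroots, V chevE6 J r ∈ rts := by decide +kernel

set_option maxRecDepth 20000 in
theorem rts_V : ∀ z ∈ rts, ∃ r < chevE6.nroots, V chevE6 J r = z := by decide +kernel

theorem mem_rts {x : Fin 4 → ℤ} : IsRoot cs isCartan x ↔ x ∈ rts := by
  rw [foldData.isRoot_iff (cs := cs) (h := isCartan) hp.checked (fun i r hr => wp_lt hp (J i) hr) x]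
  constructor
  · rintro ⟨r, hr, rfl⟩
    exact V_mem_rts r hr
  · intro hx
    exact rts_V x hx

include cs in
theorem finiteW : Finite W := Cfsg.Agent.Nodes.RGDFold.finite_W (hp := hp) cs isCartan foldData

/-! ### The form -/

theorem bf_comm (x y : Fin 4 → ℤ) : bf x y = bf y x := by unfold bf; ring

theorem bf_add_left (x y z : Fin 4 → ℤ) : bf (x + y) z = bf x z + bf y z := by
  simp only [bf, Pi.add_apply]; ring

theorem bf_add_right (x y z : Fin 4 → ℤ) : bf x (y + z) = bf x y + bf x z := by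
  simp only [bf, Pi.add_apply]; ring

theorem bf_sub_left (x y z : Fin 4 → ℤ) : bf (x - y) z = bf x z - bf y z := by
  simp only [bf, Pi.sub_apply]; ring

theorem bf_sub_right (x y z : Fin 4 → ℤ) : bf x (y - z) = bf x y - bf x z := by
  simp only [bf, Pi.sub_apply]; ring

theorem bf_smul_left (c : ℤ) (x y : Fin 4 → ℤ) : bf (c • x) y = c * bf x y := by
  simp only [bf, Pi.smul_apply, smul_eq_mul]; ring

theorem bf_smul_right (c : ℤ) (x y : Fin 4 → ℤ) : bf x (c • y) = c * bf x y := by
  simp only [bf, Pi.smul_apply, smul_eq_mul]; ring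

theorem bf_neg_left (x y : Fin 4 → ℤ) : bf (-x) y = - bf x y := by
  simp only [bf, Pi.neg_apply]; ring

theorem bf_neg_right (x y : Fin 4 → ℤ) : bf x (-y) = - bf x y := by
  simp only [bf, Pi.neg_apply]; ring

theorem pairing_eq (i : Fin 4) (x : Fin 4 → ℤ) : pairing A i x =
    (![2 * x 0 - x 1, 2 * x 1 - x 0 - x 2, 2 * x 2 - 2 * x 1 - x 3, 2 * x 3 - x 2] : Fin 4 → ℤ) i := by
  unfold pairing
  rw [Fin.sum_univ_four]
  fin_cases i <;> simp [A] <;> ring

theorem refl_coord (i : Fin 4) (x : Fin 4 → ℤ) (k : Fin 4) :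
    rep cs isCartan (cs.simple i) x k = if k = i then x k - pairing A i x else x k := by
  rw [rep_simple_eq, Pi.sub_apply, Pi.smul_apply, smul_eq_mul]
  by_cases hk : k = i
  · subst hk
    rw [if_pos rfl, sr_self, mul_one]
  · rw [if_neg hk, sr_ne hk, mul_zero, sub_zero]

theorem bf_rep_simple (i : Fin 4) (x y : Fin 4 → ℤ) :
    bf (rep cs isCartan (cs.simple i) x) (rep cs isCartan (cs.simple i) y) = bf x y := by
  unfold bf
  simp only [refl_coord, pairing_eq]
  fin_cases i <;> simp <;> ring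

theorem bf_rep (w : W) (x y : Fin 4 → ℤ) : bf (rep cs isCartan w x) (rep cs isCartan w y) = bf x y := by
  obtain ⟨ω, rfl⟩ := cs.wordProd_surjective w
  induction ω with
  | nil => rw [wordProd_nil, map_one, Module.End.one_apply, Module.End.one_apply]
  | cons i ω ih => rw [wordProd_cons, rep_mul_apply, rep_mul_apply, bf_rep_simple, ih]

theorem bf_rep_left (w : W) (x y : Fin 4 → ℤ) :
    bf (rep cs isCartan w x) y = bf x (rep cs isCartan w⁻¹ y) := by
  conv_lhs => rw [← rep_apply_inv cs isCartan w y]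
  exact bf_rep cs w x _

theorem two_bf_sr (x : Fin 4 → ℤ) (i : Fin 4) : 2 * bf x (sr i) = pairing A i x * bf (sr i) (sr i) := by
  rw [pairing_eq]
  unfold bf
  fin_cases i <;> simp [sr] <;> ring

theorem two_bf (x : Fin 4 → ℤ) {y : Fin 4 → ℤ} (hy : IsRoot cs isCartan y) :
    2 * bf x y = cpr cs isCartan x y * bf y y := by
  have : Finite W := finiteW cs
  obtain ⟨w, i, rfl⟩ := hy
  rw [cpr_rep_sr, bf_rep, ← two_bf_sr]
  have h1 := bf_rep cs w⁻¹ x (rep cs isCartan w (sr i))
  rw [rep_inv_apply] at h1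
  rw [h1]

theorem norm_rts : ∀ x ∈ rts, bf x x = 4 ∨ bf x x = 2 := by decide +kernel

theorem norm {x : Fin 4 → ℤ} (hx : IsRoot cs isCartan x) : bf x x = 4 ∨ bf x x = 2 :=
  norm_rts x ((mem_rts cs).1 hx)

theorem cpr_long (x : Fin 4 → ℤ) {y : Fin 4 → ℤ} (hy : IsRoot cs isCartan y) (hl : bf y y = 4) :
    2 * cpr cs isCartan x y = bf x y := by
  have := two_bf cs x hy
  rw [hl] at this
  omega

theorem cpr_short (x : Fin 4 → ℤ) {y : Fin 4 → ℤ} (hy : IsRoot cs isCartan y) (hl : bf y y = 2) :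
    cpr cs isCartan x y = bf x y := by
  have := two_bf cs x hy
  rw [hl] at this
  omega

/-! ### `A2`-pairs -/

/-- The only root between two roots of the same length at 120 degrees is the sum. -/
theorem btwn_a2 {x y z : Fin 4 → ℤ} (hx : IsRoot cs isCartan x) (hy : IsRoot cs isCartan y)
    (hxy : bf x x = bf y y) (h1 : 2 * bf x y = - bf x x) (hz : Btwn cs isCartan x y z) : z = x + y := by
  obtain ⟨hzr, m, a, b, hm, ha, hb, he⟩ := hz
  set N := bf x x with hN
  have e1 : m * bf z x = a * N + b * bf x y := by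
    have := congrArg (fun v => bf v x) he
    simp only [bf_add_left, bf_smul_left] at this
    rw [this, bf_comm y x]
  have e2 : m * bf z y = a * bf x y + b * N := by
    have := congrArg (fun v => bf v y) he
    simp only [bf_add_left, bf_smul_left] at this
    rw [this, hxy]
  have e3 : m * (m * bf z z) = a * (m * bf z x) + b * (m * bf z y) := by
    have h2 := congrArg (fun v => bf v z) he
    simp only [bf_add_left, bf_smul_left] at h2
    rw [h2, bf_comm x z, bf_comm y z]; ring
  have c1 : cpr cs isCartan z x * N = 2 * bf z x := (two_bf cs z hx).symm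
  have c2 : cpr cs isCartan z y * N = 2 * bf z y := by rw [two_bf cs z hy, ← hxy]
  set p := cpr cs isCartan z x with hp'
  set q := cpr cs isCartan z y with hq'
  have hNpos : 0 < N := by
    rcases norm cs hx with h | h <;> omega
  -- `m p = 2 a - b`, `m q = 2 b - a`
  have f1 : m * p = 2 * a - b := by
    have : (m * p) * N = (2 * a - b) * N := by
      calc (m * p) * N = 2 * (m * bf z x) := by rw [mul_assoc, c1]; ring
        _ = (2 * a - b) * N := by rw [e1]; linear_combination b * h1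
    exact mul_right_cancel₀ hNpos.ne' this
  have f2 : m * q = 2 * b - a := by
    have : (m * q) * N = (2 * b - a) * N := by
      calc (m * q) * N = 2 * (m * bf z y) := by rw [mul_assoc, c2]; ring
        _ = (2 * b - a) * N := by rw [e2]; linear_combination a * h1
    exact mul_right_cancel₀ hNpos.ne' this
  have f3 : 3 * a = m * (2 * p + q) := by linear_combination -2 * f1 - f2
  have f4 : 3 * b = m * (p + 2 * q) := by linear_combination -f1 - 2 * f2
  have f5 : 3 * bf z z = N * (p * p + p * q + q * q) := by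
    have h2 : (6 * (m * m)) * (3 * bf z z) = (6 * (m * m)) * (N * (p * p + p * q + q * q)) := by
      have h3 : 2 * (m * (m * bf z z)) = a * (m * (p * N)) + b * (m * (q * N)) := by
        rw [e3, c1, c2]; ring
      calc (6 * (m * m)) * (3 * bf z z) = 9 * (2 * (m * (m * bf z z))) := by ring
        _ = 3 * ((3 * a) * (m * (p * N)) + (3 * b) * (m * (q * N))) := by rw [h3]; ring
        _ = _ := by rw [f3, f4]; ring
    have hm2 : (6 * (m * m)) ≠ 0 := by positivity
    exact mul_left_cancel₀ hm2 h2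
  have hpos1 : 0 < 2 * p + q := by
    by_contra hc
    have : m * (2 * p + q) ≤ 0 := mul_nonpos_of_nonneg_of_nonpos hm.le (not_lt.1 hc)
    omega
  have hpos2 : 0 < p + 2 * q := by
    by_contra hc
    have : m * (p + 2 * q) ≤ 0 := mul_nonpos_of_nonneg_of_nonpos hm.le (not_lt.1 hc)
    omega
  have key : p = 1 ∧ q = 1 := by
    have hsq : p * p + p * q + q * q ≤ 6 := by
      rcases norm cs hx with h | h <;> rcases norm cs hzr with h' | h' <;> rw [h'] at f5 <;>
        rw [← hN] at h <;> rw [h] at f5 <;> omega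
    have b1 : -3 ≤ p := by nlinarith [sq_nonneg (p + 2 * q), sq_nonneg (2 * p + q)]
    have b2 : p ≤ 3 := by nlinarith [sq_nonneg (p + 2 * q), sq_nonneg (2 * p + q)]
    have b3 : -3 ≤ q := by nlinarith [sq_nonneg (p + 2 * q), sq_nonneg (2 * p + q)]
    have b4 : q ≤ 3 := by nlinarith [sq_nonneg (p + 2 * q), sq_nonneg (2 * p + q)]
    rcases norm cs hx with h | h <;> rcases norm cs hzr with h' | h' <;> rw [h'] at f5 <;>
      rw [← hN] at h <;> rw [h] at f5 <;> clear_value p q <;> interval_cases p <;> interval_cases q <;> omega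
  obtain ⟨hp1, hq1⟩ := key
  rw [hp1, hq1] at f3 f4
  have ha' : a = m := by omega
  have hb' : b = m := by omega
  rw [ha', hb', ← smul_add] at he
  exact smul_right_injective _ hm.ne' he


/-- There is no root between two roots of the same length at 60 degrees. -/
theorem not_btwn_60 {x y z : Fin 4 → ℤ} (hx : IsRoot cs isCartan x) (hy : IsRoot cs isCartan y)
    (hxy : bf x x = bf y y) (h1 : 2 * bf x y = bf x x) : ¬ Btwn cs isCartan x y z := by
  rintro ⟨hzr, m, a, b, hm, ha, hb, he⟩
  set N := bf x x with hN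
  have e1 : m * bf z x = a * N + b * bf x y := by
    have := congrArg (fun v => bf v x) he
    simp only [bf_add_left, bf_smul_left] at this
    rw [this, bf_comm y x]
  have e2 : m * bf z y = a * bf x y + b * N := by
    have := congrArg (fun v => bf v y) he
    simp only [bf_add_left, bf_smul_left] at this
    rw [this, hxy]
  have e3 : m * (m * bf z z) = a * (m * bf z x) + b * (m * bf z y) := by
    have h2 := congrArg (fun v => bf v z) he
    simp only [bf_add_left, bf_smul_left] at h2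
    rw [h2, bf_comm x z, bf_comm y z]; ring
  have c1 : cpr cs isCartan z x * N = 2 * bf z x := (two_bf cs z hx).symm
  have c2 : cpr cs isCartan z y * N = 2 * bf z y := by rw [two_bf cs z hy, ← hxy]
  set p := cpr cs isCartan z x with hp'
  set q := cpr cs isCartan z y with hq'
  have hNpos : 0 < N := by
    rcases norm cs hx with h | h <;> omega
  have f1 : m * p = 2 * a + b := by
    have : (m * p) * N = (2 * a + b) * N := by
      calc (m * p) * N = 2 * (m * bf z x) := by rw [mul_assoc, c1]; ring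
        _ = (2 * a + b) * N := by rw [e1]; linear_combination b * h1
    exact mul_right_cancel₀ hNpos.ne' this
  have f2 : m * q = 2 * b + a := by
    have : (m * q) * N = (2 * b + a) * N := by
      calc (m * q) * N = 2 * (m * bf z y) := by rw [mul_assoc, c2]; ring
        _ = (2 * b + a) * N := by rw [e2]; linear_combination a * h1
    exact mul_right_cancel₀ hNpos.ne' this
  have f3 : 3 * a = m * (2 * p - q) := by linear_combination -2 * f1 + f2
  have f4 : 3 * b = m * (2 * q - p) := by linear_combination f1 - 2 * f2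
  have f5 : 3 * bf z z = N * (p * p - p * q + q * q) := by
    have h2 : (6 * (m * m)) * (3 * bf z z) = (6 * (m * m)) * (N * (p * p - p * q + q * q)) := by
      have h3 : 2 * (m * (m * bf z z)) = a * (m * (p * N)) + b * (m * (q * N)) := by
        rw [e3, c1, c2]; ring
      calc (6 * (m * m)) * (3 * bf z z) = 9 * (2 * (m * (m * bf z z))) := by ring
        _ = 3 * ((3 * a) * (m * (p * N)) + (3 * b) * (m * (q * N))) := by rw [h3]; ring
        _ = _ := by rw [f3, f4]; ring
    have hm2 : (6 * (m * m)) ≠ 0 := by positivity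
    exact mul_left_cancel₀ hm2 h2
  have hpos1 : 0 < 2 * p - q := by
    by_contra hc
    have : m * (2 * p - q) ≤ 0 := mul_nonpos_of_nonneg_of_nonpos hm.le (not_lt.1 hc)
    omega
  have hpos2 : 0 < 2 * q - p := by
    by_contra hc
    have : m * (2 * q - p) ≤ 0 := mul_nonpos_of_nonneg_of_nonpos hm.le (not_lt.1 hc)
    omega
  have hsq : p * p - p * q + q * q ≤ 6 := by
    rcases norm cs hx with h | h <;> rcases norm cs hzr with h' | h' <;> rw [h'] at f5 <;>
      rw [← hN] at h <;> rw [h] at f5 <;> omega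
  have b1 : -3 ≤ p := by nlinarith [sq_nonneg (p - 2 * q), sq_nonneg (2 * p - q)]
  have b2 : p ≤ 3 := by nlinarith [sq_nonneg (p - 2 * q), sq_nonneg (2 * p - q)]
  have b3 : -3 ≤ q := by nlinarith [sq_nonneg (p - 2 * q), sq_nonneg (2 * p - q)]
  have b4 : q ≤ 3 := by nlinarith [sq_nonneg (p - 2 * q), sq_nonneg (2 * p - q)]
  rcases norm cs hx with h | h <;> rcases norm cs hzr with h' | h' <;> rw [h'] at f5 <;>
    rw [← hN] at h <;> rw [h] at f5 <;> clear_value p q <;> interval_cases p <;> interval_cases q <;> omega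

/-- Two roots of the same length at 120 degrees form an `A2`-pair. -/
theorem a2 {x y : Fin 4 → ℤ} (hx : IsRoot cs isCartan x) (hy : IsRoot cs isCartan y)
    (hxy : bf x x = bf y y) (h1 : 2 * bf x y = - bf x x) : A2 cs isCartan x y := by
  have : Finite W := finiteW cs
  have hNpos : 0 < bf x x := by rcases norm cs hx with h | h <;> omega
  have c1 : cpr cs isCartan x y = -1 := by
    have h2 := two_bf cs x hy
    have : cpr cs isCartan x y * bf y y = -1 * bf y y := by rw [← h2, h1, hxy]; ring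
    exact mul_right_cancel₀ (hxy ▸ hNpos.ne') this
  have c2 : cpr cs isCartan y x = -1 := by
    have h2 := two_bf cs y hx
    have : cpr cs isCartan y x * bf x x = -1 * bf x x := by rw [← h2, bf_comm, h1]; ring
    exact mul_right_cancel₀ hNpos.ne' this
  have hr : IsRoot cs isCartan (x + y) := isRoot_add hx hy c1
  have n1 : bf (x + y) (x + y) = bf x x := by
    rw [bf_add_left, bf_add_right, bf_add_right, bf_comm y x]; omega
  refine ⟨hx, hy, c1, c2, fun z hz => btwn_a2 cs hx hy hxy h1 hz, fun z => ?_, fun z hz => ?_, fun z hz => ?_,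
    fun z => ?_, fun z => ?_⟩
  · refine not_btwn_60 cs hx.neg hy (by rw [bf_neg_left, bf_neg_right]; omega) ?_
    rw [bf_neg_left, bf_neg_left, bf_neg_right]; omega
  · have := btwn_a2 cs hx.neg hr (by rw [bf_neg_left, bf_neg_right]; omega) (by
      rw [bf_neg_left, bf_neg_left, bf_neg_right, bf_add_right]; omega) hz
    rw [this]; abel
  · have := btwn_a2 cs hy.neg hr (by rw [bf_neg_left, bf_neg_right]; omega) (by
      rw [bf_neg_left, bf_neg_left, bf_neg_right, bf_add_right, bf_comm y x]; omega) hz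
    rw [this]; abel
  · refine not_btwn_60 cs hr hy (by omega) ?_
    rw [bf_add_left]; omega
  · refine not_btwn_60 cs hr hx (by omega) ?_
    rw [bf_add_left, bf_comm y x]; omega

/-! ### Transitivity -/

theorem rep_simple_refl (i : Fin 4) (v : Fin 4 → ℤ) : rep cs isCartan (cs.simple i) v = Cfsg.Agent.Nodes.RGDFold.refl A i v :=
  rep_simple_eq cs isCartan i v

theorem sr_norm : bf (sr 0) (sr 0) = 4 ∧ bf (sr 1) (sr 1) = 4 ∧ bf (sr 2) (sr 2) = 2 ∧ bf (sr 3) (sr 3) = 2 := by
  refine ⟨?_, ?_, ?_, ?_⟩ <;> decide +kernel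

/-- Every long root is conjugate to `α₀`. -/
theorem exists_rep_long {x : Fin 4 → ℤ} (hx : IsRoot cs isCartan x) (hl : bf x x = 4) :
    ∃ w : W, rep cs isCartan w (sr 0) = x := by
  obtain ⟨w, i, rfl⟩ := hx
  rw [bf_rep] at hl
  have h1 : Cfsg.Agent.Nodes.RGDFold.refl A 0 (Cfsg.Agent.Nodes.RGDFold.refl A 1 (sr 0)) = sr 1 := by decide +kernel
  fin_cases i
  · exact ⟨w, rfl⟩
  · refine ⟨w * (cs.simple 0 * cs.simple 1), ?_⟩
    rw [rep_mul_apply, rep_mul_apply, rep_simple_refl, rep_simple_refl, h1]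
    rfl
  · exact absurd hl (by rw [show bf (sr ((fun i => i) ⟨2, by omega⟩)) (sr ((fun i => i) ⟨2, by omega⟩)) = 2 from sr_norm.2.2.1]; norm_num)
  · exact absurd hl (by rw [show bf (sr ((fun i => i) ⟨3, by omega⟩)) (sr ((fun i => i) ⟨3, by omega⟩)) = 2 from sr_norm.2.2.2]; norm_num)

/-- Every short root is conjugate to `α₃`. -/
theorem exists_rep_short {x : Fin 4 → ℤ} (hx : IsRoot cs isCartan x) (hl : bf x x = 2) :
    ∃ w : W, rep cs isCartan w (sr 3) = x := by
  obtain ⟨w, i, rfl⟩ := hx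
  rw [bf_rep] at hl
  have h1 : Cfsg.Agent.Nodes.RGDFold.refl A 3 (Cfsg.Agent.Nodes.RGDFold.refl A 2 (sr 3)) = sr 2 := by decide +kernel
  fin_cases i
  · exact absurd hl (by rw [show bf (sr ((fun i => i) ⟨0, by omega⟩)) (sr ((fun i => i) ⟨0, by omega⟩)) = 4 from sr_norm.1]; norm_num)
  · exact absurd hl (by rw [show bf (sr ((fun i => i) ⟨1, by omega⟩)) (sr ((fun i => i) ⟨1, by omega⟩)) = 4 from sr_norm.2.1]; norm_num)
  · refine ⟨w * (cs.simple 3 * cs.simple 2), ?_⟩
    rw [rep_mul_apply, rep_mul_apply, rep_simple_refl, rep_simple_refl, h1]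
    rfl
  · exact ⟨w, rfl⟩

/-- The highest root. -/
def rho : Fin 4 → ℤ := ![2, 3, 4, 2]

theorem rho_root : IsRoot cs isCartan rho := (mem_rts cs).2 (by decide +kernel)

theorem rho_long : bf rho rho = 4 := by decide +kernel

theorem bf_rho (x : Fin 4 → ℤ) : bf x rho = 2 * x 0 := by
  simp only [bf, rho, Matrix.cons_val_zero, Matrix.cons_val_one, Matrix.cons_val]
  ring

theorem cpr_rho (x : Fin 4 → ℤ) : cpr cs isCartan x rho = x 0 := by
  have := cpr_long cs x (rho_root cs) rho_long
  rw [bf_rho] at this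
  omega

/-! ### Long roots -/

/-- `0 ≤ ⟨x, a^∨⟩` for `a` long. -/
theorem ge_iff {x a : Fin 4 → ℤ} (ha : IsRoot cs isCartan a) (hl : bf a a = 4) :
    0 ≤ cpr cs isCartan x a ↔ 0 ≤ bf x a := by
  have := cpr_long cs x ha hl
  omega

set_option maxRecDepth 20000 in
/-- for `⟨V r, V s^∨⟩ ≥ 0`, `V s` long: no commutator terms -/
theorem nil_of_nonneg : ∀ s < chevE6.nroots, bf (V chevE6 J s) (V chevE6 J s) = 4 → ∀ r < chevE6.nroots,
    0 ≤ bf (V chevE6 J r) (V chevE6 J s) → s = r ∨ (s ≠ chevE6.neg r ∧ chevE6.commTerms r s = []) := by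
  decide +kernel

end Cfsg.Agent.KFacts.TwESix.Comb
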