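import Cfsg.Agent.KFacts.TwESix.Out
import Cfsg.Agent.KFacts.SylFix
import Cfsg.Agent.KFacts.RgdSyl
import Cfsg.Agent.LieRecognition.FieldSemilinear

/-!
# The `p`-part of the outer automorphism group of `²E₆(q)`, II

* `exists_field` : a `p`-group `S` of automorphisms fixing `U` : `f : S →* Aut K`, `f α = 1 ↔ α` inner ↔ `α ∈ Inn U`;
* `exists_outer` : the same for every `p`-group of automorphisms;
* `FTau.trivial_long` : if `τ` is trivial on the field with `q` elements, then a `p`-element acts trivially on all long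
  root groups.
-/

set_option autoImplicit false
set_option linter.unusedSectionVars false
set_option maxHeartbeats 400000

namespace Cfsg.Agent.KFacts.TwESix.OutTwo

open CoxeterSystem Cfsg.Agent.ChevalleyStructure.CoxeterGeom Cfsg.Agent.Tits.Roots Cfsg.Agent.Tits.Core
  Cfsg.Agent.Tits.Exchange Cfsg.Agent.Nodes.Reps Cfsg.Agent.Nodes.BNOf Cfsg.Agent.Nodes.StabComb
  Cfsg.Agent.Nodes.Bruhat Cfsg.Agent.Nodes.OppDec Cfsg.Agent.Nodes.RGDTwGen Cfsg.Agent.Nodes.RGDChev
  Cfsg.Agent.Nodes.RGDFold Cfsg.Agent.Nodes.RGDFoldSL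
open Cfsg.Agent.KFacts.RgdOpp Cfsg.Agent.KFacts.RgdAut Cfsg.Agent.KFacts.RgdDiag Cfsg.Agent.KFacts.RgdRigid
  Cfsg.Agent.KFacts.RgdField Cfsg.Agent.KFacts.RgdTau Cfsg.Agent.KFacts.RgdNodes
open Cfsg.Lie Cfsg.Agent.ChevalleyStructure
open Cfsg.Agent.ChevalleyStructure.SL2Hom (up lo)
open Cfsg.Agent.KFacts.TwESix.NodeCoord Cfsg.Agent.KFacts.TwESix.Out
open Cfsg.Agent.Nodes.RGDTwE6 Cfsg.Agent.Nodes.RGDTwNode.E6

universe u

set_option backward.isDefEq.respectTransparency false in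
/-- symmetries of the diagram `F₄` -/
theorem perm_F4 : ∀ σ : Equiv.Perm (Fin 4), (∀ i j, CoxeterMatrix.F₄ (σ i) (σ j) = CoxeterMatrix.F₄ i j) →
    σ 0 ≠ 3 → σ = 1 := by decide +kernel

theorem card_of_coord {Y F : Type*} [Group Y] [Field F] {T P : Subgroup Y} {x : F → Y} {χ : Y → F}
    (C : Coord T P x χ) : Nat.card ↥P = Nat.card F := by
  refine (Nat.card_congr (Equiv.ofBijective (fun a => (⟨x a, (C.mem _).2 ⟨a, rfl⟩⟩ : ↥P)) ⟨?_, ?_⟩)).symm
  · intro a b h
    exact C.inj (congrArg Subtype.val h)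
  · rintro ⟨y, hy⟩
    obtain ⟨a, rfl⟩ := (C.mem y).1 hy
    exact ⟨a, rfl⟩

variable {K : Type u} [Field K] [Fintype K] {q : ℕ} {φ : K →+* K} (hφ : ∀ x, φ x = x ^ q)
  (hqq : ∀ t : K, (t ^ q) ^ q = t)

theorem F1_ne_top (hφ : ∀ x, φ x = x ^ q) (hK : Fintype.card K = q ^ 2) (hq1 : 1 < q) : Fx φ 1 ≠ ⊤ := by
  intro h
  classical
  have h1 : ∀ a : K, a ^ q = a := by
    intro a
    have h2 : a ∈ Fx φ 1 := by rw [h]; exact Subfield.mem_top a
    rw [mem_Fx, Function.iterate_one, hφ] at h2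
    exact h2
  obtain ⟨g, hg⟩ := IsCyclic.exists_generator (α := Kˣ)
  have h2 : orderOf g = Fintype.card Kˣ := orderOf_eq_card_of_forall_mem_zpowers hg |>.trans Nat.card_eq_fintype_card
  have h3 : g ^ (q - 1) = 1 := by
    have h4 : g ^ q = g := Units.ext (by rw [Units.val_pow_eq_pow_val]; exact h1 _)
    have h5 : g ^ (q - 1) * g = g := by
      rw [← pow_succ, Nat.sub_add_cancel hq1.le, h4]
    exact mul_eq_right.1 h5
  have h4 := orderOf_dvd_of_pow_eq_one h3
  rw [h2, Fintype.card_units, hK] at h4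
  have h5 := Nat.le_of_dvd (by omega) h4
  have h6 : q * 2 ≤ q ^ 2 := by rw [pow_two]; exact Nat.mul_le_mul_left q hq1
  omega

theorem card_ne (hφ : ∀ x, φ x = x ^ q) (hqq : ∀ t : K, (t ^ q) ^ q = t) (hK : Fintype.card K = q ^ 2)
    (hq1 : 1 < q) : Nat.card ↥(X φ q (sr 3)) ≠ Nat.card ↥(X φ q (sr 0)) := by
  rw [card_of_coord (coordE hφ hqq 3), card_of_coord (coordE hφ hqq 0)]
  intro h
  apply F1_ne_top hφ hK hq1
  have h1 : (Fx φ 2 : Subfield K) = ⊤ := F2_eq_top hφ hqq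
  have h2 : Nat.card (KF φ 3) = Nat.card K := by
    show Nat.card ↥(Fx φ 2) = _
    rw [h1]
    exact Nat.card_congr Subfield.topEquiv.toEquiv
  have h3 : Nat.card ↥(Fx φ 1) = Nat.card K := h.symm.trans h2
  have h4 : ((Fx φ 1 : Subfield K) : Set K) = Set.univ := by
    apply Set.eq_of_subset_of_ncard_le (Set.subset_univ _)
    rw [Set.ncard_univ, ← h3]
    exact le_of_eq (Nat.card_coe_set_eq _)
  exact SetLike.coe_injective (h4.trans Subfield.coe_top.symm)

instance charP_KF (p : ℕ) [CharP K p] (i : Fin 4) : CharP (KF φ i) p :=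
  (RingHom.charP_iff (KF φ i).subtype (KF φ i).subtype_injective p).2 inferInstance

variable {W : Type*} [Group W] (cs : CoxeterSystem CoxeterMatrix.F₄ W)

theorem G1_top (hφ : ∀ x, φ x = x ^ q) (hqq : ∀ t : K, (t ^ q) ^ q = t) :
    RGD.Sup (X φ q) {x | IsRoot cs isCartan x} = ⊤ :=
  G1_eq_top cs hφ hqq

include cs in
/-- conjugation by an element of the torus -/
theorem ftau_conj [Finite W] (p : ℕ) [Fact p.Prime] [CharP K p] {t : ↥(twistedE6 K q)} (ht : t ∈ T K q) :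
    FTau hφ hqq (MulAut.conj t) 1 := by
  have R := Cfsg.Agent.Nodes.RGDTwE6.rgd cs hφ hqq p
  have key : ∀ x, IsRoot cs isCartan x → ∀ y, MulAut.conj t y ∈ X φ q x ↔ y ∈ X φ q x := by
    intro x hx y
    have h1 := R.tor x hx t ht
    constructor
    · intro hy
      rw [← h1, mem_cj, MulAut.conj_apply] at hy
      have e : t⁻¹ * (t * y * t⁻¹) * t = y := by group
      rwa [e] at hy
    · intro hy
      rw [← h1, mem_cj, MulAut.conj_apply]
      have e : t⁻¹ * (t * y * t⁻¹) * t = y := by group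
      rwa [e]
  refine ⟨⟨fun y => ?_, fun i y => ?_, fun i y => ?_⟩, fun i s hs => ?_⟩
  · rw [MulAut.conj_apply]
    constructor
    · intro hy
      have e : y = t⁻¹ * (t * y * t⁻¹) * t := by group
      rw [e]
      exact mul_mem (mul_mem (inv_mem ht) hy) ht
    · intro hy
      exact mul_mem (mul_mem ht hy) (inv_mem ht)
  · exact key _ (isRoot_sr cs isCartan i) y
  · exact key _ (isRoot_sr cs isCartan i).neg y
  · rw [MulAut.conj_apply, (coordE hφ hqq i).chi_conj ht hs]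
    rfl

include cs in
/-- A `p`-element with trivial field automorphism is trivial. -/
theorem ftau_eq_one [Finite W] (p : ℕ) [Fact p.Prime] [CharP K p] {β : MulAut ↥(twistedE6 K q)}
    (S : FTau hφ hqq β 1) {k : ℕ} (hβ : β ^ p ^ k = 1) : β = 1 := by
  have R := Cfsg.Agent.Nodes.RGDTwE6.rgd cs hφ hqq p
  have hS : NTau (T K q) (X φ q) (chE hφ hqq) β 1 := ⟨S.diag, fun i t ht => Subtype.ext (S.char i t ht)⟩
  exact NTau.eq_one (coordE hφ hqq) R (G1_top cs hφ hqq) hS hβ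

/-- **A `p`-group of automorphisms fixing `U`.** -/
theorem exists_field [Finite W] (hK : Fintype.card K = q ^ 2) (hq1 : 1 < q) (p : ℕ) [Fact p.Prime] [CharP K p]
    {S : Subgroup (MulAut ↥(twistedE6 K q))} (hSp : IsPGroup p ↥S)
    (hS : ∀ α ∈ S, Fix α (RGD.Sup (X φ q) (RGD.Pos cs isCartan))) :
    ∃ f : ↥S →* (K ≃+* K), ∀ α : ↥S,
      (∃ u ∈ RGD.Sup (X φ q) (RGD.Pos cs isCartan), FTau hφ hqq (MulAut.conj u * α.1) (f α) ∧
        ∀ k : ℕ, α ^ k = 1 → (MulAut.conj u * α.1) ^ k = 1) ∧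
      (f α = 1 ↔ ∃ u ∈ RGD.Sup (X φ q) (RGD.Pos cs isCartan), α.1 = MulAut.conj u) ∧
      ((∃ x, α.1 = MulAut.conj x) → f α = 1) := by
  have R := Cfsg.Agent.Nodes.RGDTwE6.rgd cs hφ hqq p
  have hG1 := G1_top cs hφ hqq
  have hG := GG_eq_top (T := T K q) hG1
  obtain ⟨g, hg⟩ := exists_toFrame R hG S hS
  have h1 : ∀ α : ↥S, ∃ τ : K ≃+* K, FTau hφ hqq (g α) τ := by
    intro α
    obtain ⟨σ, D⟩ := exists_diag R hG (hg α).1.1 (hg α).1.2
    have h2 : σ = 1 := by
      apply perm_F4 σ (D.matrix R)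
      intro h3
      have h4 := Diag.card_eq D 0
      rw [h3] at h4
      exact card_ne hφ hqq hK hq1 h4
    subst h2
    exact exists_ftau hφ hqq cs p D
  choose τ hτ using h1
  refine ⟨MonoidHom.mk' τ fun α γ => FTau.unique hφ hqq (hτ _) ?_, fun α => ⟨?_, ?_, ?_⟩⟩
  · rw [map_mul]
    exact (hτ α).mul hφ hqq (hτ γ)
  · obtain ⟨u, hu, e⟩ := (hg α).2.1
    refine ⟨u, hu, ?_, fun k hk => ?_⟩
    · rw [← e]
      exact hτ α
    · rw [← e]
      exact (hg α).2.2.1 k hk
  · rw [← (hg α).2.2.2.1]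
    constructor
    · intro h2
      have h3 : τ α = 1 := h2
      have h4 := hτ α
      rw [h3] at h4
      obtain ⟨k, hk⟩ := hSp α
      exact ftau_eq_one hφ hqq cs p h4 ((hg α).2.2.1 _ hk)
    · intro h2
      show τ α = 1
      apply FTau.unique hφ hqq (hτ α)
      rw [h2]
      exact FTau.one hφ hqq
  · rintro ⟨x, hx⟩
    show τ α = 1
    apply FTau.unique hφ hqq (hτ α)
    obtain ⟨u, hu, e⟩ := (hg α).2.1
    rw [hx, ← map_mul] at e
    rw [e]
    apply ftau_conj hφ hqq cs p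
    have h2 := (hg α).1
    rw [e] at h2
    have h3 : u * x ∈ RGD.B cs isCartan (T K q) (X φ q) := by
      rw [← normalizer_U' R hG, Subgroup.mem_normalizer_iff]
      intro y
      rw [← MulAut.conj_apply]
      exact (h2.1 y).symm
    have h4 : u * x ∈ BN cs isCartan (T K q) (X φ q) := by
      rw [← normalizer_UN R hG, Subgroup.mem_normalizer_iff]
      intro y
      rw [← MulAut.conj_apply]
      exact (h2.2 y).symm
    rw [← B_inf_BN R]
    exact ⟨h3, h4⟩

include cs hφ hqq in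
theorem not_dvd_index [Finite W] (p : ℕ) [Fact p.Prime] [CharP K p] :
    ¬ p ∣ (RGD.Sup (X φ q) (RGD.Pos cs isCartan)).index := by
  have R := Cfsg.Agent.Nodes.RGDTwE6.rgd cs hφ hqq p
  have h1 := RgdSyl.not_dvd_relIndex R
  rwa [GG_eq_top (T := T K q) (G1_top cs hφ hqq), Subgroup.relIndex_top_right] at h1

/-- **The `p`-part of the outer automorphism group of `²E₆(q)`** : every `p`-group `S` of automorphisms, modulo its
inner automorphisms, embeds in the Galois group of `K`. -/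
theorem exists_outer [Finite W] (hK : Fintype.card K = q ^ 2) (hq1 : 1 < q) (p : ℕ) [Fact p.Prime] [CharP K p]
    {S : Subgroup (MulAut ↥(twistedE6 K q))} (hSp : IsPGroup p ↥S) :
    ∃ (g : ↥(twistedE6 K q)) (f : ↥S →* (K ≃+* K)),
      (∀ α ∈ S, Fix (MulAut.conj g⁻¹ * α * MulAut.conj g) (RGD.Sup (X φ q) (RGD.Pos cs isCartan))) ∧
      ∀ α : ↥S, (∃ u ∈ RGD.Sup (X φ q) (RGD.Pos cs isCartan),
        FTau hφ hqq (MulAut.conj u * (MulAut.conj g⁻¹ * α.1 * MulAut.conj g)) (f α) ∧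
          ∀ k : ℕ, α ^ k = 1 → (MulAut.conj u * (MulAut.conj g⁻¹ * α.1 * MulAut.conj g)) ^ k = 1) ∧
        (f α = 1 ↔ ∃ x, α.1 = MulAut.conj x) := by
  have R := Cfsg.Agent.Nodes.RGDTwE6.rgd cs hφ hqq p
  obtain ⟨g, hg⟩ := SylFix.exists_conj_fix (p := p) R.isPGroup_Upos (not_dvd_index hφ hqq cs p) hSp
  let c : MulAut ↥(twistedE6 K q) →* MulAut ↥(twistedE6 K q) := (MulAut.conj (MulAut.conj g⁻¹)).toMonoidHom
  have hc : ∀ α, c α = MulAut.conj g⁻¹ * α * MulAut.conj g := by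
    intro α
    show MulAut.conj g⁻¹ * α * (MulAut.conj g⁻¹)⁻¹ = _
    rw [← map_inv, inv_inv]
  have hcinj : Function.Injective c := (MulAut.conj (MulAut.conj g⁻¹)).injective
  obtain ⟨f, hf⟩ := exists_field hφ hqq cs hK hq1 p (S := S.map c) (hSp.map c) (by
    rintro _ ⟨α, hα, rfl⟩
    rw [hc]
    exact hg α hα)
  let j : ↥S →* ↥(S.map c) := c.subgroupMap S
  have hj : ∀ α : ↥S, (j α).1 = MulAut.conj g⁻¹ * α.1 * MulAut.conj g := fun α => hc α.1
  refine ⟨g, f.comp j, hg, fun α => ⟨?_, ?_⟩⟩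
  · obtain ⟨u, hu, h1, h2⟩ := (hf (j α)).1
    rw [hj] at h1 h2
    refine ⟨u, hu, h1, fun k hk => h2 k ?_⟩
    rw [← map_pow, hk, map_one]
  · constructor
    · intro h1
      obtain ⟨u, hu, h2⟩ := (hf (j α)).2.1.1 h1
      rw [hj] at h2
      refine ⟨g * u * g⁻¹, ?_⟩
      rw [map_mul, map_mul, ← h2, map_inv]
      simp only [mul_assoc, mul_inv_cancel, mul_one, mul_inv_cancel_left]
    · rintro ⟨x, hx⟩
      apply (hf (j α)).2.2
      refine ⟨g⁻¹ * x * g, ?_⟩
      rw [hj, hx, map_mul, map_mul]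

include cs in
/-- **Long root groups** : a `p`-element whose field automorphism is trivial on the field with `q` elements acts
trivially on all long root groups. -/
theorem trivial_long [Finite W] (p : ℕ) [Fact p.Prime] [CharP K p] {β : MulAut ↥(twistedE6 K q)} {τ : K ≃+* K}
    (S : FTau hφ hqq β τ) {k : ℕ} (hβ : β ^ p ^ k = 1) {i : Fin 4} (hτ : ∀ a : KF φ i, τ (a : K) = a) {w : W}
    {y : ↥(twistedE6 K q)} (hy : y ∈ X φ q (rep cs isCartan w (sr i))) : β y = y := by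
  have R := Cfsg.Agent.Nodes.RGDTwE6.rgd cs hφ hqq p
  have C := coordE hφ hqq i
  obtain ⟨τ', c, hc, hx, hch⟩ := C.exists_semi C S.diag.tor (S.diag.pos i)
  have h1 : τ' = RingEquiv.refl _ := by
    apply C.ext
    intro t ht
    rw [← hch t ht]
    apply Subtype.ext
    rw [S.char i t ht, hτ]
    rfl
  subst h1
  obtain ⟨g, hg⟩ := exists_rp cs R.nsys w
  have hσ : ∀ a b : Fin 4, CoxeterMatrix.F₄ ((1 : Equiv.Perm (Fin 4)) a) ((1 : Equiv.Perm (Fin 4)) b) =
      CoxeterMatrix.F₄ a b := fun _ _ => rfl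
  have hg' := S.diag.rp' (R := R) hσ hg
  have hhat : hat cs 1 hσ w = w := by
    have h2 : hat cs 1 hσ = MonoidHom.id W := by
      apply cs.ext_simple
      intro a
      rw [hat_simple]
      rfl
    rw [h2]
    rfl
  rw [hhat] at hg'
  obtain ⟨s, hs⟩ : ∃ s, s = g⁻¹ * β g := ⟨_, rfl⟩
  have hsT : s ∈ T K q := by rw [hs]; exact hg.unique hg'
  have hβg : β g = g * s := by rw [hs]; group
  obtain ⟨xi, hxi⟩ : ∃ xi : KF φ i → ↥(twistedE6 K q), xi = fun a => PhiE hφ hqq i (up a) := ⟨_, rfl⟩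
  have hx' : ∀ a, β (xi a) = xi (c * a) := by intro a; rw [hxi]; exact hx a
  have C' : Coord (T K q) (X φ q (sr i)) xi (chE hφ hqq i) := by rw [hxi]; exact C
  have h3 : ∀ a, β (g * xi a * g⁻¹) = g * xi (chE hφ hqq i s * c * a) * g⁻¹ := by
    intro a
    rw [map_mul, map_mul, map_inv, hβg, hx' a]
    have e : g * s * xi (c * a) * (g * s)⁻¹ = g * (s * xi (c * a) * s⁻¹) * g⁻¹ := by group
    rw [e, C'.act s hsT, ← mul_assoc (chE hφ hqq i s) c a]
  obtain ⟨d, hd⟩ : ∃ d, d = chE hφ hqq i s * c := ⟨_, rfl⟩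
  rw [← hd] at h3
  have h4 : ∀ m a, (β ^ m) (g * xi a * g⁻¹) = g * xi (d ^ m * a) * g⁻¹ := by
    intro m
    induction m with
    | zero => intro a; rw [pow_zero, pow_zero, one_mul]; rfl
    | succ m ih =>
      intro a
      rw [pow_succ, MulAut.mul_apply, h3, ih, pow_succ, mul_assoc (d ^ m) d a]
  have h5 := h4 (p ^ k) 1
  rw [hβ, MulAut.one_apply, mul_one] at h5
  have h6 := C'.inj (mul_left_cancel (mul_right_cancel h5))
  have h7 : d = 1 := by
    haveI : ExpChar (KF φ i) p := ExpChar.prime Fact.out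
    have h8 : (d - 1) ^ p ^ k = 0 := by rw [sub_pow_expChar_pow, ← h6, one_pow, sub_self]
    exact sub_eq_zero.1 (pow_eq_zero_iff (pow_ne_zero _ (Fact.out : p.Prime).ne_zero) |>.1 h8)
  have h8 := R.conj_rp hg (isRoot_sr cs isCartan i)
  rw [← h8, mem_cj] at hy
  obtain ⟨a, ha⟩ := (C'.mem _).1 hy
  have h9 : y = g * xi a * g⁻¹ := by rw [ha]; group
  rw [h9, h3, h7, one_mul]

/-- The involution of the Galois group of `K` is trivial on the field with `q` elements. -/
theorem eq_frob (hφ : ∀ x : K, φ x = x ^ q) (hqq : ∀ t : K, (t ^ q) ^ q = t) (hK : Fintype.card K = q ^ 2)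
    (hq1 : 1 < q) {τ : K ≃+* K} (hτ : τ * τ = 1) (a : K) (ha : φ a = a) : τ a = a := by
  classical
  have hinj : Function.Injective φ := φ.injective
  let Φ : K ≃+* K := RingEquiv.ofBijective φ ((Finite.injective_iff_bijective).1 hinj)
  have hΦ : ∀ x, Φ x = x ^ q := hφ
  have hΦ2 : Φ * Φ = 1 := by
    ext x
    rw [RingAut.mul_apply, hΦ, hΦ, hqq]
    rfl
  have hΦ1 : Φ ≠ 1 := by
    intro h
    apply F1_ne_top hφ hK hq1
    rw [eq_top_iff]
    intro x _
    rw [mem_Fx, Function.iterate_one]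
    exact congrArg (fun e : K ≃+* K => e x) h
  have hcyc : IsCyclic (K ≃+* K) := Cfsg.Agent.LieRecognition.FieldSemilinear.isCyclic_ringAut K
  have hfin : Finite (K ≃+* K) := Finite.of_injective (fun e : K ≃+* K => (e : K → K)) fun a b h => by
    ext x
    exact congrFun h x
  let _ : Fintype (K ≃+* K) := Fintype.ofFinite _
  by_cases h1 : τ = 1
  · rw [h1]; rfl
  · have h2 : τ = Φ := by
      have hcard := IsCyclic.card_pow_eq_one_le (α := K ≃+* K) (n := 2) (by norm_num)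
      by_contra hne
      have h3 : ({1, τ, Φ} : Finset (K ≃+* K)) ⊆ Finset.univ.filter fun e => e ^ 2 = 1 := by
        intro e he
        rw [Finset.mem_filter]
        refine ⟨Finset.mem_univ _, ?_⟩
        simp only [Finset.mem_insert, Finset.mem_singleton] at he
        rcases he with rfl | rfl | rfl
        · exact one_pow 2
        · rw [pow_two, hτ]
        · rw [pow_two, hΦ2]
      have h4 := (Finset.card_le_card h3).trans hcard
      rw [Finset.card_insert_of_notMem, Finset.card_insert_of_notMem, Finset.card_singleton] at h4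
      · omega
      · rw [Finset.mem_singleton]; exact hne
      · rw [Finset.mem_insert, Finset.mem_singleton, not_or]
        exact ⟨fun h => h1 h.symm, fun h => hΦ1 h.symm⟩
    rw [h2]
    exact ha

end Cfsg.Agent.KFacts.TwESix.OutTwo
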