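import Cfsg.Agent.KFacts.TwESix.NonComm
import Cfsg.Agent.KFacts.TwESix.QRho
import Cfsg.Agent.KFacts.TwESix.OutTwo

/-!
# `²E₆(q)`, `q` even: the facts `Dat`

* `dat` : `Facts.Dat` for `RGDTwE6.rgd`, every even `q`.
-/

set_option autoImplicit false
set_option linter.unusedSectionVars false
set_option maxHeartbeats 400000

namespace Cfsg.Agent.KFacts.TwESix.Dat

open CoxeterSystem Cfsg.Agent.ChevalleyStructure.CoxeterGeom Cfsg.Agent.Tits.Roots Cfsg.Agent.Tits.Core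
  Cfsg.Agent.Tits.RootComb Cfsg.Agent.Tits.Exchange Cfsg.Agent.Nodes.Reps Cfsg.Agent.Nodes.BNOf
  Cfsg.Agent.Nodes.Coroot Cfsg.Agent.KFacts.RgdSL Cfsg.Agent.KFacts.RgdTI
  Cfsg.Agent.Nodes.RGDTwE6 Cfsg.Agent.KFacts.TwESix.Comb Cfsg.Agent.KFacts.TwESix.CombRho
  Cfsg.Agent.KFacts.TwESix.Facts Cfsg.Agent.KFacts.RgdField
  Cfsg.Agent.Nodes.RGDTwGen Cfsg.Agent.Nodes.RGDFold Cfsg.Agent.Nodes.RGDFoldSL
open Cfsg.Agent.ChevalleyStructure.SL2Hom (up lo)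
open Cfsg.Agent.Nodes.RGDTwNode.E6
open Cfsg.Lie
open scoped commutatorElement

universe u

variable {K : Type u} [Field K] [Fintype K] {q : ℕ} {φ : K →+* K}
variable {W : Type*} [Group W] (cs : CoxeterSystem CoxeterMatrix.F₄ W)

theorem card_lt (hφ : ∀ x, φ x = x ^ q) (hqq : ∀ t : K, (t ^ q) ^ q = t) (hK : Fintype.card K = q ^ 2)
    (hq1 : 1 < q) : Nat.card ↥(X φ q (sr 0)) < Nat.card ↥(X φ q (sr 3)) := by
  refine lt_of_le_of_ne ?_ (OutTwo.card_ne hφ hqq hK hq1).symm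
  rw [OutTwo.card_of_coord (Out.coordE hφ hqq 3), OutTwo.card_of_coord (Out.coordE hφ hqq 0)]
  have h1 : (Fx φ 2 : Subfield K) = ⊤ := Out.F2_eq_top hφ hqq
  have h2 : Nat.card (Out.KF φ 3) = Nat.card K := by
    show Nat.card ↥(Fx φ 2) = _
    rw [h1]
    exact Nat.card_congr Subfield.topEquiv.toEquiv
  rw [h2]
  exact Nat.card_le_card_of_injective _ (Out.KF φ 0).subtype_injective

/-- **`Dat` for `²E₆(q)`, every even `q`.** -/
theorem dat [CharP K 2] (hφ : ∀ x, φ x = x ^ q) (hqq : ∀ t : K, (t ^ q) ^ q = t) (hK : Fintype.card K = q ^ 2)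
    (hq1 : 1 < q) : Facts.Dat (rgd cs hφ hqq 2) :=
  ⟨fun _ ha hl => Grp.lr_long cs hφ hqq 2 ha hl, NonComm.nc (rgd cs hφ hqq 2)
    (fun _ ha hl => Grp.lr_long cs hφ hqq 2 ha hl) (card_lt hφ hqq hK hq1)⟩

end Cfsg.Agent.KFacts.TwESix.Dat
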