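import Cfsg.Agent.KFacts.TwESix.Irr
import Cfsg.Agent.KFacts.TwESix.QRho

/-!
# `²E₆(q)`: the action of `P` on `Q` (K-facts (H1), (H4), (LL) of ODD D7, packet [D])

`P = QRho.PP`, `Q = QRho.QQ`, `Z = X ρ`, `D : Dat R`.

* `irr` : (H4) in terms of `Dat`;
* `cent_Q` : an element of `GG` centralising `Q` is in `Z` (`NoCent`: `GG` has no centre in `T`);
* `nrm` : (H1) a nontrivial perfect normal subgroup of `P` contains `Q`;
* `core` : a 2-subgroup normalised by `P` is in `Q`; `isPGroup_QQ`, `cent_z` (`C_GG(z) ≤ T P`), `perfect_le` : a perfect subgroup of `C_GG(z)` lies in `P`;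
* `exists_pair` : (LL) two long root groups are simultaneously conjugate to `X ρ`, `X s`; `Q_eq` : `Q` is generated by `Z`
  and the `P`-conjugates of one long root group.
-/

set_option autoImplicit false
set_option linter.unusedSectionVars false

namespace Cfsg.Agent.KFacts.TwESix.Faith

open CoxeterSystem Cfsg.Agent.ChevalleyStructure.CoxeterGeom Cfsg.Agent.Tits.Roots Cfsg.Agent.Tits.Core
  Cfsg.Agent.Tits.RootComb Cfsg.Agent.Tits.Exchange Cfsg.Agent.Nodes.Reps Cfsg.Agent.Nodes.BNOf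
  Cfsg.Agent.Nodes.Coroot Cfsg.Agent.Nodes.LeviDec
  Cfsg.Agent.Nodes.Bruhat Cfsg.Agent.Nodes.OppDec Cfsg.Agent.Nodes.StabComb
  Cfsg.Agent.KFacts.RgdPar Cfsg.Agent.KFacts.RgdCent
  Cfsg.Agent.KFacts.RgdSL Cfsg.Agent.KFacts.RgdTI Cfsg.Agent.KFacts.RgdEx Cfsg.Agent.KFacts.RgdOdd
  Cfsg.Agent.Nodes.RGDTwE6 Cfsg.Agent.KFacts.TwESix.Comb Cfsg.Agent.KFacts.TwESix.Btw
  Cfsg.Agent.KFacts.TwESix.Pair Cfsg.Agent.KFacts.TwESix.Facts Cfsg.Agent.KFacts.TwESix.QRho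
open scoped commutatorElement

theorem star_long : ∀ b ∈ rts, (∀ a ∈ rts, 1 ≤ a 0 → bf a a = 4 → 0 ≤ bf b a) →
    b = rho ∨ (b 0 = 1 ∧ bf b b = 2) := by
  decide +kernel

theorem a2_zero : ∀ b ∈ rts, b 0 = 0 → ∃ c ∈ rts, c 0 = 1 ∧ b - c ∈ rts ∧ bf c c = bf (b - c) (b - c) ∧
    2 * bf c (b - c) = - bf c c := by
  decide +kernel

theorem pos_of_zero : ∀ b ∈ rts, 1 ≤ b 0 → 0 ≤ b 1 ∧ 0 ≤ b 2 ∧ 0 ≤ b 3 := by decide +kernel

variable {W Y : Type*} [Group W] [Group Y] {cs : CoxeterSystem CoxeterMatrix.F₄ W} {T : Subgroup Y}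
  {n : Fin 4 → Y} {X : (Fin 4 → ℤ) → Subgroup Y} {R : RGD cs isCartan 2 T n X}

theorem LRl_of (D : Dat R) : LRl R := D.lr

theorem tr_of (D : Dat R) : Tr R := by
  intro b d hb hd hbb hdd hbd _ x hx hx1
  obtain ⟨v, hv, h⟩ := orth_nd D hb hd hbb hdd hbd hx hx1
  exact ⟨v, hv, fun h1 => h (commutatorElement_eq_one_iff_mul_comm.1 h1)⟩

/-- **(H4)** -/
theorem irr (D : Dat R) {N : Subgroup Y} (hNQ : N ≤ QQ cs X)
    (hN : ∀ g ∈ PP cs X, ∀ x ∈ N, g * x * g⁻¹ ∈ N) : N ≤ X rho ∨ N = QQ cs X :=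
  Irr.irr R D.lr (tr_of D) hNQ hN

/-- **`C_GG(Q) = Z`** -/
theorem cent_Q (D : Dat R) (hNC : NoCent cs isCartan T X) {c : Y} (hc : c ∈ GG cs isCartan T X)
    (hcQ : ∀ v ∈ QQ cs X, c * v = v * c) : c ∈ X rho := by
  have : Finite W := finiteW cs
  set Psi : Set (Fin 4 → ℤ) := {a | a ∈ Rad cs isCartan rho ∧ bf a a = 4} with hPsi
  have hLR : ∀ a ∈ Psi, LR R a := fun a ha => D.lr a ha.1.1 ha.2
  have hst : ∀ b ∈ Star cs isCartan Psi, ∀ a ∈ Psi, ∀ u ∈ X b, ∀ v ∈ X a, u * v = v * u :=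
    fun b hb a ha u hu v hv => (hLR a ha).comm b hb.1 (hb.2 a ha) u hu v hv
  obtain ⟨t, ht, hPt, q, hq, rfl⟩ := cent_eq R hLR hst hc fun a ha v hv => hcQ v (RGD.le_Sup ha.1 hv)
  -- `Star Psi ≤ Rad`
  have hsub : Star cs isCartan Psi ⊆ Rad cs isCartan rho := by
    intro b hb
    have hb' := (mem_rts cs).1 hb.1
    rw [Irr.mem_Rad]
    rcases star_long b hb' (fun a ha ha1 ha4 => by
      have har := (mem_rts cs).2 ha
      refine (ge_iff cs har ha4).1 (hb.2 a ⟨⟨har, ?_⟩, ha4⟩)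
      rw [cpr_rho]; exact ha1) with h | h
    · exact Or.inl h
    · exact Or.inr (Irr.mem_ph1.2 ⟨hb', h.1⟩)
  have hqQ : q ∈ QQ cs X := RGD.Sup_mono hsub hq
  -- `t` centralises `Q`
  have htb : ∀ b ∈ Rad cs isCartan rho, b ∈ Cen cs isCartan X t := by
    intro b hb
    refine ⟨hb.1, fun v hv => ?_⟩
    have hvQ : v ∈ QQ cs X := RGD.le_Sup hb hv
    by_cases hbr : b = rho
    · subst hbr
      exact (hPt (a := rho) ⟨hb, rho_long⟩).2 v hv
    have h1 : ⁅q⁻¹, v⁆ ∈ X rho := Irr.comm_QQ R D.lr (inv_mem hqQ) hvQ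
    have h2 : t * v * t⁻¹ = ⁅q⁻¹, v⁆ * v := by
      have h3 := hcQ _ (mul_mem (Irr.Z_le h1) hvQ)
      have h4 : t * v * t⁻¹ = (t * q) * (⁅q⁻¹, v⁆ * v) * (t * q)⁻¹ := by rw [commutatorElement_def]; group
      rw [h4, h3]; group
    have h5 : ⁅q⁻¹, v⁆ ∈ X b ⊓ X rho := by
      refine Subgroup.mem_inf.2 ⟨?_, h1⟩
      have h6 : ⁅q⁻¹, v⁆ = t * v * t⁻¹ * v⁻¹ := by rw [h2]; group
      rw [h6]
      exact mul_mem (tor_mem R hb.1 ht hv) (inv_mem hv)
    rw [X_inf_X R hb.1 (rho_root cs) hbr, Subgroup.mem_bot] at h5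
    rw [h5, one_mul] at h2
    calc t * v = t * v * t⁻¹ * t := by group
      _ = v * t := by rw [h2]
  have htall : ∀ b, IsRoot cs isCartan b → b ∈ Cen cs isCartan X t := by
    intro b hb
    rcases lt_trichotomy (b 0) 0 with h0 | h0 | h0
    · have h1 := cen_neg R ht (htb (-b) ⟨hb.neg, by
        rw [cpr_rho]
        show 1 ≤ -(b 0)
        omega⟩)
      rwa [neg_neg] at h1
    · obtain ⟨c, hc, hc0, hd, hn, h2⟩ := a2_zero b ((mem_rts cs).1 hb) h0
      have hcr := (mem_rts cs).2 hc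
      have hdr := (mem_rts cs).2 hd
      have hA : A2 cs isCartan c (b - c) := a2 cs hcr hdr hn h2
      have h3 : c ∈ Cen cs isCartan X t := htb c ⟨hcr, by rw [cpr_rho, hc0]⟩
      have h4 : b - c ∈ Cen cs isCartan X t := by
        have h5 := cen_neg R ht (htb (-(b - c)) ⟨hdr.neg, by
          rw [cpr_rho]
          show 1 ≤ -(b 0 - c 0)
          omega⟩)
        rwa [neg_neg] at h5
      have h5 := cen_add R hA h3 h4
      rwa [add_sub_cancel] at h5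
    · exact htb b ⟨hb, by rw [cpr_rho]; omega⟩
  have ht1 : t = 1 := hNC t ht fun b hb => (htall b hb).2
  rw [ht1, one_mul] at hcQ ⊢
  have h1 := (loc D).ZQ (q := q) (by rw [QS_eq (cs := cs)]; exact hqQ) (fun v hv => hcQ v (by
    rw [QS_eq (cs := cs)] at hv; exact hv))
  exact h1

theorem PP_le_GG : PP cs X ≤ GG cs isCartan T X := by
  refine RGD.Sup_le fun b hb => ?_
  exact le_trans (X_le_PS (T := T) (Ω := {b | IsRoot cs isCartan b}) hb.1) (PS_le_GG fun x hx => hx)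

/-- **(H1)** -/
theorem nrm (D : Dat R) (hNC : NoCent cs isCartan T X) {N : Subgroup Y} (hNP : N ≤ PP cs X) (hNN : ⁅N, N⁆ = N)
    (hN1 : N ≠ ⊥) (hN : ∀ p ∈ PP cs X, ∀ x ∈ N, p * x * p⁻¹ ∈ N) : QQ cs X ≤ N := by
  have hnorm : ∀ p ∈ PP cs X, ∀ q ∈ QQ cs X, p * q * p⁻¹ ∈ QQ cs X := fun p hp q hq =>
    (Subgroup.mem_normalizer_iff.1 (PP_normalizer R hp) q).1 hq
  rcases irr D (N := N ⊓ QQ cs X) inf_le_right (fun g hg x hx =>
    Subgroup.mem_inf.2 ⟨hN g hg x hx.1, hnorm g hg x hx.2⟩) with h | h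
  · exfalso
    have h1 : ⁅N, QQ cs X⁆ ≤ X rho := by
      rw [Subgroup.commutator_le]
      intro x hx y hy
      apply h
      refine Subgroup.mem_inf.2 ⟨?_, ?_⟩
      · rw [commutatorElement_def]
        have h2 := mul_mem hx (hN y (QQ_le_PP hy) _ (inv_mem hx))
        have e : x * y * x⁻¹ * y⁻¹ = x * (y * x⁻¹ * y⁻¹) := by group
        rw [e]; exact h2
      · rw [commutatorElement_def]
        exact mul_mem (hnorm x (hNP hx) y hy) (inv_mem hy)
    have h2 : ⁅⁅N, QQ cs X⁆, N⁆ = ⊥ := by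
      rw [eq_bot_iff, Subgroup.commutator_le]
      intro x hx y hy
      rw [Subgroup.mem_bot, commutatorElement_eq_one_iff_mul_comm]
      exact cen_PP D (h1 hx) (hNP hy)
    have h3 : ⁅⁅N, N⁆, QQ cs X⁆ = ⊥ := by
      refine Subgroup.commutator_commutator_eq_bot_of_rotate h2 ?_
      rw [Subgroup.commutator_comm (QQ cs X) N]
      exact h2
    rw [hNN] at h3
    have h4 : N ≤ X rho := by
      intro x hx
      refine cent_Q D hNC (PP_le_GG (hNP hx)) fun v hv => ?_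
      have h5 : ⁅x, v⁆ ∈ ⁅N, QQ cs X⁆ := Subgroup.commutator_mem_commutator hx hv
      rw [h3, Subgroup.mem_bot] at h5
      exact commutatorElement_eq_one_iff_mul_comm.1 h5
    apply hN1
    rw [eq_bot_iff, ← hNN, Subgroup.commutator_le]
    intro x hx y hy
    rw [Subgroup.mem_bot, commutatorElement_eq_one_iff_mul_comm]
    exact cen_PP D (h4 hx) (hNP hy)
  · rw [← h]
    exact inf_le_left

/-- `Q` is a 2-group -/
theorem isPGroup_QQ (R : RGD cs isCartan 2 T n X) : IsPGroup 2 (QQ cs X) := by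
  have : Finite W := finiteW cs
  refine IsPGroup.to_le (R.isPGroup_Upos) (RGD.Sup_mono fun b hb => ⟨hb.1, ?_⟩)
  have h1 := hb.2
  rw [cpr_rho] at h1
  have h2 := pos_of_zero b ((mem_rts cs).1 hb.1) h1
  intro i
  fin_cases i
  · show (0 : ℤ) ≤ b 0
    omega
  · exact h2.1
  · exact h2.2.1
  · exact h2.2.2

/-- `O₂(P) = Q` -/
theorem core [Finite Y] (R : RGD cs isCartan 2 T n X) {E : Subgroup Y} (hE : E ≤ PP cs X) (h2 : IsPGroup 2 E)
    (hn : ∀ p ∈ PP cs X, ∀ d ∈ E, p * d * p⁻¹ ∈ E) : E ≤ QQ cs X := by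
  have : Finite W := finiteW cs
  have : Fact (Nat.Prime 2) := ⟨Nat.prime_two⟩
  refine core_le R (rho_root cs) (le_trans hE PP_le_GG) h2 fun u hu => ?_
  apply le_antisymm
  · intro x hx
    rw [mem_cj] at hx
    have := hn u hu _ hx
    have e : u * (u⁻¹ * x * u) * u⁻¹ = x := by group
    rwa [e] at this
  · intro x hx
    rw [mem_cj]
    have := hn u⁻¹ (inv_mem hu) x hx
    rwa [inv_inv] at this

/-- `C_GG(z) ≤ T P` -/
theorem cent_z (D : Dat R) {g z : Y} (hg : g ∈ GG cs isCartan T X) (hz : z ∈ X rho) (hz1 : z ≠ 1)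
    (hgz : g * z = z * g) : ∃ t ∈ T, t * z = z * t ∧ ∃ q ∈ PP cs X, g = t * q := by
  have : Finite W := finiteW cs
  exact ((D.lr rho (rho_root cs) rho_long).mem_centralizer hg hz hz1).1 hgz

/-- A perfect subgroup of `C_GG(z)` lies in `P`. -/
theorem perfect_le (D : Dat R) (hT : ∀ a ∈ T, ∀ b ∈ T, a * b = b * a) {z : Y} (hz : z ∈ X rho) (hz1 : z ≠ 1)
    {E : Subgroup Y} (hE : ⁅E, E⁆ = E) (hEG : E ≤ GG cs isCartan T X) (hEz : ∀ x ∈ E, x * z = z * x) :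
    E ≤ PP cs X := by
  have hTn : T ≤ Subgroup.normalizer (PP cs X : Set Y) := R.T_le_normalizer fun x hx => hx.1
  have key : ∀ p ∈ PP cs X, ∀ t ∈ T, t * p * t⁻¹ ∈ PP cs X := fun p hp t ht =>
    (Subgroup.mem_normalizer_iff.1 (hTn ht) p).1 hp
  rw [← hE, Subgroup.commutator_le]
  intro x hx y hy
  obtain ⟨a, ha, -, p, hp, rfl⟩ := cent_z D (hEG hx) hz hz1 (hEz x hx)
  obtain ⟨b, hb, -, q, hq, rfl⟩ := cent_z D (hEG hy) hz hz1 (hEz y hy)
  have e : ⁅a * p, b * q⁆ = (a * p * a⁻¹) * ((a * b) * (q * p⁻¹) * (a * b)⁻¹) * (b * q⁻¹ * b⁻¹) := by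
    have h1 := hT a ha b hb
    rw [commutatorElement_def]
    have h2 : (a * b)⁻¹ * b = a⁻¹ := by rw [h1]; group
    calc a * p * (b * q) * (a * p)⁻¹ * (b * q)⁻¹ = a * p * b * q * p⁻¹ * a⁻¹ * q⁻¹ * b⁻¹ := by group
      _ = a * p * a⁻¹ * (a * b) * (q * p⁻¹) * (a⁻¹) * q⁻¹ * b⁻¹ := by group
      _ = a * p * a⁻¹ * (a * b) * (q * p⁻¹) * ((a * b)⁻¹ * b) * q⁻¹ * b⁻¹ := by rw [h2]
      _ = _ := by group
  rw [e]
  exact mul_mem (mul_mem (key _ hp _ ha) (key _ (mul_mem hq (inv_mem hp)) _ (mul_mem ha hb)))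
    (key _ (inv_mem hq) _ hb)

/-! ### (LL) -/

theorem rho_dom (i : Fin 4) : 0 ≤ cpr cs isCartan (sr i) rho := by
  rw [cpr_rho]
  fin_cases i <;> simp [sr]

/-- `B ≤ N(X ρ)` -/
theorem B_le_normalizer (D : Dat R) : RGD.B cs isCartan T X ≤ Subgroup.normalizer (X rho : Set Y) := by
  have : Finite W := finiteW cs
  have L := D.lr rho (rho_root cs) rho_long
  refine le_trans ?_ L.PS_le_normalizer
  have h1 : PS T X (Ge cs isCartan rho) = PJ cs isCartan T X {i | ell cs isCartan L.root (sr i) = 0} :=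
    PS_half_of_dom (f := ell cs isCartan L.root) rho_dom
  rw [h1]
  exact B_le_PJ

/-- **(LL)** Two long root groups are simultaneously conjugate to `X ρ`, `X s`. -/
theorem exists_pair (D : Dat R) {g h : Y} (hg : g ∈ GG cs isCartan T X) (hh : h ∈ GG cs isCartan T X) :
    ∃ k ∈ GG cs isCartan T X, ∃ s, IsRoot cs isCartan s ∧ bf s s = 4 ∧ cj g (X rho) = cj k (X rho) ∧
      cj h (X rho) = cj k (X s) := by
  have : Finite W := finiteW cs
  have hB := B_le_normalizer D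
  obtain ⟨w, b₁, hb₁, m, hm, b₂, hb₂, e⟩ := (mem_GG R).1 (mul_mem (inv_mem hg) hh)
  refine ⟨g * b₁, mul_mem hg (B_le_GG hb₁), rep cs isCartan w rho, (rho_root cs).act w, ?_, ?_, ?_⟩
  · rw [bf_rep]; exact rho_long
  · rw [cj_mul, mem_normalizer_iff_cj.1 (hB hb₁)]
  · have e' : h = g * b₁ * m * b₂ := by
      have : h = g * (g⁻¹ * h) := by group
      rw [this, e]; group
    rw [e', cj_mul, mem_normalizer_iff_cj.1 (hB hb₂), cj_mul, R.conj_rp hm (rho_root cs)]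

/-- `Q` is generated by `Z` and the `P`-conjugates of a long root group `X s`, `⟨s, ρ^∨⟩ = 1`. -/
theorem Q_eq (D : Dat R) {s : Fin 4 → ℤ} (hs : IsRoot cs isCartan s) (hs0 : s 0 = 1) :
    QQ cs X = X rho ⊔ ⨆ p : PP cs X, cj (p : Y) (X s) := by
  have : Finite W := finiteW cs
  set N : Subgroup Y := X rho ⊔ ⨆ p : PP cs X, cj (p : Y) (X s) with hN
  have hsQ : X s ≤ QQ cs X := le_QQ hs (by rw [hs0])
  have h1 : N ≤ QQ cs X := by
    refine sup_le (le_QQ (rho_root cs) (by decide)) (iSup_le fun p => ?_)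
    intro x hx
    rw [mem_cj] at hx
    have h2 := (Subgroup.mem_normalizer_iff.1 (PP_normalizer R p.2) _).1 (hsQ hx)
    have e : (p : Y) * ((p : Y)⁻¹ * x * p) * (p : Y)⁻¹ = x := by group
    rwa [e] at h2
  have hinv : ∀ g ∈ PP cs X, ∀ x ∈ N, g * x * g⁻¹ ∈ N := by
    intro g hg x hx
    have h2 : cj g N ≤ N := by
      rw [hN, cj_sup, cj_iSup]
      refine sup_le ?_ (iSup_le fun p => ?_)
      · refine le_trans ?_ le_sup_left
        intro y hy
        rw [mem_cj] at hy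
        have h3 := cen_PP D hy (inv_mem hg)
        have e : y = g⁻¹ * y * g := by
          have h4 : g⁻¹ * y * g * g⁻¹ = g⁻¹ * (g⁻¹ * y * g) := h3
          have h5 : g⁻¹ * y = g⁻¹ * (g⁻¹ * y * g) := by rw [← h4]; group
          exact mul_left_cancel h5
        rw [e]; exact hy
      · refine le_trans ?_ le_sup_right
        rw [← cj_mul]
        exact le_iSup (fun p : PP cs X => cj (p : Y) (X s)) (⟨g, hg⟩ * p)
    exact h2 (conj_mem_cj.2 hx)
  rcases irr D h1 hinv with h | h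
  · exfalso
    obtain ⟨u, hu, hu1⟩ := exists_ne_one R hs
    have h2 : u ∈ X s ⊓ X rho := by
      refine Subgroup.mem_inf.2 ⟨hu, h ?_⟩
      have h3 : X s ≤ ⨆ p : PP cs X, cj (p : Y) (X s) := by
        refine le_trans (le_of_eq ?_) (le_iSup (fun p : PP cs X => cj (p : Y) (X s)) 1)
        show X s = cj ((1 : PP cs X) : Y) (X s)
        rw [Subgroup.coe_one, cj_one]
      exact (le_trans h3 le_sup_right) hu
    rw [X_inf_X R hs (rho_root cs) (by
      intro h0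
      rw [h0] at hs0
      exact absurd hs0 (by decide)), Subgroup.mem_bot] at h2
    exact hu1 h2
  · exact h.symm

end Cfsg.Agent.KFacts.TwESix.Faith
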