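import Cfsg.Agent.KFacts.TwESix.Comb

/-!
# `²E₆(q)`: the long root groups (packet [B])

* `lr_long` : `LR` (of `RgdTI`) for every long root `a`: `X a` is centralised by all `X x` with `⟨x, a^∨⟩ ≥ 0`;
  every characteristic, every `q`.
-/

set_option autoImplicit false
set_option linter.unusedSectionVars false

namespace Cfsg.Agent.KFacts.TwESix.Grp

open CoxeterSystem Cfsg.Agent.ChevalleyStructure.CoxeterGeom Cfsg.Agent.Tits.Roots Cfsg.Agent.Tits.Core
  Cfsg.Agent.Tits.RootComb Cfsg.Agent.Nodes.Reps Cfsg.Agent.Nodes.BNOf Cfsg.Agent.Nodes.Coroot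
  Cfsg.Agent.Nodes.RGDTwGen
  Cfsg.Agent.KFacts.RgdSL Cfsg.Agent.KFacts.RgdTI Cfsg.Agent.Nodes.RGDTwE6 Cfsg.Agent.Nodes.RGDFold
  Cfsg.Agent.KFacts.TwESix.Comb
open Cfsg.Lie Cfsg.Agent.ChevalleyStructure Cfsg.Agent.ChevalleyStructure.Elts
  Cfsg.Agent.ChevalleyStructure.TwistedU Cfsg.Agent.ChevalleyStructure.TwistedFix
open Cfsg.Agent.ChevalleyStructure.TwE6Basic (sg)
open scoped commutatorElement

universe u

variable {K : Type u} [Field K] {q : ℕ} {φ : K →+* K}
variable {W : Type*} [Group W] (cs : CoxeterSystem CoxeterMatrix.F₄ W)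

theorem V_root {r : ℕ} (hr : r < chevE6.nroots) : IsRoot cs isCartan (V chevE6 J r) :=
  (mem_rts cs).2 (V_mem_rts r hr)

theorem commute_long {s : ℕ} (hs : s < chevE6.nroots) (hl : bf (V chevE6 J s) (V chevE6 J s) = 4) {r : ℕ}
    (hr : r < chevE6.nroots) (hrs : 0 ≤ bf (V chevE6 J r) (V chevE6 J s)) (t u : K) :
    Commute (xG (F := K) hp.inList r t) (xG hp.inList s u) := by
  rcases nil_of_nonneg s hs hl r hr hrs with h | ⟨h1, h2⟩
  · subst h
    show xG (F := K) hp.inList s t * xG hp.inList s u = xG hp.inList s u * xG hp.inList s t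
    rw [xG_add, xG_add, add_comm]
  · by_cases h3 : s = r
    · subst h3
      show xG (F := K) hp.inList s t * xG hp.inList s u = xG hp.inList s u * xG hp.inList s t
      rw [xG_add, xG_add, add_comm]
    · exact commute_of_nil hp hr hs h3 h1 h2 t u

/-- **`LR` for long roots.** -/
theorem lr_long [Fintype K] (hφ : ∀ x, φ x = x ^ q) (hqq : ∀ t : K, (t ^ q) ^ q = t) (p : ℕ) [Fact p.Prime]
    [CharP K p] {a : Fin 4 → ℤ} (ha : IsRoot cs isCartan a) (hl : bf a a = 4) :
    LR (rgd cs hφ hqq p) a := by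
  have : Finite W := finiteW cs
  refine ⟨ha, fun x hx hc u hu v hv => ?_⟩
  have hc' : 0 ≤ bf x a := (ge_iff cs ha hl).1 hc
  have hu' : (u : GL chevE6.Idx K) ∈ rspan (xG (F := K) hp.inList) {k | k < chevE6.nroots ∧ V chevE6 J k = x} :=
    (show (u : GL chevE6.Idx K) ∈ R chevE6 hp K J (sg φ) x from hu).1
  have hv' : (v : GL chevE6.Idx K) ∈ rspan (xG (F := K) hp.inList) {k | k < chevE6.nroots ∧ V chevE6 J k = a} :=
    (show (v : GL chevE6.Idx K) ∈ R chevE6 hp K J (sg φ) a from hv).1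
  have step : ∀ s ∈ {k | k < chevE6.nroots ∧ V chevE6 J k = a}, ∀ t : K,
      rspan (xG (F := K) hp.inList) {k | k < chevE6.nroots ∧ V chevE6 J k = x} ≤
        Subgroup.centralizer ({xG (F := K) hp.inList s t} : Set (GL chevE6.Idx K)) := by
    rintro s ⟨hs, hsa⟩ t
    refine rspan_le _ fun r hr w => ?_
    rw [Subgroup.mem_centralizer_singleton_iff]
    exact (commute_long hs (by rw [hsa]; exact hl) hr.1 (by rw [hr.2, hsa]; exact hc') w t).eq
  have h1 : rspan (xG (F := K) hp.inList) {k | k < chevE6.nroots ∧ V chevE6 J k = a} ≤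
      Subgroup.centralizer ({(u : GL chevE6.Idx K)} : Set (GL chevE6.Idx K)) := by
    refine rspan_le _ fun s hs t => ?_
    rw [Subgroup.mem_centralizer_singleton_iff]
    exact (Subgroup.mem_centralizer_singleton_iff.1 (step s hs t hu')).symm
  exact Subtype.ext (Subgroup.mem_centralizer_singleton_iff.1 (h1 hv')).symm

end Cfsg.Agent.KFacts.TwESix.Grp
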