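import Cfsg.Agent.KFacts.TwESix.Btw
import Cfsg.Agent.KFacts.RgdEx

/-!
# Pairs of root groups in `²E₆(q)`, from the root group datum (ODD D7, packet [D])

* `LRl R` : `LR R a` for all long roots `a`; `Tr R` : the pairing `X b × X d → X (b + d)` of short orthogonal root groups
  is nondegenerate;
* `comm_135` : for `s` long, `d` short, at 135 degrees, `x ∈ X s`: `⁅x, v⁆ = (m v m⁻¹) z`, `z ∈ X (s + 2d)`, for all
  `v ∈ X d`, where `m = μ(x)` represents the reflection in `s`;
* `comm_sum` : `X b`, `X d` commute modulo `X (b + d)` if `b`, `d` are short and orthogonal.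
-/

set_option autoImplicit false
set_option linter.unusedSectionVars false

namespace Cfsg.Agent.KFacts.TwESix.Pair

open CoxeterSystem Cfsg.Agent.ChevalleyStructure.CoxeterGeom Cfsg.Agent.Tits.Roots Cfsg.Agent.Tits.Core
  Cfsg.Agent.Tits.RootComb Cfsg.Agent.Nodes.Reps Cfsg.Agent.Nodes.BNOf Cfsg.Agent.Nodes.Coroot
  Cfsg.Agent.Nodes.Bruhat Cfsg.Agent.Nodes.OppDec Cfsg.Agent.Nodes.StabComb
  Cfsg.Agent.KFacts.RgdSL Cfsg.Agent.KFacts.RgdTI Cfsg.Agent.KFacts.RgdEx Cfsg.Agent.KFacts.RgdOdd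
  Cfsg.Agent.Nodes.RGDTwE6 Cfsg.Agent.KFacts.TwESix.Comb Cfsg.Agent.KFacts.TwESix.Btw
open scoped commutatorElement

variable {W Y : Type*} [Group W] [Group Y] {cs : CoxeterSystem CoxeterMatrix.F₄ W} {p : ℕ} {T : Subgroup Y}
  {n : Fin 4 → Y} {X : (Fin 4 → ℤ) → Subgroup Y}

/-- `LR` for all long roots. -/
def LRl (R : RGD cs isCartan p T n X) : Prop := ∀ a, IsRoot cs isCartan a → bf a a = 4 → LR R a

/-- The pairing of short orthogonal root groups is nondegenerate. -/
def Tr (_R : RGD cs isCartan p T n X) : Prop :=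
  ∀ b d, IsRoot cs isCartan b → IsRoot cs isCartan d → bf b b = 2 → bf d d = 2 → bf b d = 0 →
    IsRoot cs isCartan (b + d) → ∀ x ∈ X b, x ≠ 1 → ∃ v ∈ X d, ⁅x, v⁆ ≠ 1

/-- elements of an interval with at most two roots -/
theorem mem_two {x y a b : Fin 4 → ℤ} (hz : ∀ z, Btwn cs isCartan x y z → z = a ∨ z = b)
    (hc : ∀ u ∈ X a, ∀ v ∈ X b, u * v = v * u) {g : Y} (hg : g ∈ Nodes.Reps.btw cs isCartan X x y) :
    ∃ u ∈ X a, ∃ v ∈ X b, g = u * v := by
  have h1 : Nodes.Reps.btw cs isCartan X x y ≤ X a ⊔ X b := by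
    unfold Nodes.Reps.btw
    refine iSup_le ?_
    rintro ⟨z, hz'⟩
    rcases hz z hz' with rfl | rfl
    · exact le_sup_left
    · exact le_sup_right
  have h2 : X b ≤ Subgroup.normalizer (X a : Set Y) := by
    intro v hv
    rw [Subgroup.mem_normalizer_iff]
    intro u
    constructor
    · intro hu
      rw [← hc u hu v hv, mul_assoc, mul_inv_cancel, mul_one]
      exact hu
    · intro hu
      have h3 := hc _ hu v hv
      have h4 : v * u = v * u * v⁻¹ * v := by group
      have h5 : u = v * u * v⁻¹ := by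
        apply mul_left_cancel (a := v)
        rw [← h3]; group
      rw [h5]; exact hu
  have h3 : g ∈ ((X a ⊔ X b : Subgroup Y) : Set Y) := h1 hg
  rw [Subgroup.coe_mul_of_right_le_normalizer_left _ _ h2, Set.mem_mul] at h3
  obtain ⟨u, hu, v, hv, e⟩ := h3
  exact ⟨u, hu, v, hv, e.symm⟩

section

variable (R : RGD cs isCartan p T n X) (hL : LRl R)

include R hL

theorem comm_long {x a : Fin 4 → ℤ} (hx : IsRoot cs isCartan x) (ha : IsRoot cs isCartan a) (hl : bf a a = 4)
    (hxa : 0 ≤ bf x a) {u v : Y} (hu : u ∈ X x) (hv : v ∈ X a) : u * v = v * u :=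
  (hL a ha hl).comm x hx ((ge_iff cs ha hl).2 hxa) u hu v hv

theorem ne_of_norm {x y : Fin 4 → ℤ} (h : bf x x ≠ bf y y) : x ≠ y ∧ x ≠ -y := by
  constructor
  · rintro rfl; exact h rfl
  · rintro rfl
    apply h
    rw [bf_neg_left, bf_neg_right, neg_neg]

/-- **The commutators of `X s` and `X d`, `s` long, `d` short, at 135 degrees.** -/
theorem comm_135 {s d : Fin 4 → ℤ} (hs : IsRoot cs isCartan s) (hd : IsRoot cs isCartan d) (hsl : bf s s = 4)
    (hds : bf d d = 2) (hsd : bf s d = -2) {x : Y} (hx : x ∈ X s) (hx1 : x ≠ 1) :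
    ∃ m : Y, (∃ w : W, Rp cs R.nsys w m ∧ ∀ y, rep cs isCartan w y = y - cpr cs isCartan y s • s) ∧
      (∀ v ∈ X d, m * v * m⁻¹ ∈ X (s + d)) ∧
      ∀ v ∈ X d, ∃ z ∈ X (s + d + d), ⁅x, v⁆ = (m * v * m⁻¹) * z := by
  have : Finite W := finiteW cs
  have hs' := (mem_rts cs).1 hs
  have hd' := (mem_rts cs).1 hd
  obtain ⟨hr1, hr2⟩ := sd_roots s hs' hsl d hd' hds hsd
  have hR1 := (mem_rts cs).2 hr1
  have hR2 := (mem_rts cs).2 hr2
  have hd1 : bf d s = -2 := by rw [bf_comm]; exact hsd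
  -- norms
  have n1 : bf (s + d) (s + d) = 2 := by
    rw [bf_add_left, bf_add_right, bf_add_right, hsl, hds, hsd, hd1]; norm_num
  have n2 : bf (s + d + d) (s + d + d) = 4 := by
    simp only [bf_add_left, bf_add_right, hsl, hds, hsd, hd1]; norm_num
  have n3 : bf (s + d) (s + d + d) = 2 := by
    simp only [bf_add_left, bf_add_right, hsl, hds, hsd, hd1]; norm_num
  have n4 : bf d (s + d + d) = 2 := by
    simp only [bf_add_right, hds, hd1]; norm_num
  have n5 : bf (-s) (s + d + d) = 0 := by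
    simp only [bf_neg_left, bf_add_right, hsl, hsd]; norm_num
  have n6 : bf d (-s) = 2 := by rw [bf_neg_right, hd1]; norm_num
  have nl : bf (-s) (-s) = 4 := by rw [bf_neg_left, bf_neg_right, neg_neg, hsl]
  obtain ⟨w, hw, a, ha, b, hb, m, hm, he⟩ := exists_mu R hs hx hx1
  have hwd : rep cs isCartan w d = s + d := by
    rw [hw]
    have := cpr_long cs d hs hsl
    have h1 : cpr cs isCartan d s = -1 := by omega
    rw [h1, neg_one_smul, sub_neg_eq_add, add_comm]
  have hmv : ∀ v ∈ X d, m * v * m⁻¹ ∈ X (s + d) := by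
    intro v hv
    have := R.conj_mem hm hd hv
    rwa [hwd] at this
  refine ⟨m, ⟨w, hm, hw⟩, hmv, fun v hv => ?_⟩
  -- commutations
  have cz : ∀ {u z : Y}, u ∈ X (s + d) → z ∈ X (s + d + d) → u * z = z * u := fun hu hz =>
    comm_long R hL hR1 hR2 n2 (by rw [n3]; norm_num) hu hz
  have cdz : ∀ {u z : Y}, u ∈ X d → z ∈ X (s + d + d) → u * z = z * u := fun hu hz =>
    comm_long R hL hd hR2 n2 (by rw [n4]; norm_num) hu hz
  have caz : ∀ {u z : Y}, u ∈ X (-s) → z ∈ X (s + d + d) → u * z = z * u := fun hu hz =>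
    comm_long R hL hs.neg hR2 n2 (by rw [n5]) hu hz
  have cda : ∀ {u z : Y}, u ∈ X d → z ∈ X (-s) → u * z = z * u := fun hu hz =>
    comm_long R hL hd hs.neg nl (by rw [n6]; norm_num) hu hz
  -- the commutator `⁅x, v⁆ = w z`
  obtain ⟨hne1, hne1'⟩ := ne_of_norm R hL (x := s) (y := d) (by rw [hsl, hds]; norm_num)
  obtain ⟨q, hq, z, hz, hqz⟩ := mem_two (X := X) (fun z hz => by
    obtain ⟨h1, h2⟩ := btwn_spec cs hs hd hne1 hne1' hz
    exact sd1 s hs' hsl d hd' hds hsd z h1 h2) (fun u hu v hv => cz hu hv)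
    (R.comm s d hs hd hne1 hne1' x hx v hv)
  -- `⁅a, w⁆ = v' z'`
  obtain ⟨hne2, hne2'⟩ := ne_of_norm R hL (x := -s) (y := s + d) (by rw [nl, n1]; norm_num)
  obtain ⟨v', hv', z', hz', hvz'⟩ := mem_two (X := X) (fun z hz => by
    obtain ⟨h1, h2⟩ := btwn_spec cs hs.neg hR1 hne2 hne2' hz
    exact sd2 s hs' hsl d hd' hds hsd z h1 h2) (fun u hu v hv => cdz hu hv)
    (R.comm (-s) (s + d) hs.neg hR1 hne2 hne2' a ha q hq)
  -- `⁅w, v⁆ = z''`
  have hne3 : s + d ≠ d ∧ s + d ≠ -d := by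
    constructor
    · intro h
      exact hs.ne_zero (by simpa using h)
    · intro h
      have : bf (s + d) d = bf (-d) d := by rw [h]
      rw [bf_add_left, bf_neg_left, hds, hsd] at this
      norm_num at this
  have hz3 : ⁅q, v⁆ ∈ X (s + d + d) := btw_le_of (X := X) (fun z hz => by
    obtain ⟨h1, h2⟩ := btwn_spec cs hR1 hd hne3.1 hne3.2 hz
    exact sd3 s hs' hsl d hd' hds hsd z h1 h2) (R.comm (s + d) d hR1 hd hne3.1 hne3.2 q hq v hv)
  -- `m v m⁻¹ = v' z' w z v`
  have e1 : m * v * m⁻¹ = v' * z' * q * z * v := by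
    have h1 : b * v * b⁻¹ = v := by rw [← cda hv hb]; group
    have h2 : a * v * a⁻¹ = v := by rw [← cda hv ha]; group
    have h3 : a * z * a⁻¹ = z := by rw [caz ha hz]; group
    calc m * v * m⁻¹ = a * x * (b * v * b⁻¹) * x⁻¹ * a⁻¹ := by rw [he]; group
      _ = a * (⁅x, v⁆ * v) * a⁻¹ := by rw [h1, commutatorElement_def]; group
      _ = (a * q * a⁻¹) * (a * z * a⁻¹) * (a * v * a⁻¹) := by rw [hqz]; group
      _ = (⁅a, q⁆ * q) * z * v := by rw [h2, h3, commutatorElement_def]; group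
      _ = _ := by rw [hvz']
  -- reorder
  have hz4 : z' * ⁅q, v⁆ * z ∈ X (s + d + d) := mul_mem (mul_mem hz' hz3) hz
  have e2 : m * v * m⁻¹ = (v' * v) * (q * (z' * ⁅q, v⁆ * z)) := by
    have h1 : z * v = v * z := (cdz hv hz).symm
    have h2 : z' * q = q * z' := (cz hq hz').symm
    have h3 : q * v = ⁅q, v⁆ * (v * q) := by rw [commutatorElement_def]; group
    have h4 : ⁅q, v⁆ * (v * q) = (v * q) * ⁅q, v⁆ := by
      have h5 := cdz hv hz3
      have h6 := cz hq hz3
      calc ⁅q, v⁆ * (v * q) = (⁅q, v⁆ * v) * q := by group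
        _ = v * (⁅q, v⁆ * q) := by rw [← h5]; group
        _ = _ := by rw [← h6]; group
    have h7 : z' * (v * q) = (v * q) * z' := by
      calc z' * (v * q) = (z' * v) * q := by group
        _ = v * (z' * q) := by rw [← cdz hv hz']; group
        _ = _ := by rw [h2]; group
    calc m * v * m⁻¹ = v' * z' * q * (z * v) := by rw [e1]; group
      _ = v' * z' * (q * v) * z := by rw [h1]; group
      _ = v' * (z' * (v * q)) * ⁅q, v⁆ * z := by rw [h3, h4]; group
      _ = _ := by rw [h7]; group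
  have e3 : v' * v ∈ X d ⊓ RGD.Sup X {s + d, s + d + d} := by
    refine Subgroup.mem_inf.2 ⟨mul_mem hv' hv, ?_⟩
    have : v' * v = m * v * m⁻¹ * (q * (z' * ⁅q, v⁆ * z))⁻¹ := by rw [e2]; group
    rw [this]
    exact mul_mem (RGD.le_Sup (by simp) (hmv v hv))
      (inv_mem (mul_mem (RGD.le_Sup (by simp) hq) (RGD.le_Sup (by simp) hz4)))
  have e4 : X d ⊓ RGD.Sup X {s + d, s + d + d} = ⊥ := by
    have h1 : X d = RGD.Sup X {d} := by
      apply le_antisymm
      · exact RGD.le_Sup (by simp)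
      · refine RGD.Sup_le fun z hz => ?_
        rw [Set.mem_singleton_iff] at hz
        rw [hz]
    have c1 : cpr cs isCartan d (s + d + d) = 1 := by
      have := cpr_long cs d hR2 n2
      omega
    have c2 : cpr cs isCartan (s + d) (s + d + d) = 1 := by
      have := cpr_long cs (s + d) hR2 n2
      omega
    have h2 := inf_eq_half R (ell cs isCartan hR2) (S := {d}) (S' := {s + d, s + d + d}) ?_ ?_ ?_ ?_
    · rw [h1, h2]
      have h3 : ({d} : Set (Fin 4 → ℤ)) ∩ {s + d, s + d + d} = ∅ := by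
        ext y
        simp only [Set.mem_inter_iff, Set.mem_singleton_iff, Set.mem_insert_iff, Set.mem_empty_iff_false,
          iff_false, not_and, not_or]
        rintro rfl
        refine ⟨fun h => hne3.1 h.symm, fun h => ?_⟩
        have : bf y y = bf (s + y + y) (s + y + y) := by rw [← h]
        rw [n2, hds] at this
        norm_num at this
      rw [h3]
      rw [eq_bot_iff]
      exact RGD.Sup_le fun z hz => absurd hz (Set.notMem_empty z)
    · intro y hy
      rw [Set.mem_singleton_iff] at hy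
      subst hy
      refine ⟨hd, ?_⟩
      show 0 < cpr cs isCartan y (s + y + y)
      omega
    · intro y hy
      rw [Set.mem_insert_iff, Set.mem_singleton_iff] at hy
      rcases hy with rfl | rfl
      · refine ⟨hR1, ?_⟩
        show 0 < cpr cs isCartan (s + d) (s + d + d)
        omega
      · refine ⟨hR2, ?_⟩
        show 0 < cpr cs isCartan (s + d + d) (s + d + d)
        rw [cpr_self cs isCartan hR2]; norm_num
    · intro y hy y' hy' z hz
      rw [Set.mem_singleton_iff] at hy hy'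
      rw [hy, hy'] at hz
      rw [Nodes.Unique.btwn_self hd hz]
      rfl
    · have hn := ne_of_norm R hL (x := s + d) (y := s + d + d) (by rw [n1, n2]; norm_num)
      intro y hy y' hy' z hz
      rw [Set.mem_insert_iff, Set.mem_singleton_iff] at hy hy'
      rcases hy with rfl | rfl <;> rcases hy' with rfl | rfl
      · rw [Nodes.Unique.btwn_self hR1 hz]; simp
      · obtain ⟨h3, h4⟩ := btwn_spec cs hR1 hR2 hn.1 hn.2 hz
        exact absurd h4 (sd4 s hs' hsl d hd' hds hsd z h3)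
      · obtain ⟨h3, h4⟩ := btwn_spec cs hR1 hR2 hn.1 hn.2 hz.symm
        exact absurd h4 (sd4 s hs' hsl d hd' hds hsd z h3)
      · rw [Nodes.Unique.btwn_self hR2 hz]; simp
  rw [e4, Subgroup.mem_bot] at e3
  rw [e3, one_mul] at e2
  have e5 : z' * ⁅q, v⁆ * z ∈ X (s + d) ⊓ X (s + d + d) := by
    refine Subgroup.mem_inf.2 ⟨?_, hz4⟩
    have : z' * ⁅q, v⁆ * z = q⁻¹ * (m * v * m⁻¹) := by rw [e2]; group
    rw [this]
    exact mul_mem (inv_mem hq) (hmv v hv)
  rw [X_inf_X R hR1 hR2 (by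
    intro h
    exact hd.ne_zero (by simpa using h)), Subgroup.mem_bot] at e5
  rw [e5, mul_one] at e2
  exact ⟨z, hz, by rw [hqz, e2]⟩

/-- `⁅x, v⁆ ∈ X (b + d)` for `b`, `d` short and orthogonal. -/
theorem comm_sum {b d : Fin 4 → ℤ} (hb : IsRoot cs isCartan b) (hd : IsRoot cs isCartan d) (hbb : bf b b = 2)
    (hdd : bf d d = 2) (hbd : bf b d = 0) {x v : Y} (hx : x ∈ X b) (hv : v ∈ X d) : ⁅x, v⁆ ∈ X (b + d) := by
  have : Finite W := finiteW cs
  have hne : b ≠ d := by
    rintro rfl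
    omega
  have hne' : b ≠ -d := by
    rintro rfl
    rw [bf_neg_left] at hbd
    omega
  refine btw_le_of (X := X) (fun z hz => ?_) (R.comm b d hb hd hne hne' x hx v hv)
  obtain ⟨h1, h2⟩ := btwn_spec cs hb hd hne hne' hz
  exact orth_short b ((mem_rts cs).1 hb) hbb d ((mem_rts cs).1 hd) hdd hbd z h1 h2

end

end Cfsg.Agent.KFacts.TwESix.Pair
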