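import Cfsg.Agent.KFacts.GrIrr
import Cfsg.Agent.KFacts.TwESix.Pair

/-!
# `²E₆(q)`: `Q/Z` is irreducible (K-fact (H4) of ODD D7, packet [D])

`Q = ⟨X b : ⟨b, ρ^∨⟩ ≥ 1⟩`, `P = ⟨X b : ⟨b, ρ^∨⟩ ≥ 0⟩`, `Z = X ρ`.

* `gr` : `Q / Z` is the direct product of the `X b Z / Z`, `⟨b, ρ^∨⟩ = 1`;
* `op` : the operators of the long root groups orthogonal to `ρ`;
* `Z_le_comm : Z ≤ ⁅Q, Q⁆`;
* `irr` : `N ≤ Q` normalised by `P` is `≤ Z` or `= Q`.
-/

set_option autoImplicit false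
set_option linter.unusedSectionVars false

namespace Cfsg.Agent.KFacts.TwESix.Irr

open CoxeterSystem Cfsg.Agent.ChevalleyStructure.CoxeterGeom Cfsg.Agent.Tits.Roots Cfsg.Agent.Tits.Core
  Cfsg.Agent.Tits.RootComb Cfsg.Agent.Nodes.Reps Cfsg.Agent.Nodes.BNOf Cfsg.Agent.Nodes.Coroot
  Cfsg.Agent.Nodes.Bruhat Cfsg.Agent.Nodes.OppDec Cfsg.Agent.Nodes.StabComb
  Cfsg.Agent.KFacts.RgdSL Cfsg.Agent.KFacts.RgdTI Cfsg.Agent.KFacts.RgdEx Cfsg.Agent.KFacts.RgdOdd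
  Cfsg.Agent.Nodes.RGDTwE6 Cfsg.Agent.KFacts.TwESix.Comb Cfsg.Agent.KFacts.TwESix.Btw
  Cfsg.Agent.KFacts.TwESix.Pair Cfsg.Agent.KFacts.GrIrr
open scoped commutatorElement

/-! ### Combinatorics -/

/-- the roots `b` with `⟨b, ρ^∨⟩ = 1` -/
def ph1 : List (Fin 4 → ℤ) := rts.filter (fun x => x 0 = 1)

theorem mem_ph1 {x : Fin 4 → ℤ} : x ∈ ph1 ↔ x ∈ rts ∧ x 0 = 1 := by simp [ph1]

/-- the indices -/
abbrev Idx := {x : Fin 4 → ℤ // x ∈ ph1}

instance : Finite Idx := (List.finite_toSet ph1).to_subtype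

/-- a functional separating the roots of `ph1` -/
def ff : (Fin 4 → ℤ) →+ ℤ where
  toFun x := x 1 + 5 * x 2 + 25 * x 3
  map_zero' := by simp
  map_add' x y := by simp only [Pi.add_apply]; ring

theorem ff_apply (x : Fin 4 → ℤ) : ff x = x 1 + 5 * x 2 + 25 * x 3 := rfl

theorem ff_inj : ∀ x ∈ ph1, ∀ y ∈ ph1, x 1 + 5 * x 2 + 25 * x 3 = y 1 + 5 * y 2 + 25 * y 3 → x = y := by
  decide +kernel

theorem not_bt_rho : ∀ y ∈ ph1, ∀ z ∈ rts, ¬ bt rho y z := by decide +kernel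

theorem btw_ph1 : ∀ x ∈ ph1, ∀ y ∈ ph1, ∀ z ∈ rts, bt x y z →
    z = rho ∨ (bf x x = 4 ∧ bf y y = 4 ∧ 0 ≤ bf x y) := by
  decide +kernel

theorem short_sum : ∀ b ∈ rts, bf b b = 2 → ∃ x ∈ rts, bf x x = 2 ∧ b - x ∈ rts ∧ bf (b - x) (b - x) = 2 ∧
    2 * bf x (b - x) = -2 := by
  decide +kernel

/-- the long roots orthogonal to `ρ` -/
def le0 : List (Fin 4 → ℤ) := rts.filter (fun x => x 0 = 0 ∧ bf x x = 4)

theorem mem_le0 {x : Fin 4 → ℤ} : x ∈ le0 ↔ x ∈ rts ∧ x 0 = 0 ∧ bf x x = 4 := by simp [le0]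

theorem sub_le0 : ∀ b ∈ ph1, ∀ e ∈ le0, bf b e = 2 → b - e ∈ ph1 := by decide +kernel

theorem le0_cases : ∀ b ∈ ph1, ∀ e ∈ le0, bf b e = 2 ∨ bf b e ≤ 0 := by decide +kernel

theorem le0_short : ∀ b ∈ ph1, ∀ e ∈ le0, bf b b = 2 → bf b e = 2 → -e + b + b = rho := by decide +kernel

theorem sep_le0 : ∀ b ∈ ph1, ∀ b' ∈ ph1, b ≠ b' → ∃ e ∈ le0, (bf b e = 2 ∧ bf b' e ≠ 2) ∨
    (bf b e ≠ 2 ∧ bf b' e = 2) := by
  decide +kernel

/-- connectedness of the long roots of `ph1` -/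
theorem conn_ph1 : ∀ b ∈ ph1, bf b b = 4 → ∀ b' ∈ ph1, bf b' b' = 4 →
    ∃ c1 ∈ ph1, bf c1 c1 = 4 ∧ bf b c1 = 2 ∧ (c1 = b' ∨ ∃ c2 ∈ ph1, bf c2 c2 = 4 ∧ bf c1 c2 = 2 ∧ (c2 = b' ∨
      ∃ c3 ∈ ph1, bf c3 c3 = 4 ∧ bf c2 c3 = 2 ∧ c3 = b')) := by
  decide +kernel

theorem adj_le0 : ∀ b ∈ ph1, bf b b = 4 → ∀ c ∈ ph1, bf c c = 4 → bf b c = 2 → b - c ∈ le0 ∧ bf b (b - c) = 2 := by
  decide +kernel

/-- short roots of `ph1` from long ones -/
theorem short_ph1 : ∀ b ∈ ph1, bf b b = 2 → ∃ s ∈ ph1, bf s s = 4 ∧ ∃ d ∈ rts, d 0 = 0 ∧ bf d d = 2 ∧ bf s d = -2 ∧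
    s + d = b ∧ s + d + d ∈ ph1 := by
  decide +kernel

/-- a short root orthogonal to `ρ` and to `b` with a long sum -/
theorem orth_ph1 : ∀ b ∈ ph1, bf b b = 2 → ∃ d ∈ rts, d 0 = 0 ∧ bf d d = 2 ∧ bf b d = 0 ∧ b + d ∈ ph1 ∧
    bf (b + d) (b + d) = 4 := by
  decide +kernel

theorem a2_ph1 : ∀ b ∈ ph1, bf b b = 4 → rho - b ∈ ph1 ∧ bf (rho - b) (rho - b) = 4 ∧ 2 * bf b (rho - b) = -4 := by
  decide +kernel

variable {W Y : Type*} [Group W] [Group Y] {cs : CoxeterSystem CoxeterMatrix.F₄ W} {p : ℕ} {T : Subgroup Y}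
  {n : Fin 4 → Y} {X : (Fin 4 → ℤ) → Subgroup Y}

theorem root_ph1 {x : Fin 4 → ℤ} (hx : x ∈ ph1) : IsRoot cs isCartan x := (mem_rts cs).2 (mem_ph1.1 hx).1

/-- `Q` -/
def QQ (cs : CoxeterSystem CoxeterMatrix.F₄ W) (X : (Fin 4 → ℤ) → Subgroup Y) : Subgroup Y :=
  RGD.Sup X (Rad cs isCartan rho)

/-- `P` -/
def PP (cs : CoxeterSystem CoxeterMatrix.F₄ W) (X : (Fin 4 → ℤ) → Subgroup Y) : Subgroup Y :=
  RGD.Sup X (Ge cs isCartan rho)

/-- the root groups of `ph1` -/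
def XX (X : (Fin 4 → ℤ) → Subgroup Y) (b : Idx) : Subgroup Y := X b.1

theorem mem_Rad {x : Fin 4 → ℤ} : x ∈ Rad cs isCartan rho ↔ x = rho ∨ x ∈ ph1 := by
  constructor
  · rintro ⟨h1, h2⟩
    rw [cpr_rho] at h2
    have h3 := (mem_rts cs).1 h1
    rcases ge_one x h3 h2 with h | h
    · exact Or.inl h
    · exact Or.inr (mem_ph1.2 ⟨h3, h⟩)
  · rintro (rfl | h)
    · refine ⟨rho_root cs, ?_⟩
      rw [cpr_rho]; decide
    · refine ⟨root_ph1 h, ?_⟩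
      rw [cpr_rho, (mem_ph1.1 h).2]

theorem mem_Ge {x : Fin 4 → ℤ} : x ∈ Ge cs isCartan rho ↔ IsRoot cs isCartan x ∧ 0 ≤ x 0 := by
  unfold Ge
  rw [Set.mem_setOf_eq, cpr_rho]

theorem XX_le (b : Idx) : XX X b ≤ QQ cs X := RGD.le_Sup (mem_Rad.2 (Or.inr b.2))

theorem Z_le : X rho ≤ QQ cs X := RGD.le_Sup (mem_Rad.2 (Or.inl rfl))

theorem QQ_le_PP : QQ cs X ≤ PP cs X := RGD.Sup_mono fun _ hx => ⟨hx.1, zero_le_one.trans hx.2⟩

/-- the closed sets -/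
def AA (cs : CoxeterSystem CoxeterMatrix.F₄ W) (c ε : ℤ) : Set (Fin 4 → ℤ) :=
  {x | IsRoot cs isCartan x ∧ (x = rho ∨ (x ∈ ph1 ∧ c ≤ ε * ff x))}

theorem AA_pos [Finite W] {c ε : ℤ} : ∀ x ∈ AA cs c ε, IsRoot cs isCartan x ∧ 0 < ell cs isCartan (rho_root cs) x := by
  rintro x ⟨h1, h2⟩
  refine ⟨h1, ?_⟩
  show 0 < cpr cs isCartan x rho
  rw [cpr_rho]
  rcases h2 with rfl | ⟨h2, -⟩
  · decide
  · rw [(mem_ph1.1 h2).2]; norm_num

theorem btwn_zero {x y z : Fin 4 → ℤ} (hz : Btwn cs isCartan x y z) (hx : 1 ≤ x 0) (hy : 0 ≤ y 0) : 1 ≤ z 0 := by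
  obtain ⟨-, m, a, b, hm, ha, hb, he⟩ := hz
  have h1 := congrFun he 0
  simp only [Pi.add_apply, Pi.smul_apply, smul_eq_mul] at h1
  by_contra h2
  have h3 : m * z 0 ≤ 0 := mul_nonpos_of_nonneg_of_nonpos hm.le (by omega)
  have h4 : 0 < a * x 0 := mul_pos ha (by omega)
  have h5 : 0 ≤ b * y 0 := mul_nonneg hb.le hy
  omega

theorem AA_closed {c ε : ℤ} : Nodes.Unique.Closed cs isCartan (AA cs c ε) := by
  have : Finite W := finiteW cs
  rintro x ⟨hx, hx'⟩ y ⟨hy, hy'⟩ z hz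
  have x0 : 1 ≤ x 0 := by
    rcases hx' with rfl | ⟨h, -⟩
    · decide
    · exact (mem_ph1.1 h).2.ge
  have y0 : 1 ≤ y 0 := by
    rcases hy' with rfl | ⟨h, -⟩
    · decide
    · exact (mem_ph1.1 h).2.ge
  have z0 := btwn_zero hz x0 (by omega)
  have hz' := (mem_rts cs).1 hz.1
  refine ⟨hz.1, ?_⟩
  rcases ge_one z hz' z0 with h | h
  · exact Or.inl h
  right
  have hzp : z ∈ ph1 := mem_ph1.2 ⟨hz', h⟩
  refine ⟨hzp, ?_⟩
  by_cases hxy : x = y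
  · subst hxy
    have := Nodes.Unique.btwn_self hx hz
    subst this
    rcases hx' with rfl | ⟨-, h⟩
    · exact absurd h (by decide)
    · exact h
  have hxy' : x ≠ -y := by
    rintro rfl
    have : (-y) 0 = -(y 0) := rfl
    omega
  obtain ⟨h1, h2, h3, h4⟩ := btwn_spec cs hx hy hxy hxy' hz
  obtain ⟨-, h2', h3', h4'⟩ := btwn_spec cs hy hx (Ne.symm hxy) (fun h => hxy' (by rw [h, neg_neg])) hz.symm
  rcases hx' with rfl | ⟨hxp, hxf⟩
  · rcases hy' with rfl | ⟨hyp, -⟩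
    · exact absurd rfl hxy
    · exact absurd ⟨h2, h3, h4⟩ (not_bt_rho y hyp z hz')
  rcases hy' with rfl | ⟨hyp, hyf⟩
  · exact absurd ⟨h2', h3', h4'⟩ (not_bt_rho x hxp z hz')
  -- both in `ph1`
  have e0 := congrFun h4 0
  simp only [Pi.add_apply, Pi.smul_apply, smul_eq_mul, h, (mem_ph1.1 hxp).2, (mem_ph1.1 hyp).2, mul_one] at e0
  have e1 := congrArg (fun v => ε * ff v) h4
  simp only [map_add, map_zsmul, smul_eq_mul] at e1
  have e2 : dd x y * (ε * ff z) = ca x y z * (ε * ff x) + ca y x z * (ε * ff y) := by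
    linear_combination e1
  by_contra hlt
  push Not at hlt
  have hD : 0 < dd x y := by omega
  have i1 : ca x y z * c ≤ ca x y z * (ε * ff x) := mul_le_mul_of_nonneg_left hxf h2.le
  have i2 : ca y x z * c ≤ ca y x z * (ε * ff y) := mul_le_mul_of_nonneg_left hyf h3.le
  have i3 : dd x y * (ε * ff z) < dd x y * c := mul_lt_mul_of_pos_left hlt hD
  have i4 : dd x y * c = ca x y z * c + ca y x z * c := by rw [e0]; ring
  omega

section

variable (R : RGD cs isCartan p T n X) (hL : LRl R)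

include R hL

/-- the root groups are abelian -/
theorem comm_X {b : Fin 4 → ℤ} (hb : IsRoot cs isCartan b) {x y : Y} (hx : x ∈ X b) (hy : y ∈ X b) :
    x * y = y * x := by
  have : Finite W := finiteW cs
  rcases norm cs hb with h | h
  · exact comm_long R hL hb hb h (by rw [h]; norm_num) hx hy
  · obtain ⟨s, hs, h1, h2, h3, h4⟩ := short_sum b ((mem_rts cs).1 hb) h
    have hA : A2 cs isCartan s (b - s) := a2 cs ((mem_rts cs).2 hs) ((mem_rts cs).2 h2) (by rw [h1, h3]) (by omega)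
    have e : s + (b - s) = b := by abel
    exact hA.comm_self R (by rw [e]; exact hx) (by rw [e]; exact hy)

theorem comm_ph1 {b b' : Fin 4 → ℤ} (hb : b ∈ ph1) (hb' : b' ∈ ph1) {x y : Y} (hx : x ∈ X b) (hy : y ∈ X b') :
    ⁅x, y⁆ ∈ X rho := by
  have : Finite W := finiteW cs
  have hbr : IsRoot cs isCartan b := root_ph1 hb
  have hbr' : IsRoot cs isCartan b' := root_ph1 hb'
  by_cases hbb : b = b'
  · subst hbb
    rw [commutatorElement_eq_one_iff_mul_comm.2 (comm_X R hL hbr hx hy)]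
    exact one_mem _
  by_cases h1 : bf b b = 4 ∧ bf b' b' = 4 ∧ 0 ≤ bf b b'
  · rw [commutatorElement_eq_one_iff_mul_comm.2 (comm_long R hL hbr hbr' h1.2.1 h1.2.2 hx hy)]
    exact one_mem _
  have hne : b ≠ -b' := by
    rintro rfl
    have h2 := (mem_ph1.1 hb).2
    have h3 := (mem_ph1.1 hb').2
    have : (-b') 0 = -(b' 0) := rfl
    omega
  refine btw_le_of (X := X) (fun z hz => ?_) (R.comm b b' hbr hbr' hbb hne x hx y hy)
  obtain ⟨h2, h3⟩ := btwn_spec cs hbr hbr' hbb hne hz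
  exact (btw_ph1 b hb b' hb' z h2 h3).resolve_right h1

/-- `Z` is central in `P` -/
theorem Z_central {z g : Y} (hz : z ∈ X rho) (hg : g ∈ PP cs X) : z * g = g * z := by
  have : Finite W := finiteW cs
  exact ((hL rho (rho_root cs) rho_long).comm' hg hz).symm

theorem Z_comm_Q {z g : Y} (hz : z ∈ X rho) (hg : g ∈ QQ cs X) : z * g = g * z :=
  Z_central R hL hz (QQ_le_PP hg)

/-- `Q/Z` is abelian -/
theorem comm_QQ {x y : Y} (hx : x ∈ QQ cs X) (hy : y ∈ QQ cs X) : ⁅x, y⁆ ∈ X rho := by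
  have key : ∀ y ∈ QQ cs X, (∀ b ∈ Rad cs isCartan rho, ∀ x ∈ X b, ⁅x, y⁆ ∈ X rho) →
      ∀ x ∈ QQ cs X, ⁅x, y⁆ ∈ X rho := by
    intro y hy h
    let K : Subgroup Y :=
      { carrier := {x | x ∈ QQ cs X ∧ ⁅x, y⁆ ∈ X rho}
        one_mem' := ⟨one_mem _, by simp [commutatorElement_def]⟩
        mul_mem' := by
          rintro a b ⟨ha, ha'⟩ ⟨hb, hb'⟩
          refine ⟨mul_mem ha hb, ?_⟩
          have e : ⁅a * b, y⁆ = ⁅b, y⁆ * ⁅a, y⁆ := by
            have e1 : ⁅a * b, y⁆ = (a * ⁅b, y⁆) * a⁻¹ * ⁅a, y⁆ := by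
              simp only [commutatorElement_def]; group
            rw [e1, ← Z_comm_Q R hL hb' ha]; group
          rw [e]
          exact mul_mem hb' ha'
        inv_mem' := by
          rintro a ⟨ha, ha'⟩
          refine ⟨inv_mem ha, ?_⟩
          have e : ⁅a⁻¹, y⁆ = ⁅a, y⁆⁻¹ := by
            have e1 : ⁅a⁻¹, y⁆ = a⁻¹ * ⁅a, y⁆⁻¹ * a := by
              simp only [commutatorElement_def]; group
            rw [e1, mul_assoc, Z_comm_Q R hL (inv_mem ha') ha]; group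
          rw [e]
          exact inv_mem ha' }
    have h1 : QQ cs X ≤ K := RGD.Sup_le fun b hb x hx => ⟨RGD.le_Sup hb hx, h b hb x hx⟩
    exact fun x hx => (h1 hx).2
  have h1 : ∀ b ∈ Rad cs isCartan rho, ∀ y ∈ X b, ∀ x ∈ QQ cs X, ⁅x, y⁆ ∈ X rho := by
    intro b hb y hy
    refine key y (RGD.le_Sup hb hy) fun b' hb' x hx => ?_
    rcases mem_Rad.1 hb' with rfl | h2
    · rw [commutatorElement_eq_one_iff_mul_comm.2 (Z_comm_Q R hL hx (RGD.le_Sup hb hy))]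
      exact one_mem _
    · rcases mem_Rad.1 hb with rfl | h3
      · rw [commutatorElement_eq_one_iff_mul_comm.2 (Z_comm_Q R hL hy (RGD.le_Sup hb' hx)).symm]
        exact one_mem _
      · exact comm_ph1 R hL h2 h3 hx hy
  refine key y hy (fun b hb x hx => ?_) x hx
  rw [← commutatorElement_inv]
  exact inv_mem (h1 b hb x hx y hy)

theorem conj_mem_of {H : Subgroup Y} (hZ : X rho ≤ H) (hH : H ≤ QQ cs X) {x g : Y} (hx : x ∈ H) (hg : g ∈ QQ cs X) :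
    g * x * g⁻¹ ∈ H := by
  have h1 := hZ (comm_QQ R hL hg (hH hx))
  rw [commutatorElement_def] at h1
  have : g * x * g⁻¹ = g * x * g⁻¹ * x⁻¹ * x := by group
  rw [this]
  exact H.mul_mem h1 hx

theorem AA_le (c ε : ℤ) : RGD.Sup X (AA cs c ε) ≤ QQ cs X := by
  refine RGD.Sup_mono fun x hx => mem_Rad.2 ?_
  exact hx.2.imp id fun h => h.1

theorem rho_AA (c ε : ℤ) : X rho ≤ RGD.Sup X (AA cs c ε) := RGD.le_Sup ⟨rho_root cs, Or.inl rfl⟩

theorem AA_inf {c c' ε ε' : ℤ} (h : AA cs c ε ∩ AA cs c' ε' ⊆ {rho}) :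
    RGD.Sup X (AA cs c ε) ⊓ RGD.Sup X (AA cs c' ε') ≤ X rho := by
  have : Finite W := finiteW cs
  rw [inf_eq_half R (ell cs isCartan (rho_root cs)) AA_pos AA_pos AA_closed AA_closed]
  refine RGD.Sup_le fun z hz => ?_
  have h1 := h hz
  rw [Set.mem_singleton_iff] at h1
  rw [h1]

/-- **`Q / Z` is the direct product of the `X b Z / Z`.** -/
theorem gr : Gr (X rho) (QQ cs X) (XX X) where
  Z_le := Z_le
  X_le := XX_le
  gen := by
    refine RGD.Sup_le fun z hz => ?_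
    rcases mem_Rad.1 hz with rfl | h
    · exact Z_le_QS
    · exact X_le_QS (X := XX X) (b := ⟨z, h⟩) (Set.mem_univ _)
  comm x hx y hy := comm_QQ R hL hx hy
  Zc z hz x hx := Z_comm_Q R hL hz hx
  ind := by
    have hfin : Finite W := finiteW cs
    intro b x hx hxo
    set c := ff b.1 with hc
    -- split
    have h1 : OO (X rho) (XX X) b ≤ RGD.Sup X (AA cs (c + 1) 1) ⊔ RGD.Sup X (AA cs (1 - c) (-1)) := by
      refine QS_le (le_trans (rho_AA R hL _ _) le_sup_left) fun b' hb' => ?_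
      have hne : ff b'.1 ≠ c := by
        intro h
        apply hb'
        exact Subtype.ext (ff_inj _ b'.2 _ b.2 h)
      rcases lt_or_gt_of_ne hne with h | h
      · refine le_trans ?_ le_sup_right
        exact RGD.le_Sup ⟨root_ph1 b'.2, Or.inr ⟨b'.2, by omega⟩⟩
      · refine le_trans ?_ le_sup_left
        exact RGD.le_Sup ⟨root_ph1 b'.2, Or.inr ⟨b'.2, by omega⟩⟩
    have h2 : RGD.Sup X (AA cs (1 - c) (-1)) ≤ Subgroup.normalizer (RGD.Sup X (AA cs (c + 1) 1) : Set Y) := by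
      intro g hg
      have hg' := AA_le R hL _ _ hg
      rw [Subgroup.mem_normalizer_iff]
      intro v
      constructor
      · intro hv
        exact conj_mem_of R hL (rho_AA R hL _ _) (AA_le R hL _ _) hv hg'
      · intro hv
        have := conj_mem_of R hL (rho_AA R hL _ _) (AA_le R hL _ _) hv (inv_mem hg')
        have e : g⁻¹ * (g * v * g⁻¹) * g⁻¹⁻¹ = v := by group
        rwa [e] at this
    have h3 : x ∈ ((RGD.Sup X (AA cs (c + 1) 1) ⊔ RGD.Sup X (AA cs (1 - c) (-1)) : Subgroup Y) : Set Y) := h1 hxo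
    rw [Subgroup.coe_mul_of_right_le_normalizer_left _ _ h2, Set.mem_mul] at h3
    obtain ⟨s1, hs1, s2, hs2, e⟩ := h3
    have m1 : RGD.Sup X (AA cs (c + 1) 1) ≤ RGD.Sup X (AA cs c 1) :=
      RGD.Sup_mono fun y hy => ⟨hy.1, hy.2.imp id fun h => ⟨h.1, by have := h.2; omega⟩⟩
    have hxc : x ∈ RGD.Sup X (AA cs c 1) :=
      RGD.le_Sup (X := X) (S := AA cs c 1) ⟨root_ph1 b.2, Or.inr ⟨b.2, by omega⟩⟩ hx
    have hxc' : x ∈ RGD.Sup X (AA cs (-c) (-1)) :=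
      RGD.le_Sup (X := X) (S := AA cs (-c) (-1)) ⟨root_ph1 b.2, Or.inr ⟨b.2, by omega⟩⟩ hx
    have h4 : s2 ∈ X rho := by
      refine AA_inf R hL (c := c) (c' := 1 - c) (ε := 1) (ε' := -1) ?_ (Subgroup.mem_inf.2 ⟨?_, hs2⟩)
      · rintro y ⟨⟨-, h5⟩, ⟨-, h6⟩⟩
        rcases h5 with h5 | ⟨-, h5⟩
        · exact h5
        rcases h6 with h6 | ⟨-, h6⟩
        · exact h6
        omega
      · have : s2 = s1⁻¹ * x := by rw [← e]; group
        rw [this]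
        exact mul_mem (inv_mem (m1 hs1)) hxc
    have h5 : x ∈ X rho := by
      refine AA_inf R hL (c := c + 1) (c' := -c) (ε := 1) (ε' := -1) ?_ (Subgroup.mem_inf.2 ⟨?_, hxc'⟩)
      · rintro y ⟨⟨-, h5⟩, ⟨-, h6⟩⟩
        rcases h5 with h5 | ⟨-, h5⟩
        · exact h5
        rcases h6 with h6 | ⟨-, h6⟩
        · exact h6
        omega
      · rw [← e]
        exact mul_mem hs1 (rho_AA R hL _ _ h4)
    have h6 : x ∈ X b.1 ⊓ X rho := Subgroup.mem_inf.2 ⟨hx, h5⟩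
    rw [X_inf_X R (root_ph1 b.2) (rho_root cs) (by
      intro h
      have := (mem_ph1.1 b.2).2
      rw [h] at this
      exact absurd this (by decide)), Subgroup.mem_bot] at h6
    exact h6

/-- `P` normalises `Q` -/
theorem PP_le_normalizer : PP cs X ≤ Subgroup.normalizer (QQ cs X : Set Y) := by
  have : Finite W := finiteW cs
  refine RGD.Sup_le fun e he => ?_
  refine R.le_normalizer he.1 fun y hy => ⟨hy.1, ?_⟩
  have he0 : 0 ≤ e 0 := (mem_Ge.1 he).2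
  have hy0 : 1 ≤ y 0 := by
    have := hy.2
    rwa [cpr_rho] at this
  right
  refine ⟨?_, fun z hz => ⟨hz.1, ?_⟩⟩
  · rintro rfl
    have : (-y) 0 = -(y 0) := rfl
    omega
  · rw [cpr_rho]
    exact btwn_zero hz.symm hy0 he0

end

/-- The operator. -/
def cc {e : Fin 4 → ℤ} (he : e ∈ le0) (b : Idx) : Option Idx :=
  if h : bf b.1 e = 2 then some ⟨b.1 - e, sub_le0 b.1 b.2 e he h⟩ else none

theorem cc_eq_some {e : Fin 4 → ℤ} {he : e ∈ le0} {b d : Idx} (h : cc he b = some d) :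
    bf b.1 e = 2 ∧ d.1 = b.1 - e := by
  unfold cc at h
  split at h
  · next h1 =>
    refine ⟨h1, ?_⟩
    rw [← Option.some.inj h]
  · exact absurd h (by simp)

theorem cc_ne_none {e : Fin 4 → ℤ} {he : e ∈ le0} {b : Idx} : cc he b ≠ none ↔ bf b.1 e = 2 := by
  unfold cc
  split
  · next h => simp [h]
  · next h => simp [h]

section

variable (R : RGD cs isCartan p T n X) (hL : LRl R)

include R hL

/-- The operators of the long root groups orthogonal to `ρ`. -/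
theorem op {e : Fin 4 → ℤ} (he : e ∈ le0) {g : Y} (hg : g ∈ X (-e)) (hg1 : g ≠ 1) :
    Op (X rho) (QQ cs X) (XX X) g (cc he) := by
  have : Finite W := finiteW cs
  obtain ⟨her, he0, hel⟩ := mem_le0.1 he
  have her' := (mem_rts cs).2 her
  have hgP : g ∈ PP cs X := by
    refine RGD.le_Sup (mem_Ge.2 ⟨her'.neg, ?_⟩) hg
    have : (-e) 0 = -(e 0) := rfl
    omega
  have nl : bf (-e) (-e) = 4 := by rw [bf_neg_left, bf_neg_right, neg_neg, hel]
  refine ⟨?_, ?_, ?_, ?_, ?_⟩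
  · intro b b' d h1 h2
    have h3 := (cc_eq_some h1).2
    have h4 := (cc_eq_some h2).2
    rw [h3] at h4
    exact Subtype.ext (sub_left_injective h4)
  · intro x hx
    exact (Subgroup.mem_normalizer_iff.1 (PP_le_normalizer R hL hgP) x).1 hx
  · intro z hz
    rw [← Z_central R hL hz hgP, mul_inv_cancel_right]
    exact hz
  · intro b d hbd x hx
    obtain ⟨h1, h2⟩ := cc_eq_some hbd
    have hxQ : x ∈ QQ cs X := XX_le b hx
    have hbr := root_ph1 (cs := cs) b.2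
    have hed : -e + b.1 = d.1 := by rw [h2]; abel
    have key : ∀ y ∈ X d.1, ∀ z ∈ X rho, ⁅g, x⁆ = y * z → ∃ z' ∈ X rho, dl g x = y * z' := by
      intro y hy z hz hyz
      have hyQ : y ∈ QQ cs X := XX_le d hy
      refine ⟨z * ⁅(y * z)⁻¹, x⁻¹⁆, mul_mem hz (comm_QQ R hL (inv_mem (mul_mem hyQ (Z_le hz))) (inv_mem hxQ)), ?_⟩
      have e1 : dl g x = x⁻¹ * ⁅g, x⁆ * x := by unfold dl; rw [commutatorElement_def]; group
      rw [e1, hyz, commutatorElement_def]; group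
    rcases norm cs hbr with h3 | h3
    · have hA : A2 cs isCartan (-e) b.1 := a2 cs her'.neg hbr (by rw [nl, h3]) (by
        rw [bf_neg_left, bf_comm e, h1, nl]; norm_num)
      have h4 := hA.comm_mem R hg hx
      rw [hed] at h4
      obtain ⟨z', hz', e1⟩ := key _ h4 1 (one_mem _) (by rw [mul_one])
      exact ⟨_, h4, z', hz', e1, fun hx1 => hA.comm_ne_one R hg hg1 hx hx1⟩
    · have hsd : bf (-e) b.1 = -2 := by rw [bf_neg_left, bf_comm, h1]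
      obtain ⟨m, -, hm2, hm3⟩ := comm_135 R hL her'.neg hbr nl h3 hsd hg hg1
      obtain ⟨z, hz, hc⟩ := hm3 x hx
      have h4 := hm2 x hx
      rw [hed] at h4
      rw [le0_short b.1 b.2 e he h3 h1] at hz
      obtain ⟨z', hz', e1⟩ := key _ h4 z hz hc
      refine ⟨_, h4, z', hz', e1, fun hx1 h5 => hx1 ?_⟩
      have : x = m⁻¹ * (m * x * m⁻¹) * m := by group
      rw [this, h5]; group
  · intro b hb x hx
    have hbr := root_ph1 (cs := cs) b.2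
    have h1 : bf b.1 e ≤ 0 := by
      rcases le0_cases b.1 b.2 e he with h | h
      · exact absurd hb (cc_ne_none.2 h)
      · exact h
    have h2 : x * g = g * x := comm_long R hL hbr her'.neg nl (by rw [bf_neg_right]; omega) hx hg
    have : dl g x = 1 := by
      unfold dl
      rw [← h2]; group
    rw [this]
    exact one_mem _

theorem exists_ne {x : Fin 4 → ℤ} (hx : IsRoot cs isCartan x) : ∃ a ∈ X x, a ≠ 1 := by
  have : Finite W := finiteW cs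
  have := X_ne_bot R hx
  rw [Subgroup.ne_bot_iff_exists_ne_one] at this
  obtain ⟨⟨a, ha⟩, h1⟩ := this
  exact ⟨a, ha, fun h2 => h1 (Subtype.ext h2)⟩

/-- `Z ≤ ⁅Q, Q⁆` -/
theorem Z_le_comm : X rho ≤ ⁅QQ cs X, QQ cs X⁆ := by
  have : Finite W := finiteW cs
  have hb : (![1, 0, 0, 0] : Fin 4 → ℤ) ∈ ph1 := by decide +kernel
  have hbl : bf (![1, 0, 0, 0] : Fin 4 → ℤ) ![1, 0, 0, 0] = 4 := by decide +kernel
  generalize (![1, 0, 0, 0] : Fin 4 → ℤ) = b at hb hbl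
  obtain ⟨h1, h2, h3⟩ := a2_ph1 b hb hbl
  have hA : A2 cs isCartan b (rho - b) := a2 cs (root_ph1 hb) (root_ph1 h1) (by rw [hbl, h2]) (by rw [h3, hbl])
  obtain ⟨u, hu, hu1⟩ := exists_ne R hL (root_ph1 (cs := cs) hb)
  intro w hw
  obtain ⟨v, hv, e⟩ := hA.comm_surj R hu hu1 (w := w) (by
    have : b + (rho - b) = rho := by abel
    rw [this]; exact hw)
  rw [← e]
  exact Subgroup.commutator_mem_commutator (XX_le ⟨b, hb⟩ hu) (XX_le ⟨_, h1⟩ hv)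

/-- one step from a long root -/
theorem step {N : Subgroup Y} (hN : ∀ g ∈ PP cs X, ∀ x ∈ N, g * x * g⁻¹ ∈ N) {b c : Fin 4 → ℤ} (hb : b ∈ ph1)
    (hbl : bf b b = 4) (hc : c ∈ ph1) (hcl : bf c c = 4) (hbc : bf b c = 2) {x z : Y} (hx : x ∈ X b) (hx1 : x ≠ 1)
    (hz : z ∈ X rho) (hxz : x * z ∈ N) : X c ≤ N := by
  have : Finite W := finiteW cs
  obtain ⟨he, hbe⟩ := adj_le0 b hb hbl c hc hcl hbc
  obtain ⟨her, he0, hel⟩ := mem_le0.1 he
  have her' : IsRoot cs isCartan (b - c) := (mem_rts cs).2 her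
  have hA : A2 cs isCartan b (-(b - c)) := a2 cs (root_ph1 hb) her'.neg (by
    rw [bf_neg_left, bf_neg_right, neg_neg, hel, hbl]) (by rw [bf_neg_right, hbe, hbl]; norm_num)
  intro w hw
  obtain ⟨g, hg, e⟩ := hA.comm_surj R (inv_mem hx) (inv_ne_one.2 hx1) (w := w) (by
    have : b + -(b - c) = c := by abel
    rw [this]; exact hw)
  have hgP : g ∈ PP cs X := by
    refine RGD.le_Sup (mem_Ge.2 ⟨her'.neg, ?_⟩) hg
    have : (-(b - c)) 0 = -((b - c) 0) := rfl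
    omega
  have h1 := mul_mem (inv_mem hxz) (hN g hgP _ hxz)
  have h2 : (x * z)⁻¹ * (g * (x * z) * g⁻¹) = ⁅x⁻¹, g⁆ := by
    have h3 := Z_central R hL hz hgP
    have h4 : z * x⁻¹ = x⁻¹ * z := Z_comm_Q R hL hz (inv_mem (XX_le ⟨b, hb⟩ hx))
    have h5 : z * g⁻¹ = g⁻¹ * z := Z_central R hL hz (inv_mem hgP)
    have h6 := Z_central R hL hz (QQ_le_PP (XX_le ⟨b, hb⟩ hx))
    calc (x * z)⁻¹ * (g * (x * z) * g⁻¹) = z⁻¹ * (x⁻¹ * g * x) * (z * g⁻¹) := by group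
      _ = z⁻¹ * (x⁻¹ * g * x) * (g⁻¹ * z) := by rw [h5]
      _ = z⁻¹ * (⁅x⁻¹, g⁆ * z) := by rw [commutatorElement_def]; group
      _ = z⁻¹ * (z * ⁅x⁻¹, g⁆) := by
        rw [← Z_central R hL hz (QQ_le_PP (XX_le ⟨c, hc⟩ (by
          show ⁅x⁻¹, g⁆ ∈ X c
          rw [e]; exact hw)))]
      _ = _ := by group
  rw [h2, e] at h1
  exact h1

/-- all long roots -/
theorem all_long {N : Subgroup Y} (hN : ∀ g ∈ PP cs X, ∀ x ∈ N, g * x * g⁻¹ ∈ N) {b : Fin 4 → ℤ} (hb : b ∈ ph1)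
    (hbl : bf b b = 4) {x z : Y} (hx : x ∈ X b) (hx1 : x ≠ 1) (hz : z ∈ X rho) (hxz : x * z ∈ N) {b' : Fin 4 → ℤ}
    (hb' : b' ∈ ph1) (hbl' : bf b' b' = 4) : X b' ≤ N := by
  have full : ∀ b ∈ ph1, bf b b = 4 → X b ≤ N → ∀ c ∈ ph1, bf c c = 4 → bf b c = 2 → X c ≤ N := by
    intro b hb hbl hbN c hc hcl hbc
    obtain ⟨u, hu, hu1⟩ := exists_ne R hL (root_ph1 (cs := cs) hb)
    exact step R hL hN hb hbl hc hcl hbc hu hu1 (one_mem _) (by rw [mul_one]; exact hbN hu)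
  obtain ⟨c1, h1, h1', h1'', h2⟩ := conn_ph1 b hb hbl b' hb' hbl'
  have k1 := step R hL hN hb hbl h1 h1' h1'' hx hx1 hz hxz
  rcases h2 with rfl | ⟨c2, h2, h2', h2'', h3⟩
  · exact k1
  have k2 := full c1 h1 h1' k1 c2 h2 h2' h2''
  rcases h3 with rfl | ⟨c3, h3, h3', h3'', rfl⟩
  · exact k2
  exact full c2 h2 h2' k2 c3 h3 h3' h3''

/-- short roots from long ones -/
theorem all_short {N : Subgroup Y} (hN : ∀ g ∈ PP cs X, ∀ x ∈ N, g * x * g⁻¹ ∈ N)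
    (hl : ∀ b ∈ ph1, bf b b = 4 → X b ≤ N) {b : Fin 4 → ℤ} (hb : b ∈ ph1) (hbs : bf b b = 2) : X b ≤ N := by
  have : Finite W := finiteW cs
  obtain ⟨s, hs, hsl, d, hd, hd0, hdd, hsd, rfl, h2⟩ := short_ph1 b hb hbs
  have hl2 : bf (s + d + d) (s + d + d) = 4 := by
    simp only [bf_add_left, bf_add_right, hsl, hdd, hsd, bf_comm d s]; norm_num
  have hdr : IsRoot cs isCartan d := (mem_rts cs).2 hd
  obtain ⟨u, hu, hu1⟩ := exists_ne R hL (root_ph1 (cs := cs) hs)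
  obtain ⟨m, ⟨w, hmw, hw⟩, -, hm3⟩ := comm_135 R hL (root_ph1 (cs := cs) hs) hdr hsl hdd hsd hu hu1
  have hwd : rep cs isCartan w d = s + d := by
    rw [hw]
    have := cpr_long cs d (root_ph1 (cs := cs) hs) hsl
    rw [bf_comm] at this
    have h1 : cpr cs isCartan d s = -1 := by omega
    rw [h1, neg_one_smul, sub_neg_eq_add, add_comm]
  have hwd' : rep cs isCartan w⁻¹ (s + d) = d := by rw [← hwd, rep_inv_apply]
  intro y hy
  have hv : m⁻¹ * y * m ∈ X d := by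
    have := R.conj_mem' hmw (root_ph1 (cs := cs) hb) hy
    rwa [hwd'] at this
  obtain ⟨z, hz, e⟩ := hm3 _ hv
  have hvP : m⁻¹ * y * m ∈ PP cs X := RGD.le_Sup (mem_Ge.2 ⟨hdr, hd0.ge⟩) hv
  have h3 : ⁅u, m⁻¹ * y * m⁆ ∈ N := by
    have huN := hl s hs hsl hu
    rw [commutatorElement_def]
    have h4 := mul_mem huN (hN _ hvP _ (inv_mem huN))
    have : u * (m⁻¹ * y * m) * u⁻¹ * (m⁻¹ * y * m)⁻¹ = u * (m⁻¹ * y * m * u⁻¹ * (m⁻¹ * y * m)⁻¹) := by group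
    rw [this]; exact h4
  rw [e] at h3
  have h4 := mul_mem h3 (inv_mem (hl _ h2 hl2 hz))
  have : m * (m⁻¹ * y * m) * m⁻¹ * z * z⁻¹ = y := by group
  rwa [this] at h4

/-- **(H4)** `Q / Z` is irreducible for `P`. -/
theorem irr (hT : Tr R) {N : Subgroup Y} (hNQ : N ≤ QQ cs X) (hN : ∀ g ∈ PP cs X, ∀ x ∈ N, g * x * g⁻¹ ∈ N) :
    N ≤ X rho ∨ N = QQ cs X := by
  have : Finite W := finiteW cs
  by_cases hNZ : N ≤ X rho
  · exact Or.inl hNZ
  right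
  have F := gr R hL
  have hsep : ∀ b b' : Idx, b ≠ b' → ∃ g ∈ PP cs X, ∃ c, Op (X rho) (QQ cs X) (XX X) g c ∧
      ((c b ≠ none ∧ c b' = none) ∨ (c b = none ∧ c b' ≠ none)) := by
    intro b b' hbb
    obtain ⟨e, he, h⟩ := sep_le0 b.1 b.2 b'.1 b'.2 fun h => hbb (Subtype.ext h)
    obtain ⟨her, he0, hel⟩ := mem_le0.1 he
    have her' : IsRoot cs isCartan e := (mem_rts cs).2 her
    obtain ⟨g, hg, hg1⟩ := exists_ne R hL her'.neg
    refine ⟨g, ?_, cc he, op R hL he hg hg1, ?_⟩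
    · refine RGD.le_Sup (mem_Ge.2 ⟨her'.neg, ?_⟩) hg
      have : (-e) 0 = -(e 0) := rfl
      omega
    · rcases h with ⟨h1, h2⟩ | ⟨h1, h2⟩
      · left
        refine ⟨cc_ne_none.2 h1, ?_⟩
        by_contra h3
        exact h2 (cc_ne_none.1 h3)
      · right
        refine ⟨?_, cc_ne_none.2 h2⟩
        by_contra h3
        exact h1 (cc_ne_none.1 h3)
  obtain ⟨b, x, hx, hx1, z, hz, hxz⟩ := exists_single F hsep hNQ hN hNZ
  -- a long root
  obtain ⟨b, hb, hbl, x, hx, hx1, z, hz, hxz⟩ : ∃ b ∈ ph1, bf b b = 4 ∧ ∃ x ∈ X b, x ≠ 1 ∧ ∃ z ∈ X rho, x * z ∈ N := by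
    rcases norm cs (root_ph1 (cs := cs) b.2) with h | h
    · exact ⟨b.1, b.2, h, x, hx, hx1, z, hz, hxz⟩
    · obtain ⟨d, hd, hd0, hdd, hbd, hs, hsl⟩ := orth_ph1 b.1 b.2 h
      have hdr : IsRoot cs isCartan d := (mem_rts cs).2 hd
      obtain ⟨v, hv, hv1⟩ := hT b.1 d (root_ph1 b.2) hdr h hdd hbd (root_ph1 hs) x⁻¹ (inv_mem hx) (inv_ne_one.2 hx1)
      refine ⟨b.1 + d, hs, hsl, ⁅x⁻¹, v⁆, comm_sum R hL (root_ph1 b.2) hdr h hdd hbd (inv_mem hx) hv, hv1, 1,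
        one_mem _, ?_⟩
      have hvP : v ∈ PP cs X := RGD.le_Sup (mem_Ge.2 ⟨hdr, hd0.ge⟩) hv
      have h1 := mul_mem (inv_mem hxz) (hN v hvP _ hxz)
      have h5 : z * v⁻¹ = v⁻¹ * z := Z_central R hL hz (inv_mem hvP)
      have h6 : ⁅x⁻¹, v⁆ ∈ X (b.1 + d) := comm_sum R hL (root_ph1 b.2) hdr h hdd hbd (inv_mem hx) hv
      have h2 : (x * z)⁻¹ * (v * (x * z) * v⁻¹) = ⁅x⁻¹, v⁆ * 1 := by
        calc (x * z)⁻¹ * (v * (x * z) * v⁻¹) = z⁻¹ * (x⁻¹ * v * x) * (z * v⁻¹) := by group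
          _ = z⁻¹ * (x⁻¹ * v * x) * (v⁻¹ * z) := by rw [h5]
          _ = z⁻¹ * (⁅x⁻¹, v⁆ * z) := by rw [commutatorElement_def]; group
          _ = z⁻¹ * (z * ⁅x⁻¹, v⁆) := by
            rw [← Z_central R hL hz (QQ_le_PP (XX_le ⟨_, hs⟩ h6))]
          _ = _ := by group
      rw [h2] at h1
      exact h1
  have h1 : ∀ b' ∈ ph1, bf b' b' = 4 → X b' ≤ N := fun b' hb' hbl' => all_long R hL hN hb hbl hx hx1 hz hxz hb' hbl'
  refine eq_of_le F (Z_le_comm R hL) hNQ fun c x hx => ⟨1, one_mem _, ?_⟩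
  rw [mul_one]
  rcases norm cs (root_ph1 (cs := cs) c.2) with h | h
  · exact h1 c.1 c.2 h hx
  · exact all_short R hL hN h1 c.2 h hx

end

end Cfsg.Agent.KFacts.TwESix.Irr
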