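import Cfsg.Agent.KFacts.TwESix.Facts

/-!
# `²E₆(q)`: orthogonal short root groups do not commute

`nc`: if the long root groups satisfy `LR` and short root groups are larger than the long ones, then some orthogonal
short root groups do not commute.
-/

set_option autoImplicit false
set_option linter.unusedSectionVars false

namespace Cfsg.Agent.KFacts.TwESix.NonComm

open CoxeterSystem Cfsg.Agent.ChevalleyStructure.CoxeterGeom Cfsg.Agent.Tits.Roots Cfsg.Agent.Tits.Core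
  Cfsg.Agent.Tits.RootComb Cfsg.Agent.Tits.Exchange Cfsg.Agent.Nodes.Reps Cfsg.Agent.Nodes.BNOf
  Cfsg.Agent.Nodes.StabComb Cfsg.Agent.Nodes.Bruhat Cfsg.Agent.Nodes.OppDec
  Cfsg.Agent.Nodes.Coroot Cfsg.Agent.KFacts.RgdSL Cfsg.Agent.KFacts.RgdTI Cfsg.Agent.KFacts.RgdOdd
  Cfsg.Agent.KFacts.RgdEx
  Cfsg.Agent.Nodes.RGDTwE6 Cfsg.Agent.KFacts.TwESix.Comb Cfsg.Agent.KFacts.TwESix.CombRho
  Cfsg.Agent.KFacts.TwESix.Facts
open Cfsg.Lie
open scoped commutatorElement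

variable {W Y : Type*} [Group W] [Group Y] {cs : CoxeterSystem CoxeterMatrix.F₄ W} {T : Subgroup Y} {n : Fin 4 → Y}
  {X : (Fin 4 → ℤ) → Subgroup Y}

/-- `α₁` -/
def a1 : Fin 4 → ℤ := ![0, 1, 0, 0]
/-- `α₂` -/
def x1 : Fin 4 → ℤ := ![0, 0, 1, 0]
/-- `α₁ + α₂` -/
def y1 : Fin 4 → ℤ := ![0, 1, 1, 0]
/-- `α₁ + 2 α₂` -/
def l1 : Fin 4 → ℤ := ![0, 1, 2, 0]

theorem mem1 : a1 ∈ rts ∧ x1 ∈ rts ∧ y1 ∈ rts ∧ l1 ∈ rts := by decide +kernel

theorem bf1 : bf a1 a1 = 4 ∧ bf x1 x1 = 2 ∧ bf y1 y1 = 2 ∧ bf l1 l1 = 4 ∧ bf a1 x1 = -2 ∧ bf x1 y1 = 0 ∧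
    bf x1 l1 = 2 ∧ bf y1 l1 = 2 ∧ bf y1 a1 = 2 ∧ bf a1 (-x1) = 2 ∧ bf (-x1) y1 = 0 ∧ bf (-x1) a1 = 2 := by
  decide +kernel

theorem add1 : a1 + x1 = y1 ∧ a1 + (2 : ℤ) • x1 = l1 ∧ -x1 + y1 = a1 := by decide +kernel

theorem card_rep [Finite W] (R : RGD cs isCartan 2 T n X) (w : W) {x : Fin 4 → ℤ} (hx : IsRoot cs isCartan x) :
    Nat.card (X (rep cs isCartan w x)) = Nat.card (X x) := by
  obtain ⟨k, hk⟩ := exists_rp cs R.nsys w
  rw [← R.conj_rp hk hx]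
  exact Nat.card_congr ((X x).equivMapOfInjective (MulAut.conj k).toMonoidHom (MulAut.conj k).injective).symm.toEquiv

/-- **(NC)** -/
theorem nc [Finite Y] (R : RGD cs isCartan 2 T n X) (lr : ∀ a, IsRoot cs isCartan a → bf a a = 4 → LR R a)
    (hcard : Nat.card (X (sr 0)) < Nat.card (X (sr 3))) :
    ∃ x y, IsRoot cs isCartan x ∧ IsRoot cs isCartan y ∧ bf x x = 2 ∧ bf y y = 2 ∧ bf x y = 0 ∧
      ∃ u ∈ X x, ∃ v ∈ X y, u * v ≠ v * u := by
  have : Finite W := finiteW cs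
  by_contra hno
  push Not at hno
  obtain ⟨ma, mx, my, ml⟩ := mem1
  have ha := (mem_rts cs).2 ma
  have hx := (mem_rts cs).2 mx
  have hy := (mem_rts cs).2 my
  have hl := (mem_rts cs).2 ml
  obtain ⟨naa, nxx, nyy, nll, nax, nxy, nxl, nyl, nya, -, nxy', nxa'⟩ := bf1
  obtain ⟨e1, e2, e3⟩ := add1
  -- cards
  have hc : Nat.card (X l1) < Nat.card (X x1) := by
    obtain ⟨w, hw⟩ := exists_rep_long cs hl nll
    obtain ⟨v, hv⟩ := exists_rep_short cs hx nxx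
    rw [← hw, ← hv, card_rep R w (isRoot_sr cs isCartan 0), card_rep R v (isRoot_sr cs isCartan 3)]
    exact hcard
  obtain ⟨a, haX, ha1⟩ := exists_ne_one R ha
  have hcyl : ∀ c ∈ X y1, ∀ d ∈ X l1, c * d = d * c := fun c hc d hd =>
    (lr l1 hl nll).comm y1 hy ((ge_iff cs hl nll).2 (by rw [nyl]; norm_num)) c hc d hd
  have hcxl : ∀ c ∈ X x1, ∀ d ∈ X l1, c * d = d * c := fun c hc d hd =>
    (lr l1 hl nll).comm x1 hx ((ge_iff cs hl nll).2 (by rw [nxl]; norm_num)) c hc d hd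
  have hcxy : ∀ c ∈ X x1, ∀ d ∈ X y1, c * d = d * c := fun c hc d hd =>
    hno x1 y1 hx hy nxx nyy nxy c hc d hd
  have hdec : ∀ u ∈ X x1, ∃ c ∈ X y1, ∃ f ∈ X l1, ⁅a, u⁆ = c * f := by
    intro u hu
    have h1 := btw_135 R ha hx naa nxx nax haX hu
    rw [e1, e2] at h1
    have hle : X y1 ≤ Subgroup.normalizer (X l1 : Set Y) := by
      intro c hc
      rw [Subgroup.mem_normalizer_iff]
      intro d
      constructor
      · intro hd
        rw [hcyl c hc d hd, mul_inv_cancel_right]; exact hd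
      · intro hd
        have h2 := hcyl c hc _ hd
        have e : d = c⁻¹ * (c * d * c⁻¹ * c) := by group
        rw [← h2] at e
        rw [e, inv_mul_cancel_left]; exact hd
    rw [← SetLike.mem_coe, Subgroup.coe_mul_of_left_le_normalizer_right _ _ hle] at h1
    obtain ⟨w', hw', z, hz, e⟩ := h1
    exact ⟨w', hw', z, hz, e.symm⟩
  choose! c hcm f hfm hcf using hdec
  -- pigeonhole
  obtain ⟨u, u', hne, hf⟩ : ∃ u u' : X x1, u ≠ u' ∧ f u = f u' := by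
    by_contra h
    push Not at h
    have hinj : Function.Injective (fun u : X x1 => (⟨f u, hfm u u.2⟩ : X l1)) := by
      intro u u' huu
      by_contra hne
      exact h u u' hne (congrArg Subtype.val huu)
    exact absurd (Nat.card_le_card_of_injective _ hinj) (not_le.2 hc)
  -- `v = u u'`
  set v : Y := (u : Y) * (u' : Y) with hv
  have hvX : v ∈ X x1 := mul_mem u.2 u'.2
  have hv1 : v ≠ 1 := by
    intro h
    apply hne
    apply Subtype.ext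
    have h2 := inv_eq R hx u'.2
    rw [← h2]
    exact eq_inv_of_mul_eq_one_left h
  have hav : ⁅a, v⁆ ∈ X y1 := by
    have h1 : ⁅a, v⁆ = ⁅a, (u : Y)⁆ * ((u : Y) * ⁅a, (u' : Y)⁆ * (u : Y)⁻¹) := by
      rw [hv, commutatorElement_def, commutatorElement_def, commutatorElement_def]; group
    rw [h1, hcf u u.2, hcf u' u'.2]
    have h2 : (u : Y) * (c u' * f u') * (u : Y)⁻¹ = c u' * f u' := by
      have k1 := hcxy u u.2 _ (hcm u' u'.2)
      have k2 := hcxl u u.2 _ (hfm u' u'.2)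
      calc (u : Y) * (c u' * f u') * (u : Y)⁻¹ = ((u : Y) * c u') * f u' * (u : Y)⁻¹ := by group
        _ = c u' * ((u : Y) * f u') * (u : Y)⁻¹ := by rw [k1]; group
        _ = _ := by rw [k2]; group
    rw [h2, hf]
    have k3 := hcyl _ (hcm u' u'.2) _ (hfm u' u'.2)
    have h3 : c u * f u' * (c u' * f u') = c u * c u' := by
      rw [k3]
      calc c u * f u' * (f u' * c u') = c u * (f u' * f u') * c u' := by group
        _ = _ := by rw [sq R hl (hfm u' u'.2), mul_one]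
    rw [h3]
    exact mul_mem (hcm u u.2) (hcm u' u'.2)
  -- `m a m⁻¹ ∈ X l1 ∩ X a1 X y1`
  obtain ⟨s, hs', p, hp, p', hp', m, hm, he⟩ := exists_mu R hx hvX hv1
  have hcax : cpr cs isCartan a1 x1 = -2 := by
    have := cpr_short cs a1 hx nxx
    rw [this, nax]
  have hsa : rep cs isCartan s a1 = l1 := by
    rw [hs', hcax, ← e2]; module
  have h1 : m * a * m⁻¹ ∈ X l1 := by
    have := R.conj_mem hm ha haX
    rwa [hsa] at this
  have hpa : ∀ g ∈ X (-x1), g * a = a * g := fun g hg =>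
    (lr a1 ha naa).comm (-x1) hx.neg ((ge_iff cs ha naa).2 (by rw [nxa']; norm_num)) g hg a haX
  have h2 : m * a * m⁻¹ ∈ X a1 ⊔ X y1 := by
    have k1 : p' * a * p'⁻¹ = a := by rw [hpa p' hp']; group
    have k2 : m * a * m⁻¹ = ⁅p, ⁅a, v⁆⁻¹⁆ * ⁅a, v⁆⁻¹ * (p * a * p⁻¹) := by
      have : m * a * m⁻¹ = p * v * (p' * a * p'⁻¹) * v⁻¹ * p⁻¹ := by rw [he]; group
      rw [this, k1, commutatorElement_def, commutatorElement_def]; group
    rw [k2, hpa p hp, mul_inv_cancel_right]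
    have k3 : ⁅p, ⁅a, v⁆⁻¹⁆ ∈ X (-x1 + y1) :=
      orth_mem R hx.neg hy (by rw [bf_neg_left, bf_neg_right, neg_neg]; exact nxx) nyy nxy' hp (inv_mem hav)
    rw [e3] at k3
    exact mul_mem (mul_mem (Subgroup.mem_sup_left k3) (Subgroup.mem_sup_right (inv_mem hav)))
      (Subgroup.mem_sup_left haX)
  -- the two closed sets
  have hinf := Nodes.Unique.inf_eq R (S := {z | IsRoot cs isCartan z ∧ 0 ≤ z ∧ z 1 < z 2})
    (S' := {z | IsRoot cs isCartan z ∧ 0 ≤ z ∧ z 2 ≤ z 1}) (fun z hz => ⟨hz.1, hz.2.1⟩) (fun z hz => ⟨hz.1, hz.2.1⟩)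
    (by
      rintro x ⟨-, hx0, hx1⟩ y ⟨-, hy0, hy1⟩ z ⟨hz, m, a, b, hm, ha, hb, he⟩
      refine ⟨hz, fun i => ?_, ?_⟩
      · have h3 := congrFun he i
        simp only [Pi.add_apply, Pi.smul_apply, smul_eq_mul] at h3
        have h4 : 0 ≤ m * z i := by
          rw [h3]
          exact add_nonneg (mul_nonneg ha.le (hx0 i)) (mul_nonneg hb.le (hy0 i))
        exact nonneg_of_mul_nonneg_right h4 hm
      · have h3 := congrFun he 1
        have h4 := congrFun he 2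
        simp only [Pi.add_apply, Pi.smul_apply, smul_eq_mul] at h3 h4
        have h5 : m * z 1 < m * z 2 := by rw [h3, h4]; nlinarith
        exact lt_of_mul_lt_mul_left h5 hm.le)
    (by
      rintro x ⟨-, hx0, hx1⟩ y ⟨-, hy0, hy1⟩ z ⟨hz, m, a, b, hm, ha, hb, he⟩
      refine ⟨hz, fun i => ?_, ?_⟩
      · have h3 := congrFun he i
        simp only [Pi.add_apply, Pi.smul_apply, smul_eq_mul] at h3
        have h4 : 0 ≤ m * z i := by
          rw [h3]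
          exact add_nonneg (mul_nonneg ha.le (hx0 i)) (mul_nonneg hb.le (hy0 i))
        exact nonneg_of_mul_nonneg_right h4 hm
      · have h3 := congrFun he 1
        have h4 := congrFun he 2
        simp only [Pi.add_apply, Pi.smul_apply, smul_eq_mul] at h3 h4
        have h5 : m * z 2 ≤ m * z 1 := by rw [h3, h4]; nlinarith
        exact le_of_mul_le_mul_left h5 hm)
  have hpos : (0 : Fin 4 → ℤ) ≤ a1 ∧ (0 : Fin 4 → ℤ) ≤ y1 ∧ (0 : Fin 4 → ℤ) ≤ l1 := by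
    refine ⟨?_, ?_, ?_⟩ <;> intro i <;> fin_cases i <;> decide
  have h3 : m * a * m⁻¹ ∈ RGD.Sup X {z | IsRoot cs isCartan z ∧ 0 ≤ z ∧ z 1 < z 2} :=
    RGD.le_Sup (S := {z | IsRoot cs isCartan z ∧ 0 ≤ z ∧ z 1 < z 2}) ⟨hl, hpos.2.2, by decide⟩ h1
  have h4 : m * a * m⁻¹ ∈ RGD.Sup X {z | IsRoot cs isCartan z ∧ 0 ≤ z ∧ z 2 ≤ z 1} := by
    have k1 : X a1 ≤ RGD.Sup X {z | IsRoot cs isCartan z ∧ 0 ≤ z ∧ z 2 ≤ z 1} :=
      RGD.le_Sup (S := {z | IsRoot cs isCartan z ∧ 0 ≤ z ∧ z 2 ≤ z 1}) ⟨ha, hpos.1, by decide⟩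
    have k2 : X y1 ≤ RGD.Sup X {z | IsRoot cs isCartan z ∧ 0 ≤ z ∧ z 2 ≤ z 1} :=
      RGD.le_Sup (S := {z | IsRoot cs isCartan z ∧ 0 ≤ z ∧ z 2 ≤ z 1}) ⟨hy, hpos.2.1, by decide⟩
    exact (sup_le k1 k2) h2
  have h5 : m * a * m⁻¹ ∈ RGD.Sup X ({z | IsRoot cs isCartan z ∧ 0 ≤ z ∧ z 1 < z 2} ∩
      {z | IsRoot cs isCartan z ∧ 0 ≤ z ∧ z 2 ≤ z 1}) := by
    rw [← hinf]; exact ⟨h3, h4⟩
  have h6 : RGD.Sup X ({z | IsRoot cs isCartan z ∧ 0 ≤ z ∧ z 1 < z 2} ∩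
      {z | IsRoot cs isCartan z ∧ 0 ≤ z ∧ z 2 ≤ z 1}) ≤ ⊥ := by
    refine RGD.Sup_le ?_
    rintro z ⟨hz, hz'⟩
    have := hz.2.2
    have := hz'.2.2
    omega
  have h7 := Subgroup.mem_bot.1 (h6 h5)
  apply ha1
  have : a = m⁻¹ * (m * a * m⁻¹) * m := by group
  rw [this, h7]; group

end Cfsg.Agent.KFacts.TwESix.NonComm
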