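import Cfsg.Agent.KFacts.TwESix.NodeCoord
import Cfsg.Agent.Nodes.RGDTwNode
import Cfsg.Agent.Schreier.TwESix

/-!
# The `p`-part of the outer automorphism group of `²E₆(q)`

* `FTau` : `β` fixes the nodes and acts on the root groups with the field automorphism `τ` of `K`, `|K| = q²`;
* `exists_field` : a `p`-group `S` of automorphisms fixing `U` embeds, modulo the inner automorphisms from `U`, in
  `Aut K`;
* `isCyclic_quotient`.
-/

set_option autoImplicit false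
set_option linter.unusedSectionVars false
set_option maxHeartbeats 400000

namespace Cfsg.Agent.KFacts.TwESix.Out

open CoxeterSystem Cfsg.Agent.ChevalleyStructure.CoxeterGeom Cfsg.Agent.Tits.Roots Cfsg.Agent.Tits.Core
  Cfsg.Agent.Tits.Exchange Cfsg.Agent.Nodes.Reps Cfsg.Agent.Nodes.BNOf Cfsg.Agent.Nodes.StabComb
  Cfsg.Agent.Nodes.Bruhat Cfsg.Agent.Nodes.OppDec Cfsg.Agent.Nodes.RGDTwGen Cfsg.Agent.Nodes.RGDChev
  Cfsg.Agent.Nodes.RGDFold Cfsg.Agent.Nodes.RGDFoldSL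
open Cfsg.Agent.KFacts.RgdOpp Cfsg.Agent.KFacts.RgdAut Cfsg.Agent.KFacts.RgdDiag Cfsg.Agent.KFacts.RgdRigid
  Cfsg.Agent.KFacts.RgdField Cfsg.Agent.KFacts.RgdTau Cfsg.Agent.KFacts.RgdNodes
open Cfsg.Agent.KFacts.RgdChevCoord (closure_sq)
open Cfsg.Lie Cfsg.Agent.ChevalleyStructure Cfsg.Agent.ChevalleyStructure.Elts
  Cfsg.Agent.ChevalleyStructure.TwistedU Cfsg.Agent.ChevalleyStructure.TwistedFix
  Cfsg.Agent.ChevalleyStructure.TwistedFixOrbit
open Cfsg.Agent.ChevalleyStructure.SL2Hom (up lo)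
open Cfsg.Agent.KFacts.TwESix.NodeCoord
open Cfsg.Agent.ChevalleyStructure.TwE6Basic (hE6)
open Cfsg.Agent.Schreier.TwESix (hG_conj_of)

universe u

/-! ### field automorphisms of adjacent nodes -/

section Rel

variable {I W Y : Type*} [Fintype I] [DecidableEq I] [Group W] [Group Y] {M : CoxeterMatrix I}
  {cs : CoxeterSystem M W} {A : I → I → ℤ} {h : IsCartan M A} {p : ℕ} {T : Subgroup Y} {n : I → Y}
  {X : (I → ℤ) → Subgroup Y} {F F' : Type*} [Field F] [Field F'] {Φ : Matrix.SpecialLinearGroup (Fin 2) F →* Y}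

/-- The field automorphisms of two adjacent nodes agree. -/
theorem tau_eq [Finite W] [Finite F] (R : RGD cs h p T n X) {i : I} (hX : ∀ g, g ∈ X (sr i) ↔ ∃ a, g = Φ (up a))
    (hw : Φ (wS 1) = n i) (hT : ∀ d, d ≠ 0 → Φ (hS d) ∈ T) {χ : Y → F} {χ' : Y → F'} {em : F →+* F'}
    (h1 : ∀ d, d ≠ 0 → χ (Φ (hS d)) = d ^ 2) (h2 : ∀ d, d ≠ 0 → χ' (Φ (hS d)) = (em d)⁻¹)
    {β : MulAut Y} (D : Diag T X β 1) {τ : F ≃+* F} {τ' : F' ≃+* F'} (hτ : ∀ t ∈ T, χ (β t) = τ (χ t))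
    (hτ' : ∀ t ∈ T, χ' (β t) = τ' (χ' t)) (a : F) : τ' (em a) = em (τ a) := by
  let S : AddSubgroup F := AddMonoidHom.eqLocus ((τ' : F' →+ F').comp (em : F →+ F')) ((em : F →+ F').comp (τ : F →+ F))
  have hS : S = ⊤ := by
    apply closure_sq
    intro d hd
    obtain ⟨d', hd', e⟩ := exists_hS R hX hw hT D hd
    have e1 := hτ _ (hT d hd)
    have e2 := hτ' _ (hT d hd)
    rw [e, h1 d' hd', h1 d hd] at e1
    rw [e, h2 d' hd', h2 d hd, map_inv₀] at e2
    have e3 := inv_injective e2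
    show τ' (em (d ^ 2)) = em (τ (d ^ 2))
    rw [← e1, map_pow, map_pow, map_pow, e3]
  have h3 : a ∈ S := by rw [hS]; exact AddSubgroup.mem_top a
  exact h3

end Rel

/-! ### the node data of `²E₆(q)` -/

section Data

open Cfsg.Agent.Nodes.RGDTwE6 Cfsg.Agent.Nodes.RGDTwNode.E6

variable {K : Type u} [Field K] [Fintype K] {q : ℕ} {φ : K →+* K} (hφ : ∀ x, φ x = x ^ q)
  (hqq : ∀ t : K, (t ^ q) ^ q = t)

/-- the coordinate field of the node `i` -/
abbrev KF (φ : K →+* K) (i : Fin 4) : Subfield K := Fx φ ((rest i).length + 1)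

theorem hf (i : Fin 4) : ∀ s ∈ rep i :: rest i, ∀ t : K, ((TwistedE6Sigma.eps s : ℤ) : K) * φ t = φ t := by
  intro s hs t
  rw [eps_one i s hs, Int.cast_one, one_mul]

/-- The homomorphism `SL₂ → ²E₆(q)` of the node `i`. -/
noncomputable def PhiE (i : Fin 4) : Matrix.SpecialLinearGroup (Fin 2) (KF φ i) →* ↥(twistedE6 K q) :=
  Phi (foldGrp hφ hqq) (nodeOK i) (hf i)

/-- The scalar of a torus element on the simple root group `i`. -/
noncomputable def chE (i : Fin 4) (t : ↥(twistedE6 K q)) : KF φ i :=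
  ch (foldGrp hφ hqq) (nodeOK i) (hf i) t

theorem coordE (i : Fin 4) : Coord (T K q) (X φ q (sr i)) (fun a => PhiE hφ hqq i (up a)) (chE hφ hqq i) :=
  coord (foldGrp hφ hqq) (nodeOK i) (hf i)

theorem mem_X (i : Fin 4) (g : ↥(twistedE6 K q)) : g ∈ X φ q (sr i) ↔ ∃ a, g = PhiE hφ hqq i (up a) :=
  mem_X_iff (foldGrp hφ hqq) (nodeOK i) (hf i) g

theorem PhiE_wS (i : Fin 4) : PhiE hφ hqq i (wS 1) = nn hφ i :=
  Phi_wS (foldGrp hφ hqq) (nodeOK i) (hf i)

theorem PhiE_hS (i : Fin 4) (d : KF φ i) (hd : d ≠ 0) : PhiE hφ hqq i (hS d) ∈ T K q :=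
  Phi_hS (foldGrp hφ hqq) (nodeOK i) (hf i) hd

theorem chE_hS (i : Fin 4) (d : KF φ i) (hd : d ≠ 0) : chE hφ hqq i (PhiE hφ hqq i (hS d)) = d ^ 2 :=
  ch_hS (foldGrp hφ hqq) (nodeOK i) (hf i) hd

theorem coe_PhiE_hS (i : Fin 4) (d : KF φ i) : ((PhiE hφ hqq i (hS d) : ↥(twistedE6 K q)) : GL chevE6.Idx K) =
    hv (psi hE6 K) φ (rep i :: rest i) (hS (d : K)) := by
  show Ph hp K (nodeOK i) φ (Matrix.SpecialLinearGroup.map _ (hS d)) = _
  rw [map_hS]
  rfl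

theorem hv_one {a : ℕ} (ha : a < chevE6.nroots) (d : K) : hv (psi hE6 K) φ [a] (hS d) = hG hE6 a d := by
  show psi hE6 K a (hS d) * 1 = _
  rw [mul_one, psi_hS hE6 ha]

theorem hv_two {a b : ℕ} (ha : a < chevE6.nroots) (hb : b < chevE6.nroots) (d : K) :
    hv (psi hE6 K) φ [a, b] (hS d) = hG hE6 a d * hG hE6 b (φ d) := by
  show psi hE6 K a (hS d) * (psi hE6 K b (Matrix.SpecialLinearGroup.map φ (hS d)) * 1) = _
  rw [mul_one, map_hS, psi_hS hE6 ha, psi_hS hE6 hb]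

theorem chE_eq (j : Fin 4) {t : ↥(twistedE6 K q)} (ht : t ∈ T K q) {c : K}
    (hc : (t : GL chevE6.Idx K) * xG hE6 (rep j) 1 * (t : GL chevE6.Idx K)⁻¹ = xG hE6 (rep j) c) :
    (chE hφ hqq j t : K) = c :=
  ch_eq (foldGrp hφ hqq) (nodeOK j) (hf j) ht hc

theorem ch01 (d : KF φ 0) (hd : d ≠ 0) : (chE hφ hqq 1 (PhiE hφ hqq 0 (hS d)) : K) = (d : K)⁻¹ := by
  have hd' : (d : K) ≠ 0 := fun h => hd (Subtype.ext h)
  apply chE_eq hφ hqq 1 (PhiE_hS hφ hqq 0 d hd)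
  rw [coe_PhiE_hS]
  have e : hv (psi hE6 K) φ (rep 0 :: rest 0) (hS (d : K)) = hG hE6 46 (d : K) := hv_one (by decide +kernel) _
  have h := hG_conj_of (K := K) (i := 1) (s := 39) (by norm_num) (by norm_num) hd' (r := 46)
    (by decide +kernel) (k := -1) (by decide +kernel) 1
  rw [zpow_neg_one, mul_one] at h
  rw [e]
  exact h

theorem ch12 (d : KF φ 1) (hd : d ≠ 0) : (chE hφ hqq 2 (PhiE hφ hqq 1 (hS d)) : K) = (d : K)⁻¹ := by
  have hd' : (d : K) ≠ 0 := fun h => hd (Subtype.ext h)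
  apply chE_eq hφ hqq 2 (PhiE_hS hφ hqq 1 d hd)
  rw [coe_PhiE_hS]
  have e : hv (psi hE6 K) φ (rep 1 :: rest 1) (hS (d : K)) = hG hE6 39 (d : K) := hv_one (by decide +kernel) _
  have h := hG_conj_of (K := K) (i := 3) (s := 42) (by norm_num) (by norm_num) hd' (r := 39)
    (by decide +kernel) (k := -1) (by decide +kernel) 1
  rw [zpow_neg_one, mul_one] at h
  rw [e]
  exact h

theorem ch32 (d : KF φ 3) (hd : d ≠ 0) : (chE hφ hqq 2 (PhiE hφ hqq 3 (hS d)) : K) = (d : K)⁻¹ := by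
  have hd' : (d : K) ≠ 0 := fun h => hd (Subtype.ext h)
  have hd1 : φ (d : K) ≠ 0 := (map_ne_zero φ).2 hd'
  apply chE_eq hφ hqq 2 (PhiE_hS hφ hqq 3 d hd)
  rw [coe_PhiE_hS]
  have e : hv (psi hE6 K) φ (rep 3 :: rest 3) (hS (d : K)) = hG hE6 56 (d : K) * hG hE6 36 (φ d) :=
    hv_two (by decide +kernel) (by decide +kernel) _
  have h := hG_conj_of (K := K) (i := 0) (s := 42) (by norm_num) (by norm_num) hd' (r := 56)
    (by decide +kernel) (k := -1) (by decide +kernel) 1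
  have h' := hG_conj_of (K := K) (i := 5) (s := 42) (by norm_num) (by norm_num) hd1 (r := 36)
    (by decide +kernel) (k := 0) (by decide +kernel) 1
  rw [zpow_zero, one_mul] at h'
  rw [zpow_neg_one, mul_one] at h
  have e2 : ∀ a b g : GL chevE6.Idx K, a * b * g * (a * b)⁻¹ = a * (b * g * b⁻¹) * a⁻¹ := by
    intro a b g; group
  rw [e, e2]
  have h'' : hG hE6 36 (φ d) * xG hE6 (rep 2) 1 * (hG hE6 36 (φ d))⁻¹ = xG hE6 (rep 2) 1 := h'
  rw [h'']
  exact h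

theorem F1_le_F2 : Fx φ 1 ≤ Fx φ 2 := by
  intro a ha
  rw [mem_Fx] at ha ⊢
  rw [Function.iterate_succ_apply, Function.iterate_one, show φ a = a from ha]
  exact ha

theorem F2_eq_top (hφ : ∀ x, φ x = x ^ q) (hqq : ∀ t : K, (t ^ q) ^ q = t) : Fx φ 2 = ⊤ := by
  rw [eq_top_iff]
  intro a _
  rw [mem_Fx, Function.iterate_succ_apply, Function.iterate_one, hφ, hφ, hqq]

/-- `β` fixes the nodes and acts on the simple root groups with the field automorphism `τ` of `K`. -/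
structure FTau (β : MulAut ↥(twistedE6 K q)) (τ : K ≃+* K) : Prop where
  diag : Diag (T K q) (X φ q) β 1
  char : ∀ i, ∀ t ∈ T K q, (chE hφ hqq i (β t) : K) = τ (chE hφ hqq i t : K)

variable {W : Type*} [Group W] (cs : CoxeterSystem CoxeterMatrix.F₄ W)

theorem FTau.one : FTau hφ hqq (1 : MulAut ↥(twistedE6 K q)) 1 := ⟨Diag.one, fun _ _ _ => rfl⟩

theorem FTau.mul {β β' : MulAut ↥(twistedE6 K q)} {τ τ' : K ≃+* K} (S : FTau hφ hqq β τ)
    (S' : FTau hφ hqq β' τ') : FTau hφ hqq (β * β') (τ * τ') where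
  diag := by
    have := S.diag.mul S'.diag
    rwa [mul_one] at this
  char i t ht := by
    rw [MulAut.mul_apply, S.char _ _ ((S'.diag.tor t).2 ht), S'.char i t ht]
    rfl

theorem FTau.unique {β : MulAut ↥(twistedE6 K q)} {τ τ' : K ≃+* K} (S : FTau hφ hqq β τ)
    (S' : FTau hφ hqq β τ') : τ = τ' := by
  let E : AddSubgroup K := AddMonoidHom.eqLocus (τ : K →+ K) (τ' : K →+ K)
  have hE : E = ⊤ := by
    apply closure_sq
    intro d hd
    have h1 : d ∈ KF φ 2 := by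
      have := F2_eq_top hφ hqq
      show d ∈ Fx φ 2
      rw [this]
      exact Subfield.mem_top d
    have h2 : (⟨d, h1⟩ : KF φ 2) ≠ 0 := fun h => hd (congrArg Subtype.val h)
    have h3 := S.char 2 _ (PhiE_hS hφ hqq 2 ⟨d, h1⟩ h2)
    have h4 := S'.char 2 _ (PhiE_hS hφ hqq 2 ⟨d, h1⟩ h2)
    rw [h3, chE_hS hφ hqq 2 _ h2] at h4
    exact h4
  ext a
  have h3 : a ∈ E := by rw [hE]; exact AddSubgroup.mem_top a
  exact h3

include cs in
/-- **One field automorphism.** -/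
theorem exists_ftau (p : ℕ) [Fact p.Prime] [CharP K p] [Finite W] {β : MulAut ↥(twistedE6 K q)}
    (D : Diag (T K q) (X φ q) β 1) : ∃ τ : K ≃+* K, FTau hφ hqq β τ := by
  have R := Cfsg.Agent.Nodes.RGDTwE6.rgd cs hφ hqq p
  obtain ⟨τ, S⟩ := exists_ntau (coordE hφ hqq) D
  have key : ∀ i j : Fin 4, ∀ hle : KF φ i ≤ KF φ j,
      (∀ d : KF φ i, d ≠ 0 → (chE hφ hqq j (PhiE hφ hqq i (hS d)) : K) = (d : K)⁻¹) →
      ∀ a : KF φ i, (τ j (Subfield.inclusion hle a) : K) = (τ i a : K) := by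
    intro i j hle hch a
    have h1 := tau_eq R (i := i) (mem_X hφ hqq i) (PhiE_wS hφ hqq i) (PhiE_hS hφ hqq i)
      (χ := chE hφ hqq i) (χ' := chE hφ hqq j) (em := Subfield.inclusion hle) (chE_hS hφ hqq i)
      (fun d hd => Subtype.ext (hch d hd)) D (fun t ht => S.char i t ht) (fun t ht => S.char j t ht) a
    exact congrArg Subtype.val h1
  have h01 := key 0 1 le_rfl (ch01 hφ hqq)
  have h12 := key 1 2 F1_le_F2 (ch12 hφ hqq)
  have h32 := key 3 2 le_rfl (ch32 hφ hqq)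
  let e : KF φ 2 ≃+* K := (RingEquiv.subfieldCongr (F2_eq_top hφ hqq)).trans Subfield.topEquiv
  have he : ∀ a : KF φ 2, e a = (a : K) := fun a => rfl
  have hes : ∀ a : KF φ 2, e.symm (a : K) = a := fun a => by rw [← he, e.symm_apply_apply]
  refine ⟨(e.symm.trans (τ 2)).trans e, D, ?_⟩
  have h2 : ∀ a : KF φ 2, ((e.symm.trans (τ 2)).trans e) (a : K) = (τ 2 a : K) := by
    intro a
    show e (τ 2 (e.symm (a : K))) = _
    rw [hes, he]
  have h3 : ∀ i : Fin 4, ∀ a : KF φ i, ((e.symm.trans (τ 2)).trans e) (a : K) = (τ i a : K) := by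
    intro i
    have hi : i = 0 ∨ i = 1 ∨ i = 2 ∨ i = 3 := by fin_cases i <;> simp
    rcases hi with rfl | rfl | rfl | rfl
    · intro a
      let b : KF φ 1 := Subfield.inclusion (le_rfl : KF φ 0 ≤ KF φ 1) a
      exact (h2 (Subfield.inclusion F1_le_F2 b)).trans ((h12 b).trans (h01 a))
    · intro a
      exact (h2 (Subfield.inclusion F1_le_F2 a)).trans (h12 a)
    · exact h2
    · intro a
      exact (h2 (Subfield.inclusion le_rfl a)).trans (h32 a)
  intro i t ht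
  rw [h3, S.char i t ht]

end Data

end Cfsg.Agent.KFacts.TwESix.Out
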