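import Cfsg.Agent.KFacts.TwESix.OutTwo

/-!
# The `p`-part of the outer automorphism group of `²E₆(q)`: the statement without coordinates

`exists_hom` : for a `p`-group `S` of automorphisms of `G ≅ ²E₆(q)` there is a homomorphism of `S` to the Galois group
of `K` with kernel the inner automorphisms in `S`. `isCyclic_quotient` : `S / (S ∩ Inn G)` is cyclic.
-/

set_option autoImplicit false

namespace Cfsg.Agent.KFacts.TwESix.OutMain

open Cfsg.Lie Cfsg.Agent.KFacts.TwESix.OutTwo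
open Cfsg.Agent.ChevalleyStructure.TwE6Basic (exists_frob)

universe u

variable {K : Type u} [Field K] [Fintype K] {q : ℕ}

theorem exists_hom_model (hq : IsPrimePow q) (hK : Fintype.card K = q ^ 2) (p : ℕ) [Fact p.Prime] [CharP K p]
    {S : Subgroup (MulAut ↥(twistedE6 K q))} (hS : IsPGroup p ↥S) :
    ∃ f : ↥S →* (K ≃+* K), ∀ α : ↥S, f α = 1 ↔ ∃ x, α.1 = MulAut.conj x := by
  obtain ⟨φ, hφ, hqq⟩ := exists_frob hq hK
  have : Finite CoxeterMatrix.F₄.Group :=
    Nodes.RGDFold.finite_W (hp := Nodes.RGDTwE6.hp) CoxeterMatrix.F₄.toCoxeterSystem Nodes.RGDTwE6.isCartan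
      Nodes.RGDTwE6.foldData
  obtain ⟨g, f, -, hf⟩ := exists_outer hφ hqq CoxeterMatrix.F₄.toCoxeterSystem hK hq.one_lt p hS
  exact ⟨f, fun α => (hf α).2⟩

/-- **Automorphisms of `²E₆(q)` of `p`-power order.** -/
theorem exists_hom {G : Type*} [Group G] (hq : IsPrimePow q) (hK : Fintype.card K = q ^ 2)
    (e : G ≃* ↥(twistedE6 K q)) (p : ℕ) [Fact p.Prime] [CharP K p] {S : Subgroup (MulAut G)} (hS : IsPGroup p ↥S) :
    ∃ f : ↥S →* (K ≃+* K), ∀ α : ↥S, f α = 1 ↔ ∃ x, α.1 = MulAut.conj x := by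
  let c : MulAut G →* MulAut ↥(twistedE6 K q) := (MulAut.congr e).toMonoidHom
  have hc : ∀ (α : MulAut G) (x : G), c α (e x) = e (α x) := by
    intro α x
    show e (α (e.symm (e x))) = e (α x)
    rw [e.symm_apply_apply]
  obtain ⟨f, hf⟩ := exists_hom_model hq hK p (hS.map c)
  refine ⟨f.comp (c.subgroupMap S), fun α => (hf _).trans ⟨?_, ?_⟩⟩
  · rintro ⟨x, hx⟩
    have hx' : c α.1 = MulAut.conj x := hx
    refine ⟨e.symm x, ?_⟩
    ext y
    apply e.injective
    rw [← hc, hx', MulAut.conj_apply, MulAut.conj_apply, map_mul, map_mul, map_inv, e.apply_symm_apply]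
  · rintro ⟨x, hx⟩
    refine ⟨e x, ?_⟩
    show c α.1 = MulAut.conj (e x)
    ext y
    obtain ⟨z, rfl⟩ := e.surjective y
    rw [hc, hx, MulAut.conj_apply, MulAut.conj_apply, map_mul, map_mul, map_inv]

/-- **The outer automorphism group of `²E₆(q)` has cyclic Sylow `p`-subgroups.** -/
theorem isCyclic_quotient {G : Type*} [Group G] (hq : IsPrimePow q) (hK : Fintype.card K = q ^ 2)
    (e : G ≃* ↥(twistedE6 K q)) (p : ℕ) [Fact p.Prime] [CharP K p] {S : Subgroup (MulAut G)} (hS : IsPGroup p ↥S) :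
    ∃ f : ↥S →* (K ≃+* K), f.ker = (MulAut.conj : G →* MulAut G).range.subgroupOf S ∧ IsCyclic ↥f.range ∧
      IsCyclic (↥S ⧸ f.ker) := by
  obtain ⟨f, hf⟩ := exists_hom hq hK e p hS
  have hcyc : IsCyclic (K ≃+* K) := Cfsg.Agent.LieRecognition.FieldSemilinear.isCyclic_ringAut K
  have h1 : IsCyclic ↥f.range := inferInstance
  refine ⟨f, ?_, h1, ?_⟩
  · ext α
    rw [MonoidHom.mem_ker, hf, Subgroup.mem_subgroupOf]
    exact ⟨fun ⟨x, hx⟩ => ⟨x, hx.symm⟩, fun ⟨x, hx⟩ => ⟨x, hx.symm⟩⟩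
  · exact isCyclic_of_surjective (QuotientGroup.quotientKerEquivRange f).symm.toMonoidHom
      (QuotientGroup.quotientKerEquivRange f).symm.surjective

end Cfsg.Agent.KFacts.TwESix.OutMain
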